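import Groth.Agent.H83.MultType.Lift

/-! Quotients of diagonalisable groups over a field, and a criterion for multiplicative type. -/

set_option autoImplicit false

universe u

open TensorProduct

namespace Groth.Agent.H83.MultType

set_option synthInstance.maxHeartbeats 200000 in
set_option maxHeartbeats 800000 in
/-- Transitivity of extension of scalars, as bialgebras. -/
theorem exists_towerEquiv (R L S : Type u) [CommRing R] [CommRing L] [CommRing S] [Algebra R L] [Algebra L S]
    [Algebra R S] [IsScalarTower R L S] (A : Type u) [CommRing A] [HopfAlgebra R A] :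
    ∃ T : S ⊗[R] A ≃ₐc[S] S ⊗[L] (L ⊗[R] A), ∀ (s : S) (a : A), T (s ⊗ₜ[R] a) = s ⊗ₜ[L] ((1 : L) ⊗ₜ[R] a) := by
  let T : S ⊗[L] (L ⊗[R] A) ≃ₐ[S] S ⊗[R] A := Algebra.TensorProduct.cancelBaseChange R L S S A
  have hT : ∀ (s : S) (a : A), T.symm (s ⊗ₜ[R] a) = s ⊗ₜ[L] ((1 : L) ⊗ₜ[R] a) := fun s a => by
    rw [AlgEquiv.symm_apply_eq]
    simp [T]
  refine ⟨BialgEquiv.ofAlgEquiv (R := S) (A := S ⊗[R] A) (B := S ⊗[L] (L ⊗[R] A)) T.symm
    (by
      ext a
      simp [hT, TensorProduct.counit_tmul, Algebra.algebraMap_eq_smul_one])
    (by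
      ext a
      simp only [AlgHom.comp_apply, AlgHom.coe_restrictScalars', Algebra.TensorProduct.includeRight_apply]
      show Algebra.TensorProduct.map T.symm.toAlgHom T.symm.toAlgHom (CoalgebraStruct.comul (R := S) ((1 : S) ⊗ₜ[R] a)) =
        CoalgebraStruct.comul (R := S) (T.symm ((1 : S) ⊗ₜ[R] a))
      rw [hT, TensorProduct.comul_tmul, TensorProduct.comul_tmul, TensorProduct.comul_tmul, Bialgebra.comul_one, Bialgebra.comul_one]
      generalize CoalgebraStruct.comul (R := R) a = z
      induction z using TensorProduct.induction_on with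
      | zero => simp
      | tmul b c => simp [hT, Algebra.TensorProduct.one_def, Algebra.TensorProduct.map_tmul]
      | add b c hb hc => simp only [TensorProduct.tmul_add, map_add, hb, hc]), hT⟩

/-- Diagonalisable after one faithfully flat base change implies multiplicative type. -/
theorem isMultType_of_diag {R : Type u} [CommRing R] {A : Type u} [CommRing A] [HopfAlgebra R A] (S : Type u)
    [CommRing S] [Algebra R S] [hS : Module.FaithfullyFlat R S] (h : SGA3b.IsDiag S (S ⊗[R] A)) :
    SGA3b.IsMultType R A := by
  refine ⟨{1}, Ideal.span_singleton_one, fun f hf => ?_⟩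
  rw [Set.mem_singleton_iff] at hf
  subst hf
  let ε : R ≃ₐ[R] Localization.Away (1 : R) := IsLocalization.atOne R (Localization.Away (1 : R))
  let g : Localization.Away (1 : R) →+* S := (algebraMap R S).comp (ε.symm.toAlgHom.toRingHom)
  letI algLS : Algebra (Localization.Away (1 : R)) S := g.toAlgebra
  haveI : IsScalarTower R (Localization.Away (1 : R)) S := IsScalarTower.of_algebraMap_eq fun r => by
    show algebraMap R S r = algebraMap R S (ε.symm (algebraMap R _ r))
    rw [AlgEquiv.commutes]; rfl
  have hff : g.FaithfullyFlat :=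
    RingHom.FaithfullyFlat.stableUnderComposition _ _ (RingHom.FaithfullyFlat.of_bijective ε.symm.bijective)
      (RingHom.faithfullyFlat_algebraMap_iff.mpr hS)
  obtain ⟨T, -⟩ := exists_towerEquiv R (Localization.Away (1 : R)) S A
  obtain ⟨M, _, ⟨e⟩⟩ := h
  exact ⟨S, inferInstance, algLS, hff, M, inferInstance, ⟨T.symm.trans e⟩⟩

/-- Over a field, a quotient of a diagonalisable group algebra is diagonalisable. -/
theorem exists_quotient_group {K : Type u} [Field K] {M : Type u} [CommGroup M] {B : Type u} [CommRing B]
    [HopfAlgebra K B] (π : MonoidAlgebra K M →ₐc[K] B) (hπ : Function.Surjective π) :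
    ∃ (Q : Type u) (_ : CommGroup Q) (q : M →* Q), Function.Surjective q ∧ Nonempty (B ≃ₐc[K] MonoidAlgebra K Q) := by
  classical
  let g : M →* B := (π : MonoidAlgebra K M →ₐ[K] B).toMonoidHom.comp (MonoidAlgebra.of K M)
  let h : (M ⧸ MonoidHom.ker g) →* B := QuotientGroup.lift (MonoidHom.ker g) g le_rfl
  have hh : ∀ m : M, h (QuotientGroup.mk m) = g m := fun m => rfl
  have hgl : ∀ q : M ⧸ MonoidHom.ker g, IsGroupLikeElem K (h q) := by
    intro q
    induction q using QuotientGroup.induction_on with
    | H m =>
      rw [hh]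
      refine IsGroupLikeElem.map π ⟨?_, ?_⟩
      · simp [MonoidAlgebra.of_apply]
      · simp [MonoidAlgebra.of_apply]
  have hinj : Function.Injective h := by
    intro q q'
    induction q using QuotientGroup.induction_on with
    | H m =>
      induction q' using QuotientGroup.induction_on with
      | H m' =>
        intro hm
        apply QuotientGroup.eq.mpr
        show g (m⁻¹ * m') = 1
        rw [hh, hh] at hm
        rw [map_mul, ← hm, ← map_mul, inv_mul_cancel, map_one]
  let ψa : MonoidAlgebra K (M ⧸ MonoidHom.ker g) →ₐ[K] B := MonoidAlgebra.lift K B _ h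
  let ψ : MonoidAlgebra K (M ⧸ MonoidHom.ker g) →ₐc[K] B := BialgHom.ofAlgHom ψa
    (by
      ext q
      simp [ψa, (hgl q).counit_eq_one])
    (by
      ext q
      simp [ψa, (hgl q).comul_eq_tmul_self])
  have hψs : Function.Surjective ψ := fun b => by
    obtain ⟨x, rfl⟩ := hπ b
    refine ⟨MonoidAlgebra.mapDomainAlgHom K K (QuotientGroup.mk' (MonoidHom.ker g)) x, ?_⟩
    show ψa _ = (π : MonoidAlgebra K M →ₐ[K] B) x
    rw [← AlgHom.comp_apply]
    congr 1
    ext m
    simp [ψa]
    first | rfl | exact hh m
  have hli : LinearIndependent K (fun q : M ⧸ MonoidHom.ker g => h q) :=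
    (linearIndepOn_isGroupLikeElem (R := K) (A := B)).linearIndependent.comp (fun q => ⟨h q, hgl q⟩)
      (fun a b hab => hinj (congrArg Subtype.val hab))
  have hψi : Function.Injective ψ := by
    intro x y hxy
    apply (MonoidAlgebra.coeffLinearEquiv K).injective
    apply hli.finsuppLinearCombination_injective
    have key : ∀ z : MonoidAlgebra K (M ⧸ MonoidHom.ker g),
        Finsupp.linearCombination K (fun q => h q) (MonoidAlgebra.coeffLinearEquiv K z) = ψ z := by
      intro z
      show _ = ψa z
      rw [MonoidAlgebra.lift_apply, Finsupp.linearCombination_apply]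
      rfl
    rw [key, key, hxy]
  exact ⟨M ⧸ MonoidHom.ker g, inferInstance, QuotientGroup.mk' _, QuotientGroup.mk'_surjective _,
    ⟨(BialgEquiv.ofBijective ψ ⟨hψi, hψs⟩).symm⟩⟩

set_option synthInstance.maxHeartbeats 200000 in
set_option maxHeartbeats 800000 in
/-- A diagonalisation over `S` gives a presentation over every `S`-algebra. -/
theorem exists_baseChange_presentation {R : Type u} [CommRing R] {A : Type u} [CommRing A] [HopfAlgebra R A]
    {S : Type u} [CommRing S] [Algebra R S] {P : Type u} [CommGroup P] (e : (S ⊗[R] A) ≃ₐc[S] MonoidAlgebra S P)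
    (K : Type u) [CommRing K] [Algebra R K] [Algebra S K] [IsScalarTower R S K] :
    ∃ π : MonoidAlgebra K P →ₐc[K] K ⊗[R] A, Function.Surjective π := by
  classical
  obtain ⟨T, hT⟩ := exists_towerEquiv R S K A
  let σ : S ⊗[R] A →ₐ[S] K ⊗[S] (S ⊗[R] A) := Algebra.TensorProduct.includeRight
  let γ : P →* K ⊗[R] A :=
    (T.symm : K ⊗[S] (S ⊗[R] A) →ₐc[K] K ⊗[R] A).toAlgHom.toMonoidHom.comp
      (σ.toMonoidHom.comp ((e.symm : MonoidAlgebra S P →ₐc[S] S ⊗[R] A).toAlgHom.toMonoidHom.comp (MonoidAlgebra.of S P)))
  have hγ : ∀ p, γ p = T.symm ((1 : K) ⊗ₜ[S] e.symm (MonoidAlgebra.single p 1)) := fun p => rfl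
  have hgl : ∀ p, IsGroupLikeElem K (γ p) := fun p => by
    rw [hγ]
    have h1 : IsGroupLikeElem S (MonoidAlgebra.single p (1 : S)) := ⟨by simp, by simp⟩
    exact (groupLike_baseChange K (h1.map e.symm)).map T.symm
  let ψa : MonoidAlgebra K P →ₐ[K] K ⊗[R] A := MonoidAlgebra.lift K (K ⊗[R] A) P γ
  let ψ : MonoidAlgebra K P →ₐc[K] K ⊗[R] A := BialgHom.ofAlgHom ψa
    (by
      ext q
      simp [ψa, (hgl q).counit_eq_one])
    (by
      ext q
      simp [ψa, (hgl q).comul_eq_tmul_self])
  refine ⟨ψ, ?_⟩
  have key : ∀ z : K ⊗[S] (S ⊗[R] A), T.symm z ∈ LinearMap.range ψa.toLinearMap := by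
    intro z
    induction z using TensorProduct.induction_on with
    | zero => rw [map_zero]; exact zero_mem _
    | add a b ha hb => rw [map_add]; exact add_mem ha hb
    | tmul t w =>
      rw [show t ⊗ₜ[S] w = t • ((1 : K) ⊗ₜ[S] w) by rw [TensorProduct.smul_tmul', smul_eq_mul, mul_one], map_smul]
      refine Submodule.smul_mem _ t ?_
      rw [← e.symm_apply_apply w]
      generalize e w = y
      induction y using MonoidAlgebra.induction_linear with
      | zero => rw [map_zero, TensorProduct.tmul_zero, map_zero]; exact zero_mem _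
      | add a b ha hb => rw [map_add, TensorProduct.tmul_add, map_add]; exact add_mem ha hb
      | single p r =>
        refine ⟨MonoidAlgebra.single p (algebraMap S K r), ?_⟩
        show ψa _ = _
        simp only [ψa, MonoidAlgebra.lift_single, hγ]
        rw [show MonoidAlgebra.single p r = r • MonoidAlgebra.single p (1 : S) by rw [MonoidAlgebra.smul_single, smul_eq_mul, mul_one],
          map_smul, TensorProduct.tmul_smul, ← algebraMap_smul K r, map_smul]
  intro b
  obtain ⟨x, hx⟩ := key (T b)
  exact ⟨x, hx.trans (T.symm_apply_apply b)⟩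

theorem fg_of_finiteType {R : Type u} [CommRing R] {A : Type u} [CommRing A] [HopfAlgebra R A]
    (hft : Algebra.FiniteType R A) {S : Type u} [CommRing S] [Algebra R S] [Nontrivial S] {P : Type u} [CommGroup P]
    (e : (S ⊗[R] A) ≃ₐc[S] MonoidAlgebra S P) : Group.FG P := by
  haveI := hft
  haveI : Algebra.FiniteType S (MonoidAlgebra S P) :=
    (Algebra.FiniteType.baseChange (R := R) (A := A) S).equiv (AlgEquiv.ofBijective (e : (S ⊗[R] A) →ₐc[S] MonoidAlgebra S P).toAlgHom (EquivLike.bijective e))
  exact MonoidAlgebra.finiteType_iff_group_fg.mp this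

/-- The `n`-th power map in a group algebra. -/
theorem map_powConv {R : Type u} [CommRing R] {A : Type u} [CommRing A] [HopfAlgebra R A] {S : Type u} [CommRing S]
    [Algebra R S] {Q : Type u} [CommGroup Q] (θ : (S ⊗[R] A) →ₐc[S] MonoidAlgebra S Q) (n : ℕ) (a : A) :
    θ ((1 : S) ⊗ₜ[R] SGA3b.powConv R A n a) =
      MonoidAlgebra.mapDomainAlgHom S S (powMonoidHom n : Q →* Q) (θ ((1 : S) ⊗ₜ[R] a)) := by
  induction n generalizing a with
  | zero =>
    have h1 : SGA3b.powConv R A 0 a = algebraMap R A (CoalgebraStruct.counit (R := R) a) := by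
      simp [SGA3b.powConv]
    have h2 : CoalgebraStruct.counit (R := S) (θ ((1 : S) ⊗ₜ[R] a)) = algebraMap R S (CoalgebraStruct.counit (R := R) a) := by
      rw [CoalgHomClass.counit_comp_apply, TensorProduct.counit_tmul, Bialgebra.counit_one, Algebra.algebraMap_eq_smul_one]
    rw [h1]
    generalize θ ((1 : S) ⊗ₜ[R] a) = y at h2
    have h3 : MonoidAlgebra.mapDomainAlgHom S S (powMonoidHom 0 : Q →* Q) y =
        algebraMap S (MonoidAlgebra S Q) (CoalgebraStruct.counit (R := S) y) := by
      clear h2
      induction y using MonoidAlgebra.induction_linear with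
      | zero => simp
      | add a b ha hb => simp only [map_add, ha, hb]
      | single p r => simp
    rw [h3, h2, Algebra.algebraMap_eq_smul_one (A := A), TensorProduct.tmul_smul, ← algebraMap_smul S (CoalgebraStruct.counit (R := R) a),
      map_smul, show θ ((1 : S) ⊗ₜ[R] (1 : A)) = 1 from map_one θ, Algebra.algebraMap_eq_smul_one (A := MonoidAlgebra S Q)]
  | succ n ih =>
    let μ : MonoidAlgebra S Q →ₗ[S] MonoidAlgebra S Q := (MonoidAlgebra.mapDomainAlgHom S S (powMonoidHom n : Q →* Q)).toLinearMap
    have h1 : SGA3b.powConv R A (n + 1) a = LinearMap.mul' R A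
        (TensorProduct.map (SGA3b.powConv R A n).toLinearMap LinearMap.id (CoalgebraStruct.comul (R := R) a)) := by
      simp only [SGA3b.powConv, pow_succ]
      rw [AlgHom.convMul_apply]
      generalize CoalgebraStruct.comul (R := R) a = z
      induction z using TensorProduct.induction_on with
      | zero => simp
      | tmul x y => simp
      | add x y hx hy => simp only [map_add, hx, hy]
    have h2 : ∀ y : MonoidAlgebra S Q, MonoidAlgebra.mapDomainAlgHom S S (powMonoidHom (n + 1) : Q →* Q) y =
        LinearMap.mul' S _ (TensorProduct.map μ LinearMap.id (CoalgebraStruct.comul (R := S) y)) := by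
      intro y
      induction y using MonoidAlgebra.induction_linear with
      | zero => simp
      | add a b ha hb => simp only [map_add, ha, hb]
      | single p r => simp [μ, pow_succ, MonoidAlgebra.single_mul_single]
    rw [h2, ← CoalgHomClass.map_comp_comul_apply θ, TensorProduct.comul_tmul, Bialgebra.comul_one, h1]
    generalize CoalgebraStruct.comul (R := R) a = z
    induction z using TensorProduct.induction_on with
    | zero => simp
    | add x y hx hy => simp only [map_add, TensorProduct.tmul_add, hx, hy]
    | tmul x y =>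
      simp [μ, Algebra.TensorProduct.one_def, ← ih, ← map_mul]

theorem counit_powConv {R : Type u} [CommRing R] {A : Type u} [CommRing A] [HopfAlgebra R A] (n : ℕ) (a : A) :
    CoalgebraStruct.counit (R := R) (SGA3b.powConv R A n a) = CoalgebraStruct.counit (R := R) a := by
  induction n generalizing a with
  | zero => simp [SGA3b.powConv]
  | succ n ih =>
    have h1 : SGA3b.powConv R A (n + 1) a = LinearMap.mul' R A
        (TensorProduct.map (SGA3b.powConv R A n).toLinearMap LinearMap.id (CoalgebraStruct.comul (R := R) a)) := by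
      simp only [SGA3b.powConv, pow_succ]
      rw [AlgHom.convMul_apply]
      generalize CoalgebraStruct.comul (R := R) a = z
      induction z using TensorProduct.induction_on with
      | zero => simp
      | tmul x y => simp
      | add x y hx hy => simp only [map_add, hx, hy]
    rw [h1]
    have hε : LinearMap.mul' R R (TensorProduct.map (CoalgebraStruct.counit (R := R) (A := A)) (CoalgebraStruct.counit (R := R) (A := A))
        (CoalgebraStruct.comul (R := R) a)) = CoalgebraStruct.counit (R := R) a := by
      rw [show TensorProduct.map (CoalgebraStruct.counit (R := R) (A := A)) (CoalgebraStruct.counit (R := R) (A := A)) =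
          TensorProduct.map LinearMap.id CoalgebraStruct.counit ∘ₗ TensorProduct.map CoalgebraStruct.counit LinearMap.id by
          rw [← TensorProduct.map_comp, LinearMap.id_comp, LinearMap.comp_id],
        LinearMap.comp_apply, ← LinearMap.rTensor_def, Coalgebra.rTensor_counit_comul]
      simp
    refine Eq.trans ?_ hε
    generalize CoalgebraStruct.comul (R := R) a = z
    induction z using TensorProduct.induction_on with
    | zero => simp
    | tmul x y => simp [ih]
    | add x y hx hy => simp only [map_add, hx, hy]

end Groth.Agent.H83.MultType
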