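import Groth.Agent.H83.MultType.Functorial
import Groth.Agent.H83.MultType.Quot

/-! Multiplicative type is stable under base change. -/

set_option autoImplicit false

universe u

open TensorProduct

namespace Groth.Agent.H83.MultType

set_option synthInstance.maxHeartbeats 200000 in
set_option maxHeartbeats 800000 in
/-- Multiplicative type is stable under base change. -/
theorem isMultType_baseChange {R : Type u} [CommRing R] {A : Type u} [CommRing A] [HopfAlgebra R A]
    (L : Type u) [CommRing L] [Algebra R L] (h : SGA3b.IsMultType R A) : SGA3b.IsMultType L (L ⊗[R] A) := by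
  classical
  obtain ⟨s, hs, hsf⟩ := h
  refine ⟨algebraMap R L '' s, by rw [← Ideal.map_span, hs, Ideal.map_top], ?_⟩
  rintro f' ⟨f, hf, rfl⟩
  obtain ⟨S, _, _, hff, M, _, ⟨e⟩⟩ := hsf f hf
  let Rf := Localization.Away f
  let Lf := Localization.Away (algebraMap R L f)
  have hu : IsUnit (algebraMap R Lf f) := by
    rw [IsScalarTower.algebraMap_apply R L Lf]
    exact IsLocalization.Away.algebraMap_isUnit (algebraMap R L f)
  letI : Algebra Rf Lf := (IsLocalization.Away.lift f (g := algebraMap R Lf) hu).toAlgebra
  haveI : IsScalarTower R Rf Lf := IsScalarTower.of_algebraMap_eq fun r =>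
    (IsLocalization.Away.lift_eq f hu r).symm
  letI : Algebra R S := ((algebraMap Rf S).comp (algebraMap R Rf)).toAlgebra
  haveI : IsScalarTower R Rf S := IsScalarTower.of_algebraMap_eq fun _ => rfl
  let S2 := Lf ⊗[Rf] S
  haveI : IsScalarTower L Lf S2 := inferInstance
  haveI : IsScalarTower R Lf S2 := inferInstance
  haveI : IsScalarTower R L S2 := IsScalarTower.of_algebraMap_eq (R := R) (S := L) (A := S2) fun r => by
    rw [IsScalarTower.algebraMap_apply L Lf S2, ← IsScalarTower.algebraMap_apply R L Lf, ← IsScalarTower.algebraMap_apply R Lf S2]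
  haveI : Module.FaithfullyFlat Rf S := hff
  have hff2 : Module.FaithfullyFlat Lf S2 := inferInstance
  let g : S →ₐ[R] S2 :=
    { (Algebra.TensorProduct.includeRight : S →ₐ[Rf] S2).toRingHom with
      commutes' := fun r => by
        show (Algebra.TensorProduct.includeRight : S →ₐ[Rf] S2) (algebraMap Rf S (algebraMap R Rf r)) = algebraMap Lf S2 (algebraMap R Lf r)
        rw [AlgHom.commutes, IsScalarTower.algebraMap_apply Rf Lf S2, ← IsScalarTower.algebraMap_apply R Rf Lf]
      }
  obtain ⟨T, -⟩ := exists_towerEquiv R Rf S A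
  obtain ⟨e', -⟩ := exists_diag_map (A := A) g (T.trans e)
  obtain ⟨T₁, -⟩ := exists_towerEquiv L Lf S2 (L ⊗[R] A)
  obtain ⟨T₂, -⟩ := exists_towerEquiv R L S2 A
  exact ⟨S2, inferInstance, inferInstance, hff2, M, inferInstance, ⟨T₁.symm.trans (T₂.symm.trans e')⟩⟩

end Groth.Agent.H83.MultType
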