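import Groth.Agent.H83.MultType.Functorial
import Groth.Agent.H83.MultType.Quot

/-! Groups of multiplicative type over a field are split by a finite separable extension. -/

set_option autoImplicit false

universe u

open TensorProduct

namespace Groth.Agent.H83.MultType

variable {k : Type u} [Field k] {A : Type u} [CommRing A] [HopfAlgebra k A]

theorem coeffMap_injective {S T : Type u} [CommRing S] [Algebra k S] [CommRing T] [Algebra k T] (f : S →ₐ[k] T)
    (hf : Function.Injective f) : Function.Injective (coeffMap (A := A) f) :=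
  Module.Flat.rTensor_preserves_injective_linearMap (M := A) f.toLinearMap hf

theorem coeffMap_smul {S T : Type u} [CommRing S] [Algebra k S] [CommRing T] [Algebra k T] (f : S →ₐ[k] T) (s : S)
    (z : S ⊗[k] A) : coeffMap f (s • z) = f s • coeffMap f z := by
  induction z using TensorProduct.induction_on with
  | zero => simp
  | tmul t a => simp [coeffMap_tmul, TensorProduct.smul_tmul']
  | add u v hu hv => simp only [smul_add, map_add, hu, hv]

/-- Specialising a presentation by group-like elements to a field. -/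
theorem isDiagFT_specialize {B L : Type u} [CommRing B] [Algebra k B] [Field L] [Algebra k L] (ρ : B →ₐ[k] L)
    {P : Type u} [CommGroup P] [Group.FG P] (γ : P →* B ⊗[k] A) (hgl : ∀ p, IsGroupLikeElem B (γ p))
    (T : Finset A) (hT : Algebra.adjoin k (T : Set A) = ⊤) (hgen : ∀ t ∈ T, (1 : B) ⊗ₜ[k] t ∈ Submodule.span B (Set.range γ)) :
    SGA3b.IsDiagFT L (L ⊗[k] A) := by
  classical
  let γ' : P →* L ⊗[k] A := (coeffMap ρ).toMonoidHom.comp γ
  have hgl' : ∀ p, IsGroupLikeElem L (γ' p) := fun p => groupLike_coeffMap ρ (hgl p)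
  let ψa : MonoidAlgebra L P →ₐ[L] L ⊗[k] A := MonoidAlgebra.lift L _ P γ'
  let ψ : MonoidAlgebra L P →ₐc[L] L ⊗[k] A := BialgHom.ofAlgHom ψa
    (by
      ext q
      simp [ψa, (hgl' q).counit_eq_one])
    (by
      ext q
      simp [ψa, (hgl' q).comul_eq_tmul_self])
  have h2 : ∀ z ∈ Submodule.span B (Set.range γ), coeffMap ρ z ∈ ψa.range := by
    intro z hz
    induction hz using Submodule.span_induction with
    | zero => simp
    | add u v _ _ hu hv => rw [map_add]; exact add_mem hu hv
    | smul b u _ hu =>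
      rw [Algebra.smul_def, map_mul]
      refine mul_mem ?_ hu
      rw [show coeffMap ρ (algebraMap B (B ⊗[k] A) b) = algebraMap L (L ⊗[k] A) (ρ b) from rfl]
      exact Subalgebra.algebraMap_mem _ _
    | mem u hu =>
      obtain ⟨p, rfl⟩ := hu
      exact ⟨MonoidAlgebra.single p 1, by simp [ψa, γ']⟩
  have hsurj : Function.Surjective ψ := by
    have h1 : ∀ a : A, (1 : L) ⊗ₜ[k] a ∈ ψa.range := by
      intro a
      have ha : a ∈ Algebra.adjoin k (T : Set A) := by rw [hT]; trivial
      induction ha using Algebra.adjoin_induction with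
      | mem t ht' =>
        have h3 := h2 _ (hgen t ht')
        rwa [coeffMap_tmul, map_one] at h3
      | algebraMap r =>
        rw [← Algebra.TensorProduct.algebraMap_apply', IsScalarTower.algebraMap_apply k L (L ⊗[k] A)]
        exact Subalgebra.algebraMap_mem _ _
      | add u v _ _ hu hv => rw [TensorProduct.tmul_add]; exact add_mem hu hv
      | mul u v _ _ hu hv =>
        rw [show (1 : L) ⊗ₜ[k] (u * v) = ((1 : L) ⊗ₜ[k] u) * ((1 : L) ⊗ₜ[k] v) by simp]
        exact mul_mem hu hv
    intro z
    suffices h4 : z ∈ ψa.range from h4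
    induction z using TensorProduct.induction_on with
    | zero => exact zero_mem _
    | add u v hu hv => exact add_mem hu hv
    | tmul c a =>
      rw [show c ⊗ₜ[k] a = c • ((1 : L) ⊗ₜ[k] a) by rw [TensorProduct.smul_tmul', smul_eq_mul, mul_one]]
      exact Subalgebra.smul_mem _ (h1 a) c
  obtain ⟨Q, _, q, hq, he⟩ := exists_quotient_group ψ hsurj
  exact ⟨Q, inferInstance, Group.fg_of_surjective hq, he⟩

/-- A group of multiplicative type over a field is split by some finite extension. -/
theorem exists_finite_splitting (hft : Algebra.FiniteType k A) (h : SGA3b.IsMultType k A) :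
    ∃ (K : Type u) (_ : Field K) (_ : Algebra k K), Module.Finite k K ∧ SGA3b.IsDiagFT K (K ⊗[k] A) := by
  classical
  obtain ⟨s, hs, ht⟩ := exists_trivialisations h
  obtain ⟨f, hf, hf0⟩ : ∃ f ∈ s, f ≠ 0 := by
    by_contra hne
    push_neg at hne
    exact bot_ne_top (α := Ideal k) ((Ideal.span_eq_bot.mpr hne).symm.trans hs)
  obtain ⟨S, _, _, P, _, _, ⟨e⟩, hdet⟩ := ht f hf
  have : Nontrivial S := by
    by_contra hS
    rw [not_nontrivial_iff_subsingleton] at hS
    haveI : Subsingleton (S ⊗[k] k) := (TensorProduct.rid k S).injective.subsingleton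
    obtain ⟨n, hn⟩ := hdet k 1 (Subsingleton.elim _ _)
    exact hf0 (eq_zero_of_pow_eq_zero (by simpa using hn))
  haveI := fg_of_finiteType hft e
  obtain ⟨G, hG⟩ := (Group.fg_iff_monoid_fg.mp inferInstance : Monoid.FG P).fg_top
  obtain ⟨T, hT⟩ := hft.out
  choose D hD using fun p : P => TensorProduct.exists_finset (e.symm (MonoidAlgebra.single p (1 : S)))
  let U : Finset S := (G.biUnion fun p => (D p).image Prod.fst) ∪
    T.biUnion fun t => (e ((1 : S) ⊗ₜ[k] t)).coeff.support.image fun p => (e ((1 : S) ⊗ₜ[k] t)).coeff p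
  let B := Algebra.adjoin k (U : Set S)
  have hrange : ∀ p : P, ∃ g : B ⊗[k] A, coeffMap B.val g = e.symm (MonoidAlgebra.single p 1) := by
    intro p
    have hp : p ∈ Submonoid.closure (G : Set P) := by rw [hG]; trivial
    induction hp using Submonoid.closure_induction with
    | mem p hp =>
      suffices h1 : ∀ F : Finset (S × A), (∀ x ∈ F, x.1 ∈ B) → ∃ g : B ⊗[k] A, coeffMap B.val g = ∑ x ∈ F, x.1 ⊗ₜ[k] x.2 by
        obtain ⟨g, hg⟩ := h1 (D p) (fun x hx => Algebra.subset_adjoin
          (Finset.mem_union_left _ (Finset.mem_biUnion.mpr ⟨p, hp, Finset.mem_image_of_mem _ hx⟩)))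
        exact ⟨g, hg.trans (hD p).symm⟩
      intro F hF
      induction F using Finset.induction_on with
      | empty => exact ⟨0, by simp⟩
      | insert x F hx ih =>
        obtain ⟨g, hg⟩ := ih (fun y hy => hF y (Finset.mem_insert_of_mem hy))
        exact ⟨(⟨x.1, hF x (Finset.mem_insert_self _ _)⟩ : B) ⊗ₜ[k] x.2 + g, by
          rw [map_add, hg, Finset.sum_insert hx]; rfl⟩
    | one => exact ⟨1, by rw [map_one, ← MonoidAlgebra.one_def]; exact (map_one e.symm).symm⟩
    | mul p q _ _ hp hq =>
      obtain ⟨g, hg⟩ := hp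
      obtain ⟨g', hg'⟩ := hq
      exact ⟨g * g', by rw [map_mul, hg, hg', ← map_mul, MonoidAlgebra.single_mul_single, one_mul]⟩
  choose γ₀ hγ₀ using hrange
  have hinj := coeffMap_injective (A := A) B.val Subtype.val_injective
  let γ : P →* B ⊗[k] A :=
    { toFun := γ₀
      map_one' := hinj (by rw [hγ₀, map_one, ← MonoidAlgebra.one_def]; exact map_one e.symm)
      map_mul' := fun p q => hinj (by rw [map_mul, hγ₀, hγ₀, hγ₀, ← map_mul, MonoidAlgebra.single_mul_single, one_mul]) }
  have hgl : ∀ p, IsGroupLikeElem B (γ p) := fun p => by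
    refine groupLike_of_coeffMap B.val Subtype.val_injective ?_
    show IsGroupLikeElem S (coeffMap B.val (γ₀ p))
    rw [hγ₀]
    have h1 : IsGroupLikeElem S (MonoidAlgebra.single p (1 : S)) := ⟨by simp, by simp⟩
    exact h1.map e.symm
  have hgen : ∀ t ∈ T, (1 : B) ⊗ₜ[k] t ∈ Submodule.span B (Set.range γ) := by
    intro t ht'
    set y := e ((1 : S) ⊗ₜ[k] t) with hy
    have hy' : ∀ p, y.coeff p ∈ B := fun p => by
      by_cases hp : p ∈ y.coeff.support
      · exact Algebra.subset_adjoin (Finset.mem_union_right _ (Finset.mem_biUnion.mpr ⟨t, ht', Finset.mem_image_of_mem _ hp⟩))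
      · rw [Finsupp.notMem_support_iff.mp hp]; exact zero_mem _
    have heq : (1 : B) ⊗ₜ[k] t = ∑ p ∈ y.coeff.support, (⟨y.coeff p, hy' p⟩ : B) • γ p := by
      apply hinj
      rw [coeffMap_tmul, map_one, map_sum, ← e.symm_apply_apply ((1 : S) ⊗ₜ[k] t), ← hy]
      conv_lhs => rw [← y.sum_coeff_single, Finsupp.sum, map_sum]
      refine Finset.sum_congr rfl fun p _ => ?_
      rw [show MonoidAlgebra.single p (y.coeff p) = y.coeff p • MonoidAlgebra.single p (1 : S) by rw [MonoidAlgebra.smul_single, smul_eq_mul, mul_one],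
        map_smul, ← hγ₀ p]
      exact (coeffMap_smul B.val (⟨y.coeff p, hy' p⟩ : B) (γ₀ p)).symm
    rw [heq]
    exact Submodule.sum_mem _ fun p _ => Submodule.smul_mem _ _ (Submodule.subset_span ⟨p, rfl⟩)
  haveI : Algebra.FiniteType k B := (Subalgebra.fg_iff_finiteType B).mp ⟨U, rfl⟩
  obtain ⟨𝔫, h𝔫⟩ := Ideal.exists_maximal B
  letI := Ideal.Quotient.field 𝔫
  haveI : Algebra.FiniteType k (B ⧸ 𝔫) :=
    (inferInstance : Algebra.FiniteType k B).of_surjective (Ideal.Quotient.mkₐ k 𝔫) Ideal.Quotient.mk_surjective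
  haveI : Module.Finite k (B ⧸ 𝔫) := finite_of_finite_type_of_isJacobsonRing k (B ⧸ 𝔫)
  obtain ⟨Q, _, hQ, he⟩ := isDiagFT_specialize (A := A) (Ideal.Quotient.mkₐ k 𝔫 : B →ₐ[k] B ⧸ 𝔫) γ hgl T hT hgen
  exact ⟨B ⧸ 𝔫, inferInstance, inferInstance, inferInstance, Q, inferInstance, hQ, he⟩

theorem isNilpotent_of_mul'_eq_zero {E K : Type u} [Field E] [Field K] [Algebra E K] [IsPurelyInseparable E K]
    (t : K ⊗[E] K) (ht : Algebra.TensorProduct.lmul' E t = 0) : IsNilpotent t := by
  obtain ⟨p, hp⟩ := ExpChar.exists E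
  haveI : Nontrivial (K ⊗[E] K) := (Algebra.TensorProduct.lmul' E (S := K)).toRingHom.domain_nontrivial
  haveI : ExpChar (K ⊗[E] K) p := expChar_of_injective_algebraMap (algebraMap E (K ⊗[E] K)).injective p
  have key : ∀ t : K ⊗[E] K, t - (Algebra.TensorProduct.lmul' E t) ⊗ₜ[E] (1 : K) ∈ nilradical (K ⊗[E] K) := by
    intro t
    induction t using TensorProduct.induction_on with
    | zero => rw [map_zero, TensorProduct.zero_tmul, sub_zero]; exact zero_mem _
    | add u v hu hv => rw [map_add, TensorProduct.add_tmul, add_sub_add_comm]; exact add_mem hu hv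
    | tmul x y =>
      rw [Algebra.TensorProduct.lmul'_apply_tmul, show x ⊗ₜ[E] y - (x * y) ⊗ₜ[E] (1 : K) =
        (x ⊗ₜ[E] (1 : K)) * ((1 : K) ⊗ₜ[E] y - y ⊗ₜ[E] (1 : K)) by
          simp [mul_sub]]
      refine Ideal.mul_mem_left _ _ (mem_nilradical.mpr ?_)
      obtain ⟨n, c, hc⟩ := IsPurelyInseparable.pow_mem E p y
      refine ⟨p ^ n, ?_⟩
      rw [sub_pow_expChar_pow, Algebra.TensorProduct.tmul_pow, Algebra.TensorProduct.tmul_pow, one_pow, ← hc,
        Algebra.algebraMap_eq_smul_one, TensorProduct.tmul_smul, ← TensorProduct.smul_tmul', sub_self]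
  have := key t
  rwa [ht, TensorProduct.zero_tmul, sub_zero, mem_nilradical] at this

/-- Group-like elements do not see a nilpotent thickening. -/
theorem coeffMap_eq_of_nil {K T : Type u} [CommRing K] [Algebra k K] [CommRing T] [Algebra k T] (l r : K →ₐ[k] T)
    (m : T →ₐ[k] K) (hml : m.comp l = AlgHom.id k K) (hmr : m.comp r = AlgHom.id k K)
    (hker : ∀ t : T, m t = 0 → IsNilpotent t) {Q : Type u} [CommGroup Q] (e : (K ⊗[k] A) ≃ₐc[K] MonoidAlgebra K Q)
    {g : K ⊗[k] A} (hg : IsGroupLikeElem K g) : coeffMap l g = coeffMap r g := by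
  classical
  obtain ⟨e', he'⟩ := exists_diag_map l e
  have hmT : ∀ x : T ⊗[k] A, e (coeffMap m x) = coeffGroup m Q (e' x) := by
    intro x
    induction x using TensorProduct.induction_on with
    | zero => simp
    | add u v hu hv => simp only [map_add, hu, hv]
    | tmul t a =>
      have h1 : e' (t ⊗ₜ[k] a) = t • coeffGroup l Q (e ((1 : K) ⊗ₜ[k] a)) := by
        rw [← he', coeffMap_tmul, map_one, ← map_smul, TensorProduct.smul_tmul', smul_eq_mul, mul_one]
      have h2 : ∀ y : MonoidAlgebra K Q, coeffGroup m Q (coeffGroup l Q y) = y := by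
        intro y
        induction y using MonoidAlgebra.induction_linear with
        | zero => simp
        | add u v hu hv => simp only [map_add, hu, hv]
        | single p s =>
          rw [coeffGroup_single, coeffGroup_single]
          congr 1
          exact AlgHom.congr_fun hml s
      rw [h1, Algebra.smul_def, map_mul, h2,
        show coeffGroup m Q (algebraMap T (MonoidAlgebra T Q) t) = algebraMap K _ (m t) from coeffGroup_single m 1 t,
        ← Algebra.smul_def, ← map_smul, coeffMap_tmul, TensorProduct.smul_tmul', smul_eq_mul, mul_one]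
  apply EquivLike.injective e'
  have hG₁ := (groupLike_coeffMap l hg).map e'
  have hG₂ := (groupLike_coeffMap r hg).map e'
  apply (MonoidAlgebra.coeffLinearEquiv T).injective
  ext p
  show coeffAt T p _ = coeffAt T p _
  refine eq_of_isNilpotent_sub_of_isIdempotentElem ?_ ?_ (hker _ ?_)
  · have := groupLike_coeff_mul hG₁ p p; rwa [if_pos rfl] at this
  · have := groupLike_coeff_mul hG₂ p p; rwa [if_pos rfl] at this
  · have hco : ∀ y : MonoidAlgebra T Q, m (coeffAt T p y) = coeffAt K p (coeffGroup m Q y) := by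
      intro y
      induction y using MonoidAlgebra.induction_linear with
      | zero => simp
      | add u v hu hv => simp only [map_add, hu, hv]
      | single q s =>
        rw [coeffGroup_single, coeffAt_single, coeffAt_single]
        split_ifs <;> simp
    rw [map_sub, hco, hco, ← hmT, ← hmT, coeffMap_comp, coeffMap_comp, hml, hmr, sub_self]

set_option maxHeartbeats 1600000 in
set_option synthInstance.maxHeartbeats 100000 in
/-- A splitting descends through a purely inseparable extension. -/
theorem isDiagFT_of_purelyInseparable {K : Type u} [Field K] [Algebra k K] (E : IntermediateField k K)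
    [IsPurelyInseparable E K] {Q : Type u} [CommGroup Q] (hQ : Group.FG Q) (e : (K ⊗[k] A) ≃ₐc[K] MonoidAlgebra K Q) :
    SGA3b.IsDiagFT E (E ⊗[k] A) := by
  classical
  let i : E →ₐ[k] K := E.val
  let l : K →ₐ[k] K ⊗[E] K := (Algebra.TensorProduct.includeLeft : K →ₐ[E] K ⊗[E] K).restrictScalars k
  let r : K →ₐ[k] K ⊗[E] K := (Algebra.TensorProduct.includeRight : K →ₐ[E] K ⊗[E] K).restrictScalars k
  let m : K ⊗[E] K →ₐ[k] K := (Algebra.TensorProduct.lmul' E).restrictScalars k
  have hfix : ∀ g : K ⊗[k] A, IsGroupLikeElem K g → coeffMap l g = coeffMap r g := fun g hg =>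
    coeffMap_eq_of_nil l r m (AlgHom.ext fun x => (Algebra.TensorProduct.lmul'_apply_tmul x 1).trans (mul_one x))
      (AlgHom.ext fun x => (Algebra.TensorProduct.lmul'_apply_tmul 1 x).trans (one_mul x))
      (fun t ht => isNilpotent_of_mul'_eq_zero t ht) e hg
  have hdesc : ∀ g : K ⊗[k] A, coeffMap l g = coeffMap r g → ∃ g₀ : E ⊗[k] A, coeffMap i g₀ = g := by
    intro g hg
    let ι : E ⊗[k] A →ₗ[E] K ⊗[k] A :=
      { toFun := coeffMap i
        map_add' := map_add _
        map_smul' := fun c x => by
          rw [coeffMap_smul, RingHom.id_apply]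
          exact algebraMap_smul K c (coeffMap i x) }
    let W := LinearMap.range ι
    let Φ : (K ⊗[E] K) ⊗[k] A →ₗ[E] K ⊗[E] ((K ⊗[k] A) ⧸ W) :=
      TensorProduct.map LinearMap.id W.mkQ ∘ₗ (TensorProduct.AlgebraTensorModule.assoc k E E K K A).toLinearMap
    have hr : ∀ x : K ⊗[k] A, Φ (coeffMap r x) = (1 : K) ⊗ₜ[E] W.mkQ x := by
      intro x
      induction x using TensorProduct.induction_on with
      | zero => simp
      | add u v hu hv => simp only [map_add, TensorProduct.tmul_add, hu, hv]
      | tmul s a => rfl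
    have hl : ∀ x : K ⊗[k] A, Φ (coeffMap l x) = 0 := by
      intro x
      induction x using TensorProduct.induction_on with
      | zero => simp
      | add u v hu hv => simp only [map_add, hu, hv, add_zero]
      | tmul s a =>
        have h0 : W.mkQ ((1 : K) ⊗ₜ[k] a) = 0 :=
          (Submodule.Quotient.mk_eq_zero W).mpr ⟨(1 : E) ⊗ₜ[k] a, by simp [ι, coeffMap_tmul]⟩
        show s ⊗ₜ[E] W.mkQ ((1 : K) ⊗ₜ[k] a) = 0
        rw [h0, TensorProduct.tmul_zero]
    have h1 := hr g
    rw [← hg, hl] at h1
    exact (Submodule.Quotient.mk_eq_zero W).mp ((Module.FaithfullyFlat.one_tmul_eq_zero_iff (R := E) (A := K) _ _).1 h1.symm)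
  have hrange : ∀ p : Q, ∃ g₀ : E ⊗[k] A, coeffMap i g₀ = e.symm (MonoidAlgebra.single p 1) := fun p => by
    have h1 : IsGroupLikeElem K (MonoidAlgebra.single p (1 : K)) := ⟨by simp, by simp⟩
    exact hdesc _ (hfix _ (h1.map e.symm))
  choose γ₀ hγ₀ using hrange
  have hinj := coeffMap_injective (A := A) i i.toRingHom.injective
  let γ : Q →* E ⊗[k] A :=
    { toFun := γ₀
      map_one' := hinj (by rw [hγ₀, map_one, ← MonoidAlgebra.one_def]; exact map_one e.symm)
      map_mul' := fun p q => hinj (by rw [map_mul, hγ₀, hγ₀, hγ₀, ← map_mul, MonoidAlgebra.single_mul_single, one_mul]) }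
  have hgl : ∀ p, IsGroupLikeElem E (γ p) := fun p => by
    refine groupLike_of_coeffMap i i.toRingHom.injective ?_
    show IsGroupLikeElem K (coeffMap i (γ₀ p))
    rw [hγ₀]
    have h1 : IsGroupLikeElem K (MonoidAlgebra.single p (1 : K)) := ⟨by simp, by simp⟩
    exact h1.map e.symm
  let ψa : MonoidAlgebra E Q →ₐ[E] E ⊗[k] A := MonoidAlgebra.lift E _ Q γ
  let ψ : MonoidAlgebra E Q →ₐc[E] E ⊗[k] A := BialgHom.ofAlgHom (R := E) (A := MonoidAlgebra E Q) (B := E ⊗[k] A) ψa
    (by
      ext q
      simp [ψa, (hgl q).counit_eq_one])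
    (by
      ext q
      simp [ψa, (hgl q).comul_eq_tmul_self])
  have hψ : ∀ y, e (coeffMap i (ψ y)) = coeffGroup i Q y := by
    intro y
    induction y using MonoidAlgebra.induction_linear with
    | zero => simp
    | add u v hu hv => simp only [map_add, hu, hv]
    | single p s =>
      show e (coeffMap i (ψa _)) = _
      simp only [ψa, MonoidAlgebra.lift_single]
      rw [Algebra.smul_def, map_mul, show coeffMap i (γ p) = _ from hγ₀ p,
        show coeffMap i (algebraMap E (E ⊗[k] A) s) = algebraMap K _ (i s) from rfl, ← Algebra.smul_def, map_smul,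
        show e (e.symm (MonoidAlgebra.single p 1)) = _ from e.apply_symm_apply _, coeffGroup_single,
        MonoidAlgebra.smul_single, smul_eq_mul, mul_one]
  have hψi : Function.Injective ψ := by
    rw [injective_iff_map_eq_zero]
    intro y hy
    have h1 := hψ y
    rw [hy, map_zero, map_zero] at h1
    apply (MonoidAlgebra.coeffLinearEquiv E).injective
    rw [map_zero]
    ext p
    have hco : ∀ y : MonoidAlgebra E Q, i (coeffAt E p y) = coeffAt K p (coeffGroup i Q y) := by
      intro y
      induction y using MonoidAlgebra.induction_linear with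
      | zero => simp
      | add u v hu hv => simp only [map_add, hu, hv]
      | single q s =>
        rw [coeffGroup_single, coeffAt_single, coeffAt_single]
        split_ifs <;> simp
    show i (coeffAt E p y) = i 0
    rw [hco, ← h1, map_zero, map_zero]
  have hψs : Function.Surjective ψ := by
    obtain ⟨ρ, hρ⟩ := (Algebra.linearMap E K).exists_leftInverse_of_injective (LinearMap.ker_eq_bot.mpr (algebraMap E K).injective)
    let R₀ : K ⊗[k] A →ₗ[k] E ⊗[k] A := TensorProduct.map (ρ.restrictScalars k) LinearMap.id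
    have hR : ∀ z : E ⊗[k] A, R₀ (coeffMap i z) = z := by
      intro z
      induction z using TensorProduct.induction_on with
      | zero => simp
      | add u v hu hv => simp only [map_add, hu, hv]
      | tmul c a =>
        rw [coeffMap_tmul]
        show ρ (Algebra.linearMap E K c) ⊗ₜ[k] a = c ⊗ₜ[k] a
        rw [show ρ (Algebra.linearMap E K c) = c from LinearMap.congr_fun hρ c]
    have hW : ∀ w : MonoidAlgebra K Q, R₀ (e.symm w) ∈ LinearMap.range ψa.toLinearMap := by
      intro w
      induction w using MonoidAlgebra.induction_linear with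
      | zero => simp
      | add u v hu hv => rw [map_add, map_add]; exact add_mem hu hv
      | single p s =>
        rw [show MonoidAlgebra.single p s = s • MonoidAlgebra.single p (1 : K) by rw [MonoidAlgebra.smul_single, smul_eq_mul, mul_one],
          map_smul, ← hγ₀ p]
        refine ⟨ρ s • MonoidAlgebra.single p (1 : E), ?_⟩
        show ψa _ = _
        rw [map_smul]
        simp only [ψa, MonoidAlgebra.lift_single, one_smul]
        show ρ s • γ₀ p = R₀ (s • coeffMap i (γ₀ p))
        generalize γ₀ p = z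
        induction z using TensorProduct.induction_on with
        | zero => simp
        | add u v hu hv => simp only [smul_add, map_add, hu, hv]
        | tmul c a =>
          rw [coeffMap_tmul, TensorProduct.smul_tmul', TensorProduct.smul_tmul', smul_eq_mul, smul_eq_mul]
          show (ρ s * c) ⊗ₜ[k] a = ρ (s * algebraMap E K c) ⊗ₜ[k] a
          rw [mul_comm s, ← Algebra.smul_def, map_smul, smul_eq_mul, mul_comm]
    intro z
    have h1 := hW (e (coeffMap i z))
    rw [show e.symm (e (coeffMap i z)) = _ from e.symm_apply_apply _, hR] at h1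
    exact h1
  exact ⟨Q, inferInstance, hQ, ⟨(BialgEquiv.ofBijective ψ ⟨hψi, hψs⟩).symm⟩⟩

end Groth.Agent.H83.MultType
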