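import Groth.Agent.H83.MultType.Functorial
import Groth.Agent.H83.MultType.Quot
import Groth.Agent.Lib.Henselian.EtaleLift

/-! Lifting trivialising étale algebras along nil ideals. -/

set_option autoImplicit false

universe u

open TensorProduct

namespace Groth.Agent.H83.MultType

variable {R : Type u} [CommRing R] {A : Type u} [CommRing A] [HopfAlgebra R A] {I : Ideal R}

theorem isNilpotent_of_mem_map (hI : ∀ x ∈ I, IsNilpotent x) (L : Type u) [CommRing L] [Algebra R L] :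
    ∀ r ∈ I.map (algebraMap R L), IsNilpotent r := fun r hr =>
  mem_nilradical.mp ((Ideal.map_le_iff_le_comap.mpr fun a ha => mem_nilradical.mpr ((hI a ha).map _) :
    I.map (algebraMap R L) ≤ nilradical L) hr)

theorem isNilpotent_map (hI : IsNilpotent I) (L : Type u) [CommRing L] [Algebra R L] :
    IsNilpotent (I.map (algebraMap R L)) := by
  obtain ⟨N, hN⟩ := hI
  exact ⟨N, by rw [← Ideal.map_pow, hN]; exact Ideal.map_bot⟩

theorem nil_of_isNilpotent (hI : IsNilpotent I) : ∀ x ∈ I, IsNilpotent x := fun r hr => by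
  obtain ⟨N, hN⟩ := hI
  refine ⟨N, ?_⟩
  have h := Ideal.pow_mem_pow hr N
  rwa [hN, Ideal.zero_eq_bot, Submodule.mem_bot] at h

/-- The basic lifting statement. -/
theorem exists_etale_lift_diag (S : Type u) [CommRing S] [Algebra R S] [Algebra (R ⧸ I) S]
    [IsScalarTower R (R ⧸ I) S] [Algebra.Etale (R ⧸ I) S] (hdiag : SGA3b.IsDiag S (S ⊗[R] A)) :
    ∃ (L : Type u) (_ : CommRing L) (_ : Algebra R L) (_ : Algebra.Etale R L) (ψ : L →ₐ[R] S),
      Function.Surjective ψ ∧ RingHom.ker ψ.toRingHom = I.map (algebraMap R L) ∧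
        SGA3b.IsDiag (L ⧸ I.map (algebraMap R L)) ((L ⧸ I.map (algebraMap R L)) ⊗[L] (L ⊗[R] A)) := by
  obtain ⟨L, _, _, hL, ψ, hψ, hker⟩ := Lib.Henselian.EtaleLift.exists_etale_lift I S
  refine ⟨L, inferInstance, inferInstance, hL, ψ, hψ, hker, ?_⟩
  let ε : (L ⧸ I.map (algebraMap R L)) ≃ₐ[R] S :=
    (Ideal.quotientEquivAlgOfEq R hker.symm).trans (Ideal.quotientKerAlgEquivOfSurjective hψ)
  obtain ⟨M, _, ⟨e⟩⟩ := hdiag
  obtain ⟨e', -⟩ := exists_diag_map (A := A) ε.symm.toAlgHom e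
  obtain ⟨T, -⟩ := exists_towerEquiv R L (L ⧸ I.map (algebraMap R L)) A
  exact ⟨M, inferInstance, ⟨T.symm.trans e'⟩⟩

/-- Étale quasi-isotriviality lifts locally along nil ideals. -/
theorem exists_quasi_lift (hI : ∀ x ∈ I, IsNilpotent x) (f : R)
    (h : SGA3b.IsQuasiIsotrivialConst (Localization.Away (Ideal.Quotient.mk I f))
      (Localization.Away (Ideal.Quotient.mk I f) ⊗[R ⧸ I] ((R ⧸ I) ⊗[R] A)))
    (hdiag : ∀ (L : Type u) [CommRing L] [Algebra R L] [Module.Flat R L],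
      SGA3b.IsDiag (L ⧸ I.map (algebraMap R L)) ((L ⧸ I.map (algebraMap R L)) ⊗[L] (L ⊗[R] A)) → SGA3b.IsDiag L (L ⊗[R] A)) :
    SGA3b.IsQuasiIsotrivialConst (Localization.Away f) (Localization.Away f ⊗[R] A) := by
  obtain ⟨S, _, _, hSe, hSf, M, _, ⟨e⟩⟩ := h
  let L₀ := Localization.Away (Ideal.Quotient.mk I f)
  letI : Algebra (R ⧸ I) S := ((algebraMap L₀ S).comp (algebraMap (R ⧸ I) L₀)).toAlgebra
  haveI : IsScalarTower (R ⧸ I) L₀ S := IsScalarTower.of_algebraMap_eq fun _ => rfl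
  letI : Algebra R S := ((algebraMap (R ⧸ I) S).comp (Ideal.Quotient.mk I)).toAlgebra
  haveI : IsScalarTower R (R ⧸ I) S := IsScalarTower.of_algebraMap_eq fun _ => rfl
  haveI : Algebra.Etale (R ⧸ I) S := Algebra.Etale.comp (R ⧸ I) L₀ S
  obtain ⟨T₁, -⟩ := exists_towerEquiv (R ⧸ I) L₀ S ((R ⧸ I) ⊗[R] A)
  obtain ⟨T₂, -⟩ := exists_towerEquiv R (R ⧸ I) S A
  obtain ⟨L, _, _, hLe, ψ, hψ, hker, hd⟩ := exists_etale_lift_diag (A := A) (I := I) S ⟨M, inferInstance, ⟨T₂.trans (T₁.trans e)⟩⟩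
  haveI : Module.Flat R L := Algebra.Smooth.flat R L
  have hfu : IsUnit (algebraMap R L f) := by
    have h1 : IsUnit (ψ (algebraMap R L f)) := by
      rw [AlgHom.commutes]
      show IsUnit (algebraMap L₀ S (algebraMap (R ⧸ I) L₀ (Ideal.Quotient.mk I f)))
      exact (IsLocalization.Away.algebraMap_isUnit (Ideal.Quotient.mk I f)).map _
    obtain ⟨u, hu⟩ := h1
    obtain ⟨g, hg⟩ := hψ ↑u⁻¹
    have h2 : algebraMap R L f * g - 1 ∈ I.map (algebraMap R L) := by
      rw [← hker, RingHom.mem_ker]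
      show ψ _ = 0
      rw [map_sub, map_mul, map_one, hg, ← hu, Units.mul_inv, sub_self]
    have h3 := (isNilpotent_of_mem_map hI L _ h2).isUnit_one_add
    rw [add_sub_cancel] at h3
    exact isUnit_of_mul_isUnit_left h3
  letI : Algebra (Localization.Away f) L := (IsLocalization.Away.lift f (g := algebraMap R L) hfu).toAlgebra
  haveI : IsScalarTower R (Localization.Away f) L := IsScalarTower.of_algebraMap_eq fun r =>
    (IsLocalization.Away.lift_eq f hfu r).symm
  haveI : Algebra.Etale (Localization.Away f) L := Algebra.Etale.of_restrictScalars R _ _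
  haveI : Module.Flat (Localization.Away f) L := Algebra.Smooth.flat _ L
  have hff : Module.FaithfullyFlat (Localization.Away f) L := by
    refine Module.FaithfullyFlat.of_comap_surjective fun P => ?_
    let p : Ideal R := P.asIdeal.comap (algebraMap R (Localization.Away f))
    have hfp : f ∉ p := fun h => P.2.ne_top (Ideal.eq_top_of_isUnit_mem _ h (IsLocalization.Away.algebraMap_isUnit f))
    haveI hp : p.IsPrime := Ideal.IsPrime.comap _
    have hIp : I ≤ p := fun x hx => hp.radical.le (Ideal.mem_radical_iff.mpr (by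
      obtain ⟨n, hn⟩ := hI x hx
      exact ⟨n, by rw [hn]; exact zero_mem _⟩))
    let pb : Ideal (R ⧸ I) := p.map (Ideal.Quotient.mk I)
    haveI hpb : pb.IsPrime := Ideal.map_isPrime_of_surjective Ideal.Quotient.mk_surjective (by rwa [Ideal.mk_ker])
    have hpbc : pb.comap (Ideal.Quotient.mk I) = p := by
      rw [Ideal.comap_map_of_surjective _ Ideal.Quotient.mk_surjective, ← RingHom.ker_eq_comap_bot, Ideal.mk_ker, sup_eq_left]
      exact hIp
    have hfb : Ideal.Quotient.mk I f ∉ pb := fun h => hfp (hpbc ▸ h)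
    obtain ⟨P₀, hP₀⟩ : ∃ P₀ : PrimeSpectrum L₀, PrimeSpectrum.comap (algebraMap (R ⧸ I) L₀) P₀ = ⟨pb, hpb⟩ := by
      have : (⟨pb, hpb⟩ : PrimeSpectrum (R ⧸ I)) ∈ Set.range (PrimeSpectrum.comap (algebraMap (R ⧸ I) L₀)) := by
        rw [PrimeSpectrum.localization_away_comap_range L₀ (Ideal.Quotient.mk I f)]
        exact hfb
      exact this
    obtain ⟨q, hq⟩ := PrimeSpectrum.comap_surjective_of_faithfullyFlat (A := L₀) (B := S) P₀
    refine ⟨PrimeSpectrum.comap ψ.toRingHom q, ?_⟩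
    apply PrimeSpectrum.localization_comap_injective (Localization.Away f) (Submonoid.powers f)
    rw [← PrimeSpectrum.comap_comp_apply, ← IsScalarTower.algebraMap_eq, ← PrimeSpectrum.comap_comp_apply,
      show ψ.toRingHom.comp (algebraMap R L) = (algebraMap L₀ S).comp ((algebraMap (R ⧸ I) L₀).comp (Ideal.Quotient.mk I)) from ψ.comp_algebraMap,
      PrimeSpectrum.comap_comp_apply, hq, PrimeSpectrum.comap_comp_apply, hP₀]
    apply PrimeSpectrum.ext
    exact hpbc
  obtain ⟨T₃, -⟩ := exists_towerEquiv R (Localization.Away f) L A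
  obtain ⟨M', _, ⟨e'⟩⟩ := hdiag L hd
  exact ⟨L, inferInstance, inferInstance, inferInstance, hff, M', inferInstance, ⟨T₃.symm.trans e'⟩⟩

theorem span_preimage_eq_top (hI : ∀ x ∈ I, IsNilpotent x) {s : Set (R ⧸ I)} (hs : Ideal.span s = ⊤) :
    Ideal.span (Ideal.Quotient.mk I ⁻¹' s) = ⊤ := by
  set J := Ideal.span (Ideal.Quotient.mk I ⁻¹' s)
  have h1 : J.map (Ideal.Quotient.mk I) = ⊤ := by
    rw [Ideal.map_span, Set.image_preimage_eq _ Ideal.Quotient.mk_surjective, hs]
  obtain ⟨x, hx, hx1⟩ := (Ideal.mem_map_iff_of_surjective _ Ideal.Quotient.mk_surjective).mp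
    (h1 ▸ Submodule.mem_top : (1 : R ⧸ I) ∈ J.map (Ideal.Quotient.mk I))
  refine Ideal.eq_top_of_isUnit_mem _ hx ?_
  rw [← map_one (Ideal.Quotient.mk I), Ideal.Quotient.eq] at hx1
  have := (hI _ hx1).isUnit_one_add
  rwa [add_sub_cancel] at this

/-- Finite étale trivialisations lift along nil ideals. -/
theorem exists_isotrivial_lift (hI : ∀ x ∈ I, IsNilpotent x) (h : SGA3b.IsIsotrivial (R ⧸ I) ((R ⧸ I) ⊗[R] A))
    (hdiag : ∀ (L : Type u) [CommRing L] [Algebra R L] [Module.Flat R L],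
      SGA3b.IsDiag (L ⧸ I.map (algebraMap R L)) ((L ⧸ I.map (algebraMap R L)) ⊗[L] (L ⊗[R] A)) → SGA3b.IsDiag L (L ⊗[R] A)) :
    SGA3b.IsIsotrivial R A := by
  obtain ⟨S, _, _, hSe, hSfin, hSf, M, _, ⟨e⟩⟩ := h
  letI : Algebra R S := ((algebraMap (R ⧸ I) S).comp (Ideal.Quotient.mk I)).toAlgebra
  haveI : IsScalarTower R (R ⧸ I) S := IsScalarTower.of_algebraMap_eq fun _ => rfl
  obtain ⟨T₂, -⟩ := exists_towerEquiv R (R ⧸ I) S A
  obtain ⟨L, _, _, hLe, ψ, hψ, hker, hd⟩ := exists_etale_lift_diag (A := A) (I := I) S ⟨M, inferInstance, ⟨T₂.trans e⟩⟩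
  haveI : Module.Flat R L := Algebra.Smooth.flat R L
  have hint : Algebra.IsIntegral R L := by
    refine ⟨fun x => ?_⟩
    have hx : IsIntegral R (ψ x) := by
      haveI : Module.Finite R S := Module.Finite.trans (R ⧸ I) S
      exact IsIntegral.of_finite R _
    obtain ⟨p, hp, hpx⟩ := hx
    have h1 : Polynomial.aeval x p ∈ RingHom.ker ψ.toRingHom := by
      show ψ (Polynomial.aeval x p) = 0
      rw [← Polynomial.aeval_algHom_apply]
      exact hpx
    rw [hker] at h1
    obtain ⟨n, hn⟩ := isNilpotent_of_mem_map hI L _ h1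
    refine ⟨p ^ n, hp.pow n, ?_⟩
    rw [← Polynomial.aeval_def, map_pow, hn]
  haveI := hint
  haveI : Module.Finite R L := Algebra.IsIntegral.finite
  have hff : Module.FaithfullyFlat R L := by
    refine Module.FaithfullyFlat.of_comap_surjective fun P => ?_
    have hIp : I ≤ P.asIdeal := fun x hx => P.2.radical.le (Ideal.mem_radical_iff.mpr (by
      obtain ⟨n, hn⟩ := hI x hx
      exact ⟨n, by rw [hn]; exact zero_mem _⟩))
    obtain ⟨pb, rfl⟩ : ∃ pb : PrimeSpectrum (R ⧸ I), PrimeSpectrum.comap (Ideal.Quotient.mk I) pb = P := by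
      refine ⟨⟨P.asIdeal.map (Ideal.Quotient.mk I), Ideal.map_isPrime_of_surjective Ideal.Quotient.mk_surjective (by rwa [Ideal.mk_ker])⟩, ?_⟩
      apply PrimeSpectrum.ext
      show Ideal.comap _ (Ideal.map _ _) = _
      rw [Ideal.comap_map_of_surjective _ Ideal.Quotient.mk_surjective, ← RingHom.ker_eq_comap_bot, Ideal.mk_ker, sup_eq_left]
      exact hIp
    obtain ⟨q, hq⟩ := PrimeSpectrum.comap_surjective_of_faithfullyFlat (A := R ⧸ I) (B := S) pb
    refine ⟨PrimeSpectrum.comap ψ.toRingHom q, ?_⟩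
    rw [← PrimeSpectrum.comap_comp_apply,
      show ψ.toRingHom.comp (algebraMap R L) = (algebraMap (R ⧸ I) S).comp (Ideal.Quotient.mk I) from ψ.comp_algebraMap,
      PrimeSpectrum.comap_comp_apply, hq]
  exact ⟨L, inferInstance, inferInstance, inferInstance, inferInstance, hff, hdiag L hd⟩

end Groth.Agent.H83.MultType
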