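import Groth.Agent.H83.MultType.Lift

/-! Functoriality of group-like elements and of diagonalisations in the ring of coefficients. -/

set_option autoImplicit false

universe u

open TensorProduct

namespace Groth.Agent.H83.MultType

variable {k : Type u} [CommRing k] {A : Type u} [CommRing A] [HopfAlgebra k A]

/-- Change of coefficients. -/
noncomputable def coeffMap {S T : Type u} [CommRing S] [Algebra k S] [CommRing T] [Algebra k T] (f : S →ₐ[k] T) :
    S ⊗[k] A →ₐ[k] T ⊗[k] A :=
  Algebra.TensorProduct.map f (AlgHom.id k A)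

theorem coeffMap_tmul {S T : Type u} [CommRing S] [Algebra k S] [CommRing T] [Algebra k T] (f : S →ₐ[k] T) (s : S) (a : A) :
    coeffMap f (s ⊗ₜ[k] a) = f s ⊗ₜ[k] a := rfl

theorem coeffMap_comp {S T U : Type u} [CommRing S] [Algebra k S] [CommRing T] [Algebra k T] [CommRing U] [Algebra k U]
    (g : T →ₐ[k] U) (f : S →ₐ[k] T) (x : S ⊗[k] A) : coeffMap g (coeffMap f x) = coeffMap (g.comp f) x := by
  induction x using TensorProduct.induction_on with
  | zero => simp
  | tmul s a => rfl
  | add x y hx hy => simp only [map_add, hx, hy]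

theorem coeffMap_id {S : Type u} [CommRing S] [Algebra k S] (x : S ⊗[k] A) : coeffMap (AlgHom.id k S) x = x := by
  induction x using TensorProduct.induction_on with
  | zero => simp
  | tmul s a => rfl
  | add x y hx hy => simp only [map_add, hx, hy]

/-- The comultiplication after extension of scalars. -/
noncomputable def comulS (S : Type u) [CommRing S] [Algebra k S] : S ⊗[k] A →ₐ[k] S ⊗[k] (A ⊗[k] A) :=
  Algebra.TensorProduct.map (AlgHom.id k S) (Bialgebra.comulAlgHom k A)

/-- The left inclusion after extension of scalars. -/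
noncomputable def inlS (S : Type u) [CommRing S] [Algebra k S] : S ⊗[k] A →ₐ[k] S ⊗[k] (A ⊗[k] A) :=
  Algebra.TensorProduct.map (AlgHom.id k S) Algebra.TensorProduct.includeLeft

/-- The right inclusion after extension of scalars. -/
noncomputable def inrS (S : Type u) [CommRing S] [Algebra k S] : S ⊗[k] A →ₐ[k] S ⊗[k] (A ⊗[k] A) :=
  Algebra.TensorProduct.map (AlgHom.id k S) Algebra.TensorProduct.includeRight

theorem groupLike_iff {S : Type u} [CommRing S] [Algebra k S] (x : S ⊗[k] A) :
    IsGroupLikeElem S x ↔ comulS S x = inlS S x * inrS S x ∧ CoalgebraStruct.counit (R := S) x = 1 := by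
  let θ : (S ⊗[k] A) ⊗[S] (S ⊗[k] A) ≃ₗ[S] S ⊗[k] (A ⊗[k] A) :=
    (TensorProduct.AlgebraTensorModule.cancelBaseChange k S S (S ⊗[k] A) A).trans
      (TensorProduct.AlgebraTensorModule.assoc k k S S A A)
  have h1 : ∀ y z : S ⊗[k] A, θ (y ⊗ₜ[S] z) = inlS S y * inrS S z := by
    intro y z
    induction y using TensorProduct.induction_on with
    | zero => simp
    | add u v hu hv => rw [TensorProduct.add_tmul, map_add, map_add, hu, hv, add_mul]
    | tmul s a =>
      induction z using TensorProduct.induction_on with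
      | zero => simp
      | add u v hu hv => rw [TensorProduct.tmul_add, map_add, map_add, hu, hv, mul_add]
      | tmul t b => simp [θ, inlS, inrS, TensorProduct.smul_tmul', mul_comm]
  have h2 : ∀ y : S ⊗[k] A, θ (CoalgebraStruct.comul (R := S) y) = comulS S y := by
    intro y
    induction y using TensorProduct.induction_on with
    | zero => simp
    | add u v hu hv => simp only [map_add, hu, hv]
    | tmul s a =>
      rw [TensorProduct.comul_tmul, CommSemiring.comul_apply]
      show θ _ = s ⊗ₜ[k] CoalgebraStruct.comul (R := k) a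
      generalize CoalgebraStruct.comul (R := k) a = z
      induction z using TensorProduct.induction_on with
      | zero => simp
      | tmul b c => simp [θ, TensorProduct.smul_tmul']
      | add b c hb hc => simp only [TensorProduct.tmul_add, map_add, hb, hc]
  constructor
  · intro hx
    exact ⟨by rw [← h2, hx.comul_eq_tmul_self, h1], hx.counit_eq_one⟩
  · rintro ⟨hx, hc⟩
    exact ⟨hc, θ.injective (by rw [h2, hx, h1])⟩

theorem coeffMap₂_comulS {S T : Type u} [CommRing S] [Algebra k S] [CommRing T] [Algebra k T] (f : S →ₐ[k] T) (x : S ⊗[k] A) :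
    Algebra.TensorProduct.map f (AlgHom.id k (A ⊗[k] A)) (comulS S x) = comulS T (coeffMap f x) ∧
      Algebra.TensorProduct.map f (AlgHom.id k (A ⊗[k] A)) (inlS S x) = inlS T (coeffMap f x) ∧
      Algebra.TensorProduct.map f (AlgHom.id k (A ⊗[k] A)) (inrS S x) = inrS T (coeffMap f x) := by
  induction x using TensorProduct.induction_on with
  | zero => simp
  | tmul s a => exact ⟨rfl, rfl, rfl⟩
  | add x y hx hy => simp only [map_add, hx, hy, and_self]

theorem counit_coeffMap {S T : Type u} [CommRing S] [Algebra k S] [CommRing T] [Algebra k T] (f : S →ₐ[k] T) (x : S ⊗[k] A) :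
    CoalgebraStruct.counit (R := T) (coeffMap f x) = f (CoalgebraStruct.counit (R := S) x) := by
  induction x using TensorProduct.induction_on with
  | zero => simp
  | tmul s a => simp [coeffMap_tmul, TensorProduct.counit_tmul]
  | add x y hx hy => simp only [map_add, hx, hy]

theorem groupLike_coeffMap {S T : Type u} [CommRing S] [Algebra k S] [CommRing T] [Algebra k T] (f : S →ₐ[k] T)
    {x : S ⊗[k] A} (hx : IsGroupLikeElem S x) : IsGroupLikeElem T (coeffMap f x) := by
  obtain ⟨h1, h2, h3⟩ := coeffMap₂_comulS f x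
  obtain ⟨hx1, hx2⟩ := (groupLike_iff x).mp hx
  rw [groupLike_iff, counit_coeffMap, hx2, map_one, ← h1, ← h2, ← h3, hx1, map_mul]
  exact ⟨rfl, rfl⟩

theorem groupLike_of_coeffMap {S T : Type u} [CommRing S] [Algebra k S] [CommRing T] [Algebra k T] (f : S →ₐ[k] T)
    (hf : Function.Injective f) [Module.Flat k (A ⊗[k] A)] {x : S ⊗[k] A} (hx : IsGroupLikeElem T (coeffMap f x)) :
    IsGroupLikeElem S x := by
  obtain ⟨h1, h2, h3⟩ := coeffMap₂_comulS f x
  obtain ⟨hx1, hx2⟩ := (groupLike_iff _).mp hx
  rw [groupLike_iff]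
  refine ⟨?_, hf (by rw [← counit_coeffMap, hx2, map_one])⟩
  have hinj : Function.Injective (Algebra.TensorProduct.map f (AlgHom.id k (A ⊗[k] A))) :=
    Module.Flat.rTensor_preserves_injective_linearMap (M := A ⊗[k] A) f.toLinearMap hf
  exact hinj (by rw [map_mul, h1, h2, h3, hx1])

/-- Change of coefficients of a group algebra. -/
noncomputable def coeffGroup {S T : Type u} [CommRing S] [Algebra k S] [CommRing T] [Algebra k T] (f : S →ₐ[k] T)
    (P : Type u) [CommGroup P] : MonoidAlgebra S P →+* MonoidAlgebra T P :=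
  MonoidAlgebra.liftNCRingHom (MonoidAlgebra.singleOneRingHom.comp f.toRingHom) (MonoidAlgebra.of T P) (fun _ _ => Commute.all _ _)

theorem coeffGroup_single {S T : Type u} [CommRing S] [Algebra k S] [CommRing T] [Algebra k T] (f : S →ₐ[k] T)
    {P : Type u} [CommGroup P] (p : P) (s : S) :
    coeffGroup f P (MonoidAlgebra.single p s) = MonoidAlgebra.single p (f s) := by
  simp [coeffGroup, MonoidAlgebra.liftNCRingHom, MonoidAlgebra.single_mul_single]

/-- A diagonalisation may be pushed along any change of coefficients. -/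
theorem exists_diag_map {S T : Type u} [CommRing S] [Algebra k S] [CommRing T] [Algebra k T] (f : S →ₐ[k] T)
    {P : Type u} [CommGroup P] (e : (S ⊗[k] A) ≃ₐc[S] MonoidAlgebra S P) :
    ∃ e' : (T ⊗[k] A) ≃ₐc[T] MonoidAlgebra T P, ∀ x, e' (coeffMap f x) = coeffGroup f P (e x) := by
  classical
  let γ : P →* T ⊗[k] A := (coeffMap f).toMonoidHom.comp
    ((e.symm : MonoidAlgebra S P →ₐc[S] S ⊗[k] A).toAlgHom.toMonoidHom.comp (MonoidAlgebra.of S P))
  have hgl : ∀ p, IsGroupLikeElem T (γ p) := fun p => by
    have h1 : IsGroupLikeElem S (MonoidAlgebra.single p (1 : S)) := ⟨by simp, by simp⟩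
    exact groupLike_coeffMap f (h1.map e.symm)
  let ψa : MonoidAlgebra T P →ₐ[T] T ⊗[k] A := MonoidAlgebra.lift T _ P γ
  let ψ : MonoidAlgebra T P →ₐc[T] T ⊗[k] A := BialgHom.ofAlgHom ψa
    (by
      ext q
      simp [ψa, (hgl q).counit_eq_one])
    (by
      ext q
      simp [ψa, (hgl q).comul_eq_tmul_self])
  have hψ : ∀ y : MonoidAlgebra S P, ψ (coeffGroup f P y) = coeffMap f (e.symm y) := by
    intro y
    induction y using MonoidAlgebra.induction_linear with
    | zero => simp
    | add u v hu hv => simp only [map_add, hu, hv]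
    | single p s =>
      show ψa _ = _
      rw [coeffGroup_single]
      simp only [ψa, MonoidAlgebra.lift_single]
      rw [show MonoidAlgebra.single p s = s • MonoidAlgebra.single p (1 : S) by rw [MonoidAlgebra.smul_single, smul_eq_mul, mul_one],
        map_smul, Algebra.smul_def, Algebra.smul_def, map_mul]
      rfl
  let χ : T ⊗[k] A →ₐ[T] MonoidAlgebra T P := Algebra.TensorProduct.lift (Algebra.ofId T _)
    ({ ((coeffGroup f P).comp ((e : (S ⊗[k] A) →ₐc[S] MonoidAlgebra S P).toAlgHom.toRingHom.comp
        (Algebra.TensorProduct.includeRight : A →ₐ[k] S ⊗[k] A).toRingHom)) with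
      commutes' := fun r => by
        show coeffGroup f P (e ((1 : S) ⊗ₜ[k] algebraMap k A r)) = algebraMap k _ r
        rw [← Algebra.TensorProduct.algebraMap_apply', IsScalarTower.algebraMap_apply k S (S ⊗[k] A),
          show e (algebraMap S (S ⊗[k] A) (algebraMap k S r)) = algebraMap S _ (algebraMap k S r) from AlgHomClass.commutes e _]
        show coeffGroup f P (MonoidAlgebra.single 1 (algebraMap k S r)) = MonoidAlgebra.single 1 (algebraMap k T r)
        rw [coeffGroup_single, AlgHom.commutes] } : A →ₐ[k] MonoidAlgebra T P)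
    (fun _ _ => Commute.all _ _)
  have hχ : ∀ x, χ (coeffMap f x) = coeffGroup f P (e x) := by
    intro x
    induction x using TensorProduct.induction_on with
    | zero => simp
    | add u v hu hv => simp only [map_add, hu, hv]
    | tmul s a =>
      rw [coeffMap_tmul, show s ⊗ₜ[k] a = s • ((1 : S) ⊗ₜ[k] a) by rw [TensorProduct.smul_tmul', smul_eq_mul, mul_one],
        map_smul, Algebra.smul_def, map_mul,
        show coeffGroup f P (algebraMap S (MonoidAlgebra S P) s) = algebraMap T _ (f s) from coeffGroup_single f 1 s]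
      simp [χ]
  have hleft : Function.LeftInverse χ ψ := by
    intro w
    induction w using MonoidAlgebra.induction_linear with
    | zero => simp
    | add u v hu hv => simp only [map_add, hu, hv]
    | single p t =>
      show χ (ψa (MonoidAlgebra.single p t)) = _
      simp only [ψa, MonoidAlgebra.lift_single, map_smul]
      rw [show χ (γ p) = coeffGroup f P (e (e.symm (MonoidAlgebra.single p 1))) from hχ _,
        show e (e.symm (MonoidAlgebra.single p 1)) = _ from e.apply_symm_apply _, coeffGroup_single, map_one,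
        MonoidAlgebra.smul_single, smul_eq_mul, mul_one]
  have hsurj : Function.Surjective ψ := by
    intro z
    induction z using TensorProduct.induction_on with
    | zero => exact ⟨0, map_zero _⟩
    | tmul t a =>
      refine ⟨t • coeffGroup f P (e ((1 : S) ⊗ₜ[k] a)), ?_⟩
      rw [map_smul, hψ, show e.symm (e ((1 : S) ⊗ₜ[k] a)) = _ from e.symm_apply_apply _, coeffMap_tmul, map_one,
        TensorProduct.smul_tmul', smul_eq_mul, mul_one]
    | add a b ha hb =>
      obtain ⟨x, rfl⟩ := ha; obtain ⟨y, rfl⟩ := hb
      exact ⟨x + y, map_add ψ x y⟩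
  refine ⟨(BialgEquiv.ofBijective ψ ⟨hleft.injective, hsurj⟩).symm, fun x => ?_⟩
  let Ψ := BialgEquiv.ofBijective ψ ⟨hleft.injective, hsurj⟩
  have h2 : Ψ (coeffGroup f P (e x)) = coeffMap f x := by
    show ψ _ = _
    rw [hψ, show e.symm (e x) = x from e.symm_apply_apply x]
  show Ψ.symm _ = _
  rw [← h2]
  exact Ψ.symm_apply_apply _

end Groth.Agent.H83.MultType
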