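import Groth.Prelude.Def_SGA3b
import Mathlib

/-! Primitive elements of groups of multiplicative type. -/

set_option autoImplicit false

universe u

open TensorProduct

namespace Groth.Agent.H83.MultType

variable {R : Type u} [CommRing R]

/-- The defect of primitivity. -/
noncomputable def defect (A : Type u) [CommRing A] [HopfAlgebra R A] : A →ₗ[R] A ⊗[R] A :=
  CoalgebraStruct.comul (R := R) (A := A) - (TensorProduct.mk R A A).flip 1 - TensorProduct.mk R A A 1

theorem defect_apply {A : Type u} [CommRing A] [HopfAlgebra R A] (x : A) :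
    defect (R := R) A x = CoalgebraStruct.comul (R := R) x - x ⊗ₜ[R] (1 : A) - (1 : A) ⊗ₜ[R] x := rfl

theorem map_mem_smul {S : Type u} [CommRing S] [Algebra R S] {M N : Type u} [AddCommGroup M] [Module R M]
    [AddCommGroup N] [Module R N] [Module S N] [IsScalarTower R S N] (f : M →ₗ[R] N) (J : Ideal R) {x : M}
    (hx : x ∈ J • (⊤ : Submodule R M)) : f x ∈ J.map (algebraMap R S) • (⊤ : Submodule S N) := by
  induction hx using Submodule.smul_induction_on' with
  | smul r hr m _ =>
    rw [map_smul, ← algebraMap_smul S r (f m)]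
    exact Submodule.smul_mem_smul (Ideal.mem_map_of_mem _ hr) trivial
  | add a _ b _ ha hb => rw [map_add]; exact add_mem ha hb

theorem defect_baseChange {A : Type u} [CommRing A] [HopfAlgebra R A] (S : Type u) [CommRing S] [Algebra R S]
    (J : Ideal R) {x : A} (hx : defect (R := R) A x ∈ J • (⊤ : Submodule R (A ⊗[R] A))) :
    defect (R := S) (S ⊗[R] A) (1 ⊗ₜ[R] x) ∈
      J.map (algebraMap R S) • (⊤ : Submodule S ((S ⊗[R] A) ⊗[S] (S ⊗[R] A))) := by
  let i : A →ₗ[R] S ⊗[R] A := TensorProduct.mk R S A 1
  let ν : A ⊗[R] A →ₗ[R] (S ⊗[R] A) ⊗[S] (S ⊗[R] A) :=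
    TensorProduct.lift (LinearMap.mk₂ R (fun a b => (i a) ⊗ₜ[S] (i b))
      (fun a a' b => by simp only [map_add, TensorProduct.add_tmul])
      (fun r a b => by simp only [map_smul, TensorProduct.smul_tmul'])
      (fun a b b' => by simp only [map_add, TensorProduct.tmul_add])
      (fun r a b => by simp only [map_smul, ← algebraMap_smul S r, TensorProduct.tmul_smul]))
  have hν : defect (R := S) (S ⊗[R] A) (1 ⊗ₜ[R] x) = ν (defect (R := R) A x) := by
    rw [defect_apply, defect_apply, map_sub, map_sub]
    congr 1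
    congr 1
    rw [TensorProduct.comul_tmul, Bialgebra.comul_one]
    generalize CoalgebraStruct.comul (R := R) x = z
    induction z using TensorProduct.induction_on with
    | zero => simp
    | tmul a b => simp [ν, i, Algebra.TensorProduct.one_def]
    | add a b ha hb => simp only [TensorProduct.tmul_add, map_add, ha, hb]
  rw [hν]
  exact map_mem_smul ν J hx

theorem mem_of_faithfullyFlat {A : Type u} [AddCommGroup A] [Module R A] (S : Type u) [CommRing S] [Algebra R S]
    [Module.FaithfullyFlat R S] (J : Ideal R) {x : A}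
    (hx : (1 : S) ⊗ₜ[R] x ∈ J.map (algebraMap R S) • (⊤ : Submodule S (S ⊗[R] A))) :
    x ∈ J • (⊤ : Submodule R A) := by
  rw [← Submodule.Quotient.mk_eq_zero]
  refine (Module.FaithfullyFlat.one_tmul_eq_zero_iff (R := R) (A := S) _ _).1 ?_
  let q := (J • (⊤ : Submodule R A)).mkQ.baseChange S
  show q (1 ⊗ₜ[R] x) = 0
  refine LinearMap.mem_ker.mp ((Submodule.smul_le.mpr ?_) hx)
  intro s hs z _
  rw [LinearMap.mem_ker, map_smul]
  induction hs using Submodule.span_induction with
  | zero => rw [zero_smul]
  | add a b _ _ ha hb => rw [add_smul, ha, hb, add_zero]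
  | smul a b _ hb => rw [smul_eq_mul, mul_smul, hb, smul_zero]
  | mem a ha =>
    obtain ⟨r, hr, rfl⟩ := ha
    clear * - hr
    induction z using TensorProduct.induction_on with
    | zero => simp
    | tmul t a =>
      rw [algebraMap_smul, LinearMap.baseChange_tmul, ← TensorProduct.tmul_smul, ← map_smul,
        Submodule.mkQ_apply, (Submodule.Quotient.mk_eq_zero _).mpr (Submodule.smul_mem_smul hr (Submodule.mem_top (x := a))),
        TensorProduct.tmul_zero]
    | add a b ha hb => rw [map_add, smul_add, ha, hb, add_zero]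

theorem mem_of_localization {A : Type u} [AddCommGroup A] [Module R A] {s : Set R} (hs : Ideal.span s = ⊤)
    (J : Ideal R) {x : A}
    (hx : ∀ f ∈ s, (1 : Localization.Away f) ⊗ₜ[R] x ∈
      J.map (algebraMap R (Localization.Away f)) • (⊤ : Submodule (Localization.Away f) (Localization.Away f ⊗[R] A))) :
    x ∈ J • (⊤ : Submodule R A) := by
  rw [← Submodule.Quotient.mk_eq_zero]
  set Q := A ⧸ (J • (⊤ : Submodule R A))
  set q : Q := Submodule.Quotient.mk x
  let K : Ideal R := LinearMap.ker (LinearMap.toSpanSingleton R Q q)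
  suffices h : K = ⊤ by
    have h1 : (1 : R) ∈ K := h ▸ Submodule.mem_top
    simpa [K] using h1
  rw [← top_le_iff]
  intro r _
  have key : ∀ f ∈ s, ∃ n : ℕ, f ^ n ∈ K := by
    intro f hf
    let L := Localization.Away f
    have h0 : (1 : L) ⊗ₜ[R] q = 0 := by
      let m := (J • (⊤ : Submodule R A)).mkQ.baseChange L
      show m (1 ⊗ₜ[R] x) = 0
      refine LinearMap.mem_ker.mp ((Submodule.smul_le.mpr ?_) (hx f hf))
      intro t ht z _
      rw [LinearMap.mem_ker, map_smul]
      induction ht using Submodule.span_induction with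
      | zero => rw [zero_smul]
      | add a b _ _ ha hb => rw [add_smul, ha, hb, add_zero]
      | smul a b _ hb => rw [smul_eq_mul, mul_smul, hb, smul_zero]
      | mem a ha =>
        obtain ⟨r, hr, rfl⟩ := ha
        clear * - hr
        induction z using TensorProduct.induction_on with
        | zero => simp
        | tmul t a =>
          rw [algebraMap_smul, LinearMap.baseChange_tmul, ← TensorProduct.tmul_smul, ← map_smul,
            Submodule.mkQ_apply, (Submodule.Quotient.mk_eq_zero _).mpr (Submodule.smul_mem_smul hr (Submodule.mem_top (x := a))),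
            TensorProduct.tmul_zero]
        | add a b ha hb => rw [map_add, smul_add, ha, hb, add_zero]
    obtain ⟨⟨_, n, rfl⟩, hn⟩ := (IsLocalizedModule.eq_zero_iff (Submonoid.powers f) (TensorProduct.mk R L Q 1)).mp h0
    exact ⟨n, hn⟩
  have hrad : Ideal.span s ≤ K.radical :=
    Ideal.span_le.mpr fun f hf => key f hf
  rw [hs, top_le_iff, Ideal.radical_eq_top] at hrad
  rw [hrad]; exact Submodule.mem_top

theorem mem_of_monoidAlgebra (M : Type u) [CommGroup M] (J : Ideal R) {x : MonoidAlgebra R M}
    (hx : defect (R := R) (MonoidAlgebra R M) x ∈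
      J • (⊤ : Submodule R (MonoidAlgebra R M ⊗[R] MonoidAlgebra R M))) :
    x ∈ J • (⊤ : Submodule R (MonoidAlgebra R M)) := by
  classical
  let c : M → MonoidAlgebra R M →ₗ[R] R := fun m =>
    Finsupp.lapply m ∘ₗ (MonoidAlgebra.coeffLinearEquiv R).toLinearMap
  let c₂ : M → MonoidAlgebra R M ⊗[R] MonoidAlgebra R M →ₗ[R] R := fun m =>
    LinearMap.mul' R R ∘ₗ TensorProduct.map (c m) (c m)
  have hcomul : ∀ (m : M) (y : MonoidAlgebra R M), c₂ m (CoalgebraStruct.comul (R := R) y) = c m y := by
    intro m y
    induction y using MonoidAlgebra.induction_linear with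
    | zero => simp
    | add a b ha hb => rw [map_add, map_add, ha, hb, map_add]
    | single g r =>
      rw [MonoidAlgebra.comul_single]
      simp only [CommSemiring.comul_apply, TensorProduct.map_tmul, c₂, c, LinearMap.comp_apply, LinearMap.mul'_apply]
      simp [Finsupp.single_apply]
      exact fun h1 h2 => absurd h2 h1
  have hco : ∀ m : M, c m x ∈ J := by
    intro m
    have h : c₂ m (defect (R := R) (MonoidAlgebra R M) x) ∈ J := by
      have h1 := Submodule.mem_map_of_mem (f := c₂ m) hx
      rw [Submodule.map_smul''] at h1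
      exact (Submodule.smul_le.mpr fun r hr z _ => Ideal.mul_mem_right z J hr) h1
    rw [defect_apply, map_sub, map_sub, hcomul] at h
    by_cases hm : m = 1
    · subst hm
      have h1 : c₂ 1 (x ⊗ₜ[R] (1 : MonoidAlgebra R M)) = c 1 x := by simp [c₂, c, MonoidAlgebra.one_def]
      have h2 : c₂ 1 ((1 : MonoidAlgebra R M) ⊗ₜ[R] x) = c 1 x := by simp [c₂, c, MonoidAlgebra.one_def]
      rw [h1, h2, sub_self, zero_sub, neg_mem_iff] at h
      exact h
    · have h1 : c₂ m (x ⊗ₜ[R] (1 : MonoidAlgebra R M)) = 0 := by
        simp [c₂, c, MonoidAlgebra.one_def, Finsupp.single_apply, Ne.symm hm]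
      have h2 : c₂ m ((1 : MonoidAlgebra R M) ⊗ₜ[R] x) = 0 := by
        simp [c₂, c, MonoidAlgebra.one_def, Finsupp.single_apply, Ne.symm hm]
      rw [h1, h2, sub_zero, sub_zero] at h
      exact h
  rw [← x.sum_single]
  refine Submodule.sum_mem _ fun m _ => ?_
  have hsingle : ∀ r : R, MonoidAlgebra.single m r = r • MonoidAlgebra.single m (1 : R) := fun r => by
    rw [MonoidAlgebra.smul_single, smul_eq_mul, mul_one]
  rw [hsingle]
  exact Submodule.smul_mem_smul (hco m) trivial

theorem mem_of_bialgEquiv {A B : Type u} [CommRing A] [HopfAlgebra R A] [CommRing B] [HopfAlgebra R B]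
    (e : A ≃ₐc[R] B) (J : Ideal R)
    (hB : ∀ y : B, defect (R := R) B y ∈ J • (⊤ : Submodule R (B ⊗[R] B)) → y ∈ J • (⊤ : Submodule R B))
    {x : A} (hx : defect (R := R) A x ∈ J • (⊤ : Submodule R (A ⊗[R] A))) : x ∈ J • (⊤ : Submodule R A) := by
  let el : A →ₗ[R] B := (e : A →ₐc[R] B)
  have hd : defect (R := R) B (el x) = TensorProduct.map el el (defect (R := R) A x) := by
    rw [defect_apply, defect_apply, map_sub, map_sub, TensorProduct.map_tmul, TensorProduct.map_tmul,
      show el 1 = 1 from map_one e, show TensorProduct.map el el (CoalgebraStruct.comul x) = _ from CoalgHomClass.map_comp_comul_apply e x]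
    rfl
  have h1 := hB (el x) (by
    rw [hd]
    have := Submodule.mem_map_of_mem (f := TensorProduct.map el el) hx
    rw [Submodule.map_smul''] at this
    exact Submodule.smul_mono le_rfl le_top this)
  have h2 := Submodule.mem_map_of_mem (f := ((e.symm : B →ₐc[R] A) : B →ₗ[R] A)) h1
  rw [Submodule.map_smul''] at h2
  have h3 : ((e.symm : B →ₐc[R] A) : B →ₗ[R] A) (el x) = x := e.symm_apply_apply x
  rw [h3] at h2
  exact Submodule.smul_mono le_rfl le_top h2

/-- A group of multiplicative type has no primitive elements, modulo any ideal of the base. -/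
theorem mem_of_defect_mem {A : Type u} [CommRing A] [HopfAlgebra R A] (h : SGA3b.IsMultType R A) (J : Ideal R)
    {x : A} (hx : defect (R := R) A x ∈ J • (⊤ : Submodule R (A ⊗[R] A))) :
    x ∈ J • (⊤ : Submodule R A) := by
  obtain ⟨s, hs, hs'⟩ := h
  refine mem_of_localization hs J fun f hf => ?_
  obtain ⟨S, _, _, _, M, _, ⟨e⟩⟩ := hs' f hf
  refine mem_of_faithfullyFlat S (J.map (algebraMap R (Localization.Away f))) ?_
  exact mem_of_bialgEquiv e _ (fun y hy => mem_of_monoidAlgebra M _ hy)
    (defect_baseChange S _ (defect_baseChange (Localization.Away f) J hx))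

end Groth.Agent.H83.MultType
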