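import Groth.Agent.H83.MultType.Functorial

/-! A flat group which is diagonalisable modulo a nilpotent ideal is diagonalisable. -/

set_option autoImplicit false

universe u

open TensorProduct

namespace Groth.Agent.H83.MultType

/-- A family lifting a basis modulo a nilpotent ideal in a flat module is free. -/
theorem linearCombination_bijective {R : Type u} [CommRing R] {I : Ideal R} (hI : IsNilpotent I) {C : Type u}
    [AddCommGroup C] [Module R C] [Module.Flat R C] {M : Type u} (x : M → C)
    (hspan : Submodule.span R (Set.range x) ⊔ I • (⊤ : Submodule R C) = ⊤)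
    [DecidableEq M] (c : M → C →ₗ[R] R ⧸ I) (hc : ∀ m m', c m (x m') = if m' = m then 1 else 0) :
    Function.Bijective (Finsupp.linearCombination R x) := by
  obtain ⟨N, hN⟩ := hI
  constructor
  · rw [injective_iff_map_eq_zero]
    intro f hf
    rw [Finsupp.linearCombination_apply, Finsupp.sum] at hf
    have hrel := Module.Flat.isTrivialRelation_of_sum_smul_eq_zero (f := fun m : f.support => f m) (x := fun m : f.support => x m)
      (by rw [Finset.sum_coe_sort f.support (fun m => f m • x m)]; exact hf)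
    obtain ⟨K, a, y, hxy, ha⟩ := hrel
    let J : Ideal R := Ideal.span (Set.range fun m : f.support => f m)
    have hJ : J ≤ I * J := by
      refine Ideal.span_le.mpr ?_
      rintro _ ⟨m, rfl⟩
      choose z hz using fun j => Ideal.Quotient.mk_surjective (c m.1 (y j))
      have h1 : ∀ i : f.support, (if i = m then (1 : R) else 0) - ∑ j, a i j * z j ∈ I := fun i => by
        rw [← Ideal.Quotient.eq_zero_iff_mem, map_sub, sub_eq_zero, map_sum]
        have h2 := congrArg (c m.1) (hxy i)
        simp only [hc, map_sum, map_smul, Algebra.smul_def, Ideal.Quotient.algebraMap_eq] at h2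
        simp only [map_mul, hz, ← h2, Subtype.ext_iff]
        split_ifs <;> simp
      have h3 : f m = ∑ i : f.support, f i * ((if i = m then (1 : R) else 0) - ∑ j, a i j * z j) := by
        simp only [mul_sub, Finset.sum_sub_distrib, mul_ite, mul_one, mul_zero, Finset.sum_ite_eq', Finset.mem_univ, if_true, Finset.mul_sum]
        rw [Finset.sum_comm, Finset.sum_eq_zero (fun j _ => ?_), sub_zero]
        have h5 : ∑ i : f.support, f i * a i j = 0 := ha j
        simp only [← mul_assoc, ← Finset.sum_mul, h5, zero_mul]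
      show f m.1 ∈ I * J
      rw [show f m.1 = _ from h3]
      refine sum_mem fun i _ => ?_
      rw [mul_comm (f i)]
      exact Ideal.mul_mem_mul (h1 i) (Ideal.subset_span ⟨i, rfl⟩)
    have hJn : ∀ n : ℕ, J ≤ I ^ n * J := by
      intro n
      induction n with
      | zero => rw [pow_zero, one_mul]
      | succ n ih =>
        rw [pow_succ, mul_assoc]
        exact ih.trans (Ideal.mul_mono_right hJ)
    have hJ0 : J = ⊥ := by
      have := hJn N
      rw [hN, zero_mul] at this
      exact le_bot_iff.mp this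
    ext m
    by_cases hm : m ∈ f.support
    · have h4 : f m ∈ J := Ideal.subset_span ⟨⟨m, hm⟩, rfl⟩
      rw [hJ0, Submodule.mem_bot] at h4
      rw [h4]; rfl
    · rw [Finsupp.notMem_support_iff.mp hm]; rfl
  · have key : ∀ n : ℕ, Submodule.span R (Set.range x) ⊔ I ^ n • (⊤ : Submodule R C) = ⊤ := by
      intro n
      induction n with
      | zero => rw [pow_zero, Ideal.one_eq_top, Submodule.top_smul, sup_top_eq]
      | succ n ih =>
        rw [eq_top_iff]
        calc (⊤ : Submodule R C) = Submodule.span R (Set.range x) ⊔ I ^ n • ⊤ := ih.symm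
          _ = Submodule.span R (Set.range x) ⊔ I ^ n • (Submodule.span R (Set.range x) ⊔ I • ⊤) := by rw [hspan]
          _ ≤ _ := by
            rw [Submodule.smul_sup, ← Submodule.mul_smul, ← pow_succ]
            exact sup_le le_sup_left (sup_le (Submodule.smul_le_right.trans le_sup_left) le_sup_right)
    have h := key N
    rw [hN, show (0 : Ideal R) = ⊥ from rfl, Submodule.bot_smul, sup_bot_eq, ← Finsupp.range_linearCombination] at h
    exact LinearMap.range_eq_top.mp h

variable {R : Type u} [CommRing R] {C : Type u} [CommRing C] [HopfAlgebra R C]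

theorem map_mem_mul_smul {M N P : Type u} [AddCommGroup M] [Module R M] [AddCommGroup N] [Module R N] [AddCommGroup P]
    [Module R P] (h : M →ₗ[R] N) (g : P →ₗ[R] P) (I J : Ideal R) (hh : ∀ a, h a ∈ I • (⊤ : Submodule R N))
    {d : M ⊗[R] P} (hd : d ∈ J • (⊤ : Submodule R (M ⊗[R] P))) :
    TensorProduct.map h g d ∈ (I * J) • (⊤ : Submodule R (N ⊗[R] P)) := by
  induction hd using Submodule.smul_induction_on' with
  | add a _ b _ ha hb => rw [map_add]; exact add_mem ha hb
  | smul r hr z _ =>
    rw [map_smul, mul_comm I J, Submodule.mul_smul]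
    refine Submodule.smul_mem_smul hr ?_
    clear * - hh
    induction z using TensorProduct.induction_on with
    | zero => simp
    | add a b ha hb => rw [map_add]; exact add_mem ha hb
    | tmul a b => rw [TensorProduct.map_tmul]; exact map_mem_of_mem_smul ((TensorProduct.mk R N P).flip (g b)) (hh a)

/-- One step of the deformation of a group-like element, given an invariant functional. -/
theorem glDefect_step {I : Ideal R} (n : ℕ) (hn : 1 ≤ n) (lam : C →ₗ[R] R) {x : C}
    (hinv : ∀ c, TensorProduct.lid R C (TensorProduct.map lam LinearMap.id (CoalgebraStruct.comul (R := R) c)) - lam c • x ∈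
      I • (⊤ : Submodule R C))
    (hlx : lam x - 1 ∈ I) (hd : glDefect (R := R) x ∈ I ^ n • (⊤ : Submodule R (C ⊗[R] C))) :
    ∃ u ∈ I ^ n • (⊤ : Submodule R C), glDefect (R := R) (x + u) ∈ I ^ (n + 1) • (⊤ : Submodule R (C ⊗[R] C)) := by
  let Δ := CoalgebraStruct.comul (R := R) (A := C)
  let μ : C ⊗[R] C →ₗ[R] C := (TensorProduct.lid R C).toLinearMap ∘ₗ TensorProduct.map lam LinearMap.id
  let Λ : C ⊗[R] (C ⊗[R] C) →ₗ[R] C ⊗[R] C := (TensorProduct.lid R (C ⊗[R] C)).toLinearMap ∘ₗ TensorProduct.map lam LinearMap.id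
  set d := glDefect (R := R) x with hdd
  have hu : μ d ∈ I ^ n • (⊤ : Submodule R C) := map_mem_of_mem_smul μ hd
  refine ⟨μ d, hu, ?_⟩
  have hident : TensorProduct.assoc R C C C (Δ.rTensor C d) + TensorProduct.assoc R C C C (d ⊗ₜ[R] x) =
      Δ.lTensor C d + x ⊗ₜ[R] d := by
    rw [hdd, glDefect]
    simp only [map_sub, TensorProduct.sub_tmul, TensorProduct.tmul_sub, LinearMap.rTensor_tmul, LinearMap.lTensor_tmul,
      TensorProduct.assoc_tmul]
    rw [show TensorProduct.assoc R C C C (Δ.rTensor C (Δ x)) = Δ.lTensor C (Δ x) from Coalgebra.coassoc_apply x]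
    abel
  have h1 := congrArg Λ hident
  have hP : ∀ z : C ⊗[R] C, Λ (TensorProduct.assoc R C C C (Δ.rTensor C z)) =
      TensorProduct.map (μ ∘ₗ Δ) LinearMap.id z := by
    intro z
    induction z using TensorProduct.induction_on with
    | zero => simp
    | add a b ha hb => simp only [map_add, ha, hb]
    | tmul a b =>
      rw [LinearMap.rTensor_tmul, TensorProduct.map_tmul]
      show _ = μ (Δ a) ⊗ₜ[R] b
      generalize Δ a = w
      induction w using TensorProduct.induction_on with
      | zero => simp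
      | add a b ha hb => simp only [map_add, TensorProduct.add_tmul, ha, hb]
      | tmul a a' => simp [Λ, μ, TensorProduct.smul_tmul']
  have hQ : Λ (TensorProduct.assoc R C C C (d ⊗ₜ[R] x)) = μ d ⊗ₜ[R] x := by
    generalize d = z
    induction z using TensorProduct.induction_on with
    | zero => simp
    | add a b ha hb => simp only [map_add, TensorProduct.add_tmul, ha, hb]
    | tmul a a' => simp [Λ, μ, TensorProduct.smul_tmul']
  have hS : Λ (Δ.lTensor C d) = Δ (μ d) := by
    generalize d = z
    induction z using TensorProduct.induction_on with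
    | zero => simp
    | add a b ha hb => simp only [map_add, ha, hb]
    | tmul a a' => simp [Λ, μ]
  have hT : Λ (x ⊗ₜ[R] d) = lam x • d := by simp [Λ]
  rw [map_add, map_add, hP, hQ, hS, hT] at h1
  let h : C →ₗ[R] C := μ ∘ₗ Δ - lam.smulRight x
  have herr : TensorProduct.map (μ ∘ₗ Δ) LinearMap.id d - x ⊗ₜ[R] μ d ∈ (I * I ^ n) • (⊤ : Submodule R (C ⊗[R] C)) := by
    have h2 : x ⊗ₜ[R] μ d = TensorProduct.map (lam.smulRight x) LinearMap.id d := by
      generalize d = z
      induction z using TensorProduct.induction_on with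
      | zero => simp
      | add a b ha hb => simp only [map_add, TensorProduct.tmul_add, ha, hb]
      | tmul a a' => simp [μ, TensorProduct.smul_tmul', TensorProduct.tmul_smul]
    have h4 : ∀ z : C ⊗[R] C, TensorProduct.map (μ ∘ₗ Δ) LinearMap.id z - TensorProduct.map (lam.smulRight x) LinearMap.id z =
        TensorProduct.map h LinearMap.id z := fun z => by
      induction z using TensorProduct.induction_on with
      | zero => simp
      | add a b ha hb => simp only [map_add, ← ha, ← hb]; abel
      | tmul a a' => simp [h, TensorProduct.sub_tmul]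
    rw [h2, h4]
    exact map_mem_mul_smul h LinearMap.id I (I ^ n) hinv hd
  rw [← pow_succ'] at herr
  have hkey : d + lin x (μ d) = (1 - lam x) • d + (TensorProduct.map (μ ∘ₗ Δ) LinearMap.id d - x ⊗ₜ[R] μ d) := by
    have h3 : lin x (μ d) = Δ (μ d) - μ d ⊗ₜ[R] x - x ⊗ₜ[R] μ d := rfl
    rw [h3, eq_sub_of_add_eq h1.symm, sub_smul, one_smul]
    abel
  rw [glDefect_add, ← hdd, hkey]
  refine sub_mem (add_mem ?_ herr) ?_
  · rw [pow_succ', Submodule.mul_smul]
    exact Submodule.smul_mem_smul (by rw [← neg_sub]; exact neg_mem hlx) hd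
  · exact Submodule.smul_mono (by rw [← pow_add]; exact Ideal.pow_le_pow_right (by omega)) le_rfl (smul_top_tmul _ _ hu hu)

/-- Group-like elements congruent modulo a nilpotent ideal are equal, given an invariant functional. -/
theorem groupLike_eq_of_invariant {I : Ideal R} (hI : IsNilpotent I) (lam : C →ₗ[R] R) {g g' : C}
    (hg : IsGroupLikeElem R g) (hg' : IsGroupLikeElem R g')
    (hinv : ∀ c, TensorProduct.lid R C (TensorProduct.map lam LinearMap.id (CoalgebraStruct.comul (R := R) c)) - lam c • g ∈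
      I • (⊤ : Submodule R C))
    (hlx : lam g - 1 ∈ I) (hsub : g' - g ∈ I • (⊤ : Submodule R C)) : g' = g := by
  obtain ⟨N, hN⟩ := hI
  let μ : C ⊗[R] C →ₗ[R] C := (TensorProduct.lid R C).toLinearMap ∘ₗ TensorProduct.map lam LinearMap.id
  set u := g' - g
  suffices key : ∀ n : ℕ, u ∈ I ^ (n + 1) • (⊤ : Submodule R C) by
    have h := key N
    rw [pow_succ, hN, zero_mul, show (0 : Ideal R) = ⊥ from rfl, Submodule.bot_smul, Submodule.mem_bot] at h
    exact sub_eq_zero.mp h
  intro n
  induction n with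
  | zero => rw [pow_one]; exact hsub
  | succ n ih =>
    have h0 : glDefect (R := R) g + lin g u - u ⊗ₜ[R] u = 0 := by
      rw [← glDefect_add, add_sub_cancel, glDefect, hg'.comul_eq_tmul_self, sub_self]
    rw [glDefect, hg.comul_eq_tmul_self, sub_self, zero_add] at h0
    have h1 := congrArg μ h0
    have h2 : ∀ a b : C, μ (a ⊗ₜ[R] b) = lam a • b := fun a b => by simp [μ]
    simp only [lin, LinearMap.sub_apply, LinearMap.flip_apply, TensorProduct.mk_apply, map_sub, map_zero, h2] at h1
    have h3 : u = (μ (CoalgebraStruct.comul (R := R) u) - lam u • g) - lam u • u - (lam g - 1) • u := by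
      have h4 : μ (CoalgebraStruct.comul (R := R) u) - lam u • g - lam u • u = lam g • u := by
        rw [← sub_eq_zero, ← h1]; abel
      rw [h4, sub_smul, one_smul]; abel
    rw [h3]
    have hmul : ∀ (t : R) {z : C}, t ∈ I → z ∈ I ^ (n + 1) • (⊤ : Submodule R C) → t • z ∈ I ^ (n + 1 + 1) • (⊤ : Submodule R C) := by
      intro t z ht hz
      rw [pow_succ', Submodule.mul_smul]
      exact Submodule.smul_mem_smul ht hz
    refine sub_mem (sub_mem ?_ (hmul _ ?_ ih)) (hmul _ hlx ih)
    · let h : C →ₗ[R] C := μ ∘ₗ CoalgebraStruct.comul (R := R) - lam.smulRight g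
      show h u ∈ _
      clear h1 h3 h0
      generalize u = w at ih
      induction ih using Submodule.smul_induction_on' with
      | add a _ b _ ha hb => rw [map_add]; exact add_mem ha hb
      | smul r hr z _ =>
        rw [map_smul, pow_succ _ (n + 1), Submodule.mul_smul]
        exact Submodule.smul_mem_smul hr (hinv z)
    · have h5 := map_mem_of_mem_smul lam hsub
      rw [smul_eq_mul, Ideal.mul_top] at h5
      exact h5

set_option synthInstance.maxHeartbeats 200000 in
set_option maxHeartbeats 800000 in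
/-- A flat group which is diagonalisable modulo a nilpotent ideal is diagonalisable. -/
theorem isDiag_of_flat_mod_nilpotent [Module.Flat R C] {I : Ideal R} (hI : IsNilpotent I)
    (h0 : SGA3b.IsDiag (R ⧸ I) ((R ⧸ I) ⊗[R] C)) : SGA3b.IsDiag R C := by
  classical
  obtain ⟨M, _, ⟨e₀⟩⟩ := h0
  let ρ : C →ₗ[R] (R ⧸ I) ⊗[R] C := TensorProduct.mk R (R ⧸ I) C 1
  have hρ : ∀ a : C, ρ a = 0 ↔ a ∈ I • (⊤ : Submodule R C) := fun a => by
    rw [← (TensorProduct.quotTensorEquivQuotSMul C I).map_eq_zero_iff, show ρ a = Ideal.Quotient.mk I 1 ⊗ₜ[R] a by simp [ρ],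
      TensorProduct.quotTensorEquivQuotSMul_mk_tmul, one_smul, Submodule.Quotient.mk_eq_zero]
  have hρsurj : ∀ w : (R ⧸ I) ⊗[R] C, ∃ a, ρ a = w := fun w =>
    TensorProduct.mk_surjective R C (R ⧸ I) Ideal.Quotient.mk_surjective w
  let el : (R ⧸ I) ⊗[R] C →ₗ[R ⧸ I] MonoidAlgebra (R ⧸ I) M := (e₀ : (R ⧸ I) ⊗[R] C →ₐc[R ⧸ I] MonoidAlgebra (R ⧸ I) M)
  let E : C →ₗ[R] MonoidAlgebra (R ⧸ I) M := el.restrictScalars R ∘ₗ ρ
  have hE : ∀ a : C, E a = 0 ↔ a ∈ I • (⊤ : Submodule R C) := fun a => by
    rw [← hρ]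
    exact map_eq_zero_iff e₀ (EquivLike.injective e₀)
  have hEsurj : Function.Surjective E := fun w => by
    obtain ⟨a, ha⟩ := hρsurj (e₀.symm w)
    refine ⟨a, ?_⟩
    show e₀ (ρ a) = w
    rw [ha]
    exact e₀.apply_symm_apply w
  choose x hx using fun m : M => hEsurj (MonoidAlgebra.single m 1)
  let co : M → C →ₗ[R] R ⧸ I := fun m => (coeffAt (R ⧸ I) m).restrictScalars R ∘ₗ E
  have hc : ∀ m m', co m (x m') = if m' = m then 1 else 0 := fun m m' => by
    show coeffAt (R ⧸ I) m (E (x m')) = _
    rw [hx, coeffAt_single]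
  have hspan : Submodule.span R (Set.range x) ⊔ I • (⊤ : Submodule R C) = ⊤ := by
    rw [eq_top_iff]
    intro a _
    suffices h : ∀ w, ∃ b ∈ Submodule.span R (Set.range x), E b = w by
      obtain ⟨b, hb, hba⟩ := h (E a)
      rw [← add_sub_cancel b a]
      exact Submodule.add_mem_sup hb ((hE _).mp (by rw [map_sub, hba, sub_self]))
    intro w
    induction w using MonoidAlgebra.induction_linear with
    | zero => exact ⟨0, zero_mem _, map_zero _⟩
    | add u v hu hv =>
      obtain ⟨b, hb, rfl⟩ := hu; obtain ⟨b', hb', rfl⟩ := hv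
      exact ⟨b + b', add_mem hb hb', map_add E b b'⟩
    | single m r =>
      obtain ⟨r, rfl⟩ := Ideal.Quotient.mk_surjective r
      refine ⟨r • x m, Submodule.smul_mem _ r (Submodule.subset_span ⟨m, rfl⟩), ?_⟩
      rw [map_smul, hx, ← algebraMap_smul (R ⧸ I) r, MonoidAlgebra.smul_single, smul_eq_mul, mul_one]
      rfl
  let φ := LinearEquiv.ofBijective (Finsupp.linearCombination R x) (linearCombination_bijective hI x hspan co hc)
  let lam : M → C →ₗ[R] R := fun m => Finsupp.lapply m ∘ₗ φ.symm.toLinearMap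
  have hlam : ∀ m c, Ideal.Quotient.mk I (lam m c) = co m c := by
    intro m c
    obtain ⟨f, rfl⟩ := φ.surjective c
    simp only [lam, LinearMap.comp_apply, LinearEquiv.coe_coe, LinearEquiv.symm_apply_apply, Finsupp.lapply_apply]
    induction f using Finsupp.induction_linear with
    | zero => simp
    | add u v hu hv => simp [map_add, hu, hv]
    | single m' r =>
      rw [show φ (Finsupp.single m' r) = r • x m' from Finsupp.linearCombination_single R r m', map_smul, hc,
        Algebra.smul_def, Finsupp.single_apply]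
      split_ifs <;> simp
  have hinv : ∀ (m : M) (y : C), E y = MonoidAlgebra.single m 1 → (∀ c,
      TensorProduct.lid R C (TensorProduct.map (lam m) LinearMap.id (CoalgebraStruct.comul (R := R) c)) - lam m c • y ∈
        I • (⊤ : Submodule R C)) ∧ lam m y - 1 ∈ I := by
    intro m y hy
    refine ⟨fun c => ?_, ?_⟩
    · rw [← hE, map_sub, sub_eq_zero, map_smul, hy, ← algebraMap_smul (R ⧸ I) (lam m c), Ideal.Quotient.algebraMap_eq, hlam,
        MonoidAlgebra.smul_single, smul_eq_mul, mul_one]
      apply (MonoidAlgebra.coeffLinearEquiv (R ⧸ I)).injective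
      ext r
      show coeffAt (R ⧸ I) r _ = coeffAt (R ⧸ I) r (MonoidAlgebra.single m (co m c))
      rw [coeffAt_single]
      show _ = if m = r then coeffAt (R ⧸ I) m (e₀ ((1 : R ⧸ I) ⊗ₜ[R] c)) else 0
      have h2 := coeffAt_comul m r (e₀ ((1 : R ⧸ I) ⊗ₜ[R] c))
      rw [← CoalgHomClass.map_comp_comul_apply e₀, TensorProduct.comul_tmul, Bialgebra.comul_one] at h2
      refine Eq.trans ?_ h2
      generalize CoalgebraStruct.comul (R := R) c = z
      induction z using TensorProduct.induction_on with
      | zero => simp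
      | add a b ha hb => simp only [map_add, TensorProduct.tmul_add, ha, hb]
      | tmul a b =>
        rw [TensorProduct.map_tmul, LinearMap.id_apply, TensorProduct.lid_tmul, map_smul, ← algebraMap_smul (R ⧸ I) (lam m a),
          map_smul, Ideal.Quotient.algebraMap_eq, hlam]
        simp [co, E, el, ρ, Algebra.TensorProduct.one_def]
    · rw [← Ideal.Quotient.eq, hlam, map_one]
      show coeffAt (R ⧸ I) m (E y) = 1
      rw [hy, coeffAt_single, if_pos rfl]
  have hEmul : ∀ a b : C, E (a * b) = E a * E b := fun a b => by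
    show e₀ ((1 : R ⧸ I) ⊗ₜ[R] (a * b)) = e₀ ((1 : R ⧸ I) ⊗ₜ[R] a) * e₀ ((1 : R ⧸ I) ⊗ₜ[R] b)
    rw [← map_mul]; simp
  have hE1 : E 1 = 1 := map_one e₀
  have hglq : ∀ m, glDefect (R := R) (x m) ∈ I • (⊤ : Submodule R (C ⊗[R] C)) ∧ CoalgebraStruct.counit (R := R) (x m) - 1 ∈ I := by
    intro m
    have hm : IsGroupLikeElem (R ⧸ I) (MonoidAlgebra.single m (1 : R ⧸ I)) := ⟨by simp, by simp⟩
    have hgl : IsGroupLikeElem (R ⧸ I) ((1 : R ⧸ I) ⊗ₜ[R] x m) := by
      rw [← isGroupLikeElem_map_equiv e₀, show e₀ ((1 : R ⧸ I) ⊗ₜ[R] x m) = MonoidAlgebra.single m 1 from hx m]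
      exact hm
    refine ⟨?_, ?_⟩
    · obtain ⟨h1, -⟩ := (groupLike_iff _).mp hgl
      have h2 : comulS (R ⧸ I) ((1 : R ⧸ I) ⊗ₜ[R] x m) = (1 : R ⧸ I) ⊗ₜ[R] CoalgebraStruct.comul (R := R) (x m) := rfl
      have h3 : inlS (R ⧸ I) ((1 : R ⧸ I) ⊗ₜ[R] x m) * inrS (R ⧸ I) ((1 : R ⧸ I) ⊗ₜ[R] x m) =
          (1 : R ⧸ I) ⊗ₜ[R] (x m ⊗ₜ[R] x m) := by
        simp [inlS, inrS]
      rw [h2, h3] at h1
      rw [← Submodule.Quotient.mk_eq_zero, ← (TensorProduct.quotTensorEquivQuotSMul (C ⊗[R] C) I).symm.map_eq_zero_iff,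
        TensorProduct.quotTensorEquivQuotSMul_symm_mk, glDefect, TensorProduct.tmul_sub, h1, sub_self]
    · have h1 := hgl.counit_eq_one
      rw [TensorProduct.counit_tmul, Bialgebra.counit_one, Algebra.smul_def, mul_one,
        Ideal.Quotient.algebraMap_eq, ← map_one (Ideal.Quotient.mk I), Ideal.Quotient.eq] at h1
      exact h1
  obtain ⟨N, hN⟩ := id hI
  have hnil : ∀ r ∈ I, IsNilpotent r := fun r hr => ⟨N, by
    have h := Ideal.pow_mem_pow hr N
    rwa [hN, Ideal.zero_eq_bot, Submodule.mem_bot] at h⟩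
  have hex : ∀ m, ∃ g : C, IsGroupLikeElem R g ∧ E g = MonoidAlgebra.single m 1 := by
    intro m
    have hstep : ∀ n : ℕ, ∃ y : C, E y = MonoidAlgebra.single m 1 ∧ CoalgebraStruct.counit (R := R) y - 1 ∈ I ∧
        glDefect (R := R) y ∈ I ^ (n + 1) • (⊤ : Submodule R (C ⊗[R] C)) := by
      intro n
      induction n with
      | zero => exact ⟨x m, hx m, (hglq m).2, by rw [pow_one]; exact (hglq m).1⟩
      | succ n ih =>
        obtain ⟨y, hy, hyc, hyd⟩ := ih
        obtain ⟨h1, h2⟩ := hinv m y hy
        obtain ⟨u, hu, hud⟩ := glDefect_step (n + 1) (Nat.le_add_left 1 n) (lam m) h1 h2 hyd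
        have huI : u ∈ I • (⊤ : Submodule R C) := Submodule.smul_mono (Ideal.pow_le_self (Nat.succ_ne_zero n)) le_rfl hu
        refine ⟨y + u, by rw [map_add, hy, (hE u).mpr huI, add_zero], ?_, hud⟩
        rw [map_add, add_sub_right_comm]
        refine add_mem hyc ?_
        have := map_mem_of_mem_smul (CoalgebraStruct.counit (R := R) (A := C)) huI
        rwa [smul_eq_mul, Ideal.mul_top] at this
    obtain ⟨y, hy, hyc, hyd⟩ := hstep N
    rw [pow_succ, hN, zero_mul, show (0 : Ideal R) = ⊥ from rfl, Submodule.bot_smul, Submodule.mem_bot] at hyd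
    have := counit_sub_one_mem (⊥ : Ideal R) I hnil (by rw [hyd]; exact zero_mem _) hyc
    exact ⟨y, ⟨sub_eq_zero.mp this, sub_eq_zero.mp hyd⟩, hy⟩
  choose g hg hgm using hex
  have huniq : ∀ (m : M) (a : C), IsGroupLikeElem R a → E a = MonoidAlgebra.single m 1 → a = g m := fun m a ha hea =>
    groupLike_eq_of_invariant hI (lam m) (hg m) ha (hinv m (g m) (hgm m)).1 (hinv m (g m) (hgm m)).2
      ((hE _).mp (by rw [map_sub, hea, hgm, sub_self]))
  let gh : M →* C :=
    { toFun := g
      map_one' := (huniq 1 1 .one (by rw [hE1, MonoidAlgebra.one_def])).symm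
      map_mul' := fun m n => (huniq (m * n) _ ((hg m).mul (hg n)) (by
        rw [hEmul, hgm, hgm, MonoidAlgebra.single_mul_single, one_mul])).symm }
  let ψa : MonoidAlgebra R M →ₐ[R] C := MonoidAlgebra.lift R C M gh
  let ψ : MonoidAlgebra R M →ₐc[R] C := BialgHom.ofAlgHom ψa
    (by
      ext m
      simp [ψa, gh, (hg m).counit_eq_one])
    (by
      ext m
      simp [ψa, gh, (hg m).comul_eq_tmul_self])
  have hbij := linearCombination_bijective hI g (by
      rw [eq_top_iff]
      intro a _
      suffices h : ∀ w, ∃ b ∈ Submodule.span R (Set.range g), E b = w by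
        obtain ⟨b, hb, hba⟩ := h (E a)
        rw [← add_sub_cancel b a]
        exact Submodule.add_mem_sup hb ((hE _).mp (by rw [map_sub, hba, sub_self]))
      intro w
      induction w using MonoidAlgebra.induction_linear with
      | zero => exact ⟨0, zero_mem _, map_zero _⟩
      | add u v hu hv =>
        obtain ⟨b, hb, rfl⟩ := hu; obtain ⟨b', hb', rfl⟩ := hv
        exact ⟨b + b', add_mem hb hb', map_add E b b'⟩
      | single m r =>
        obtain ⟨r, rfl⟩ := Ideal.Quotient.mk_surjective r
        refine ⟨r • g m, Submodule.smul_mem _ r (Submodule.subset_span ⟨m, rfl⟩), ?_⟩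
        rw [map_smul, hgm, ← algebraMap_smul (R ⧸ I) r, MonoidAlgebra.smul_single, smul_eq_mul, mul_one]
        rfl) co (fun m m' => by
      show coeffAt (R ⧸ I) m (E (g m')) = _
      rw [hgm, coeffAt_single])
  have hψb : Function.Bijective ψ := by
    have heq : (ψ : MonoidAlgebra R M → C) = Finsupp.linearCombination R g ∘ MonoidAlgebra.coeffLinearEquiv R := by
      funext w
      show ψa w = _
      rw [MonoidAlgebra.lift_apply, Function.comp_apply, Finsupp.linearCombination_apply]
      rfl
    rw [heq]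
    exact hbij.comp (LinearEquiv.bijective _)
  exact ⟨M, inferInstance, ⟨(BialgEquiv.ofBijective ψ hψb).symm⟩⟩

end Groth.Agent.H83.MultType
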