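import Groth.Agent.H83.MultType.Quot
import Groth.Agent.S9612

/-! The torsion subgroups of a group of multiplicative type are schematically dense. -/

set_option autoImplicit false

universe u

open TensorProduct

namespace Groth.Agent.H83.MultType

/-- The residue fields of an algebra of finite type over the integers are finite, as are the thickenings. -/
theorem finite_quotient_maximal_pow {B : Type u} [CommRing B] [Algebra.FiniteType ℤ B] (m : Ideal B) [m.IsMaximal]
    (N : ℕ) : Finite (B ⧸ m ^ N) := by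
  haveI : IsJacobsonRing ℤ := by
    haveI := Groth.Agent.S9612.result (S := ℤ)
    infer_instance
  haveI : IsNoetherianRing B := Algebra.FiniteType.isNoetherianRing ℤ B
  letI : Field (B ⧸ m) := Ideal.Quotient.field m
  haveI : Algebra.FiniteType ℤ (B ⧸ m) := Algebra.FiniteType.of_surjective (Ideal.Quotient.mkₐ ℤ m) Ideal.Quotient.mk_surjective
  haveI : Module.Finite ℤ (B ⧸ m) := finite_of_finite_type_of_isJacobsonRing ℤ (B ⧸ m)
  haveI : Finite (B ⧸ m) := by
    obtain ⟨p, hp⟩ := CharP.exists (B ⧸ m)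
    haveI := hp
    rcases CharP.char_is_prime_or_zero (B ⧸ m) p with hpp | rfl
    · haveI : Fact p.Prime := ⟨hpp⟩
      letI : Algebra (ZMod p) (B ⧸ m) := ZMod.algebra _ p
      haveI : IsScalarTower ℤ (ZMod p) (B ⧸ m) := IsScalarTower.of_algebraMap_eq' (RingHom.ext_int _ _)
      haveI := Module.Finite.of_restrictScalars_finite ℤ (ZMod p) (B ⧸ m)
      exact Module.finite_of_finite (ZMod p)
    · haveI := CharP.charP_to_charZero (B ⧸ m)
      exact absurd (isField_of_isIntegral_of_isField (R := ℤ) (S := B ⧸ m)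
        Int.cast_injective (Field.toIsField _)) Int.not_isField
  exact Ideal.finite_quotient_pow (IsNoetherian.noetherian m) N

/-- The projection onto the group algebra of `P/Pⁿ`. -/
noncomputable def modPow (S : Type u) [CommRing S] (P : Type u) [CommGroup P] (n : ℕ) :
    MonoidAlgebra S P →ₐ[S] MonoidAlgebra S (P ⧸ (powMonoidHom n : P →* P).range) :=
  MonoidAlgebra.mapDomainAlgHom S S (QuotientGroup.mk' _)

theorem modPow_powMap {S : Type u} [CommRing S] {P : Type u} [CommGroup P] (n : ℕ) (y : MonoidAlgebra S P) :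
    modPow S P n (MonoidAlgebra.mapDomainAlgHom S S (powMonoidHom n : P →* P) y) =
      algebraMap S _ (CoalgebraStruct.counit (R := S) y) := by
  induction y using MonoidAlgebra.induction_linear with
  | zero => simp
  | add a b ha hb => simp only [map_add, ha, hb]
  | single p r =>
    have h1 : ((powMonoidHom n : P →* P) p : P ⧸ (powMonoidHom n : P →* P).range) = 1 :=
      (QuotientGroup.eq_one_iff _).mpr ⟨p, rfl⟩
    simp only [powMonoidHom_apply] at h1
    simp [modPow, h1]

/-- The key statement for group algebras. -/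
theorem exists_pow_mul_eq_zero {S : Type u} [CommRing S] {P : Type u} [CommGroup P] [Group.FG P]
    (a x : MonoidAlgebra S P) (h : ∀ n : ℕ, 0 < n → ∃ m : ℕ, modPow S P n (a ^ m * x) = 0) :
    ∃ m : ℕ, a ^ m * x = 0 := by
  classical
  rcases subsingleton_or_nontrivial S with hS | hS
  · haveI : Subsingleton (MonoidAlgebra S P) := (MonoidAlgebra.coeffLinearEquiv S).injective.subsingleton
    exact ⟨0, Subsingleton.elim _ _⟩
  let s : Finset S := a.coeff.support.image (coeffAt S · a) ∪ x.coeff.support.image (coeffAt S · x)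
  let S₀ : Subalgebra ℤ S := Algebra.adjoin ℤ (s : Set S)
  haveI : Algebra.FiniteType ℤ S₀ := (Subalgebra.fg_iff_finiteType S₀).mp ⟨s, rfl⟩
  let ι : S₀ →+* S := S₀.val.toRingHom
  let Φ : MonoidAlgebra S₀ P →+* MonoidAlgebra S P :=
    MonoidAlgebra.liftNCRingHom (MonoidAlgebra.singleOneRingHom.comp ι) (MonoidAlgebra.of S P) (fun _ _ => Commute.all _ _)
  have hΦ : ∀ (p : P) (r : S₀), Φ (MonoidAlgebra.single p r) = MonoidAlgebra.single p (ι r) := fun p r => by
    simp [Φ, MonoidAlgebra.liftNCRingHom, MonoidAlgebra.single_mul_single]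
  have hΦc : ∀ (y : MonoidAlgebra S₀ P) (q : P), coeffAt S q (Φ y) = ι (coeffAt S₀ q y) := by
    intro y q
    induction y using MonoidAlgebra.induction_linear with
    | zero => simp
    | add u v hu hv => simp only [map_add, hu, hv]
    | single p r => rw [hΦ, coeffAt_single, coeffAt_single]; split_ifs <;> simp
  have hΦinj : Function.Injective Φ := fun u v huv => by
    apply (MonoidAlgebra.coeffLinearEquiv S₀).injective
    ext q : 1
    exact Subtype.coe_injective (show ι (coeffAt S₀ q u) = ι (coeffAt S₀ q v) by rw [← hΦc, ← hΦc, huv])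
  have hex : ∀ y : MonoidAlgebra S P, (∀ q ∈ y.coeff.support, coeffAt S q y ∈ S₀) → ∃ y₀, Φ y₀ = y := by
    intro y hy
    refine ⟨∑ q : y.coeff.support, MonoidAlgebra.single (q : P) ⟨_, hy q q.2⟩, ?_⟩
    rw [map_sum]
    simp only [hΦ]
    show ∑ q : y.coeff.support, MonoidAlgebra.single (q : P) (coeffAt S (q : P) y) = y
    rw [Finset.sum_coe_sort y.coeff.support (fun q => MonoidAlgebra.single q (coeffAt S q y))]
    exact y.sum_coeff_single
  obtain ⟨a₀, ha₀⟩ := hex a fun q hq => Algebra.subset_adjoin (by simp only [s, Finset.coe_union, Finset.coe_image]; exact Or.inl ⟨q, hq, rfl⟩)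
  obtain ⟨x₀, hx₀⟩ := hex x fun q hq => Algebra.subset_adjoin (by simp only [s, Finset.coe_union, Finset.coe_image]; exact Or.inr ⟨q, hq, rfl⟩)
  suffices ∃ m : ℕ, a₀ ^ m * x₀ = 0 by
    obtain ⟨m, hm⟩ := this
    exact ⟨m, by rw [← ha₀, ← hx₀, ← map_pow, ← map_mul, hm, map_zero]⟩
  let B := MonoidAlgebra S₀ P
  haveI : Nontrivial S₀ := ⟨⟨0, 1, fun h => zero_ne_one (congrArg Subtype.val h)⟩⟩
  haveI : Algebra.FiniteType S₀ B := MonoidAlgebra.finiteType_iff_group_fg.mpr inferInstance
  haveI : Algebra.FiniteType ℤ B := Algebra.FiniteType.trans ‹Algebra.FiniteType ℤ S₀› ‹Algebra.FiniteType S₀ B›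
  haveI : IsNoetherianRing B := Algebra.FiniteType.isNoetherianRing ℤ B
  have hBZ : @Algebra.FiniteType ℤ B _ _ (Ring.toIntAlgebra B) := by
    have h2 : (algebraMap ℤ B).FiniteType := RingHom.finiteType_algebraMap.mpr inferInstance
    refine (@RingHom.finiteType_algebraMap ℤ B _ _ (Ring.toIntAlgebra B)).mp ?_
    rwa [RingHom.ext_int (@algebraMap ℤ B _ _ (Ring.toIntAlgebra B)) (algebraMap ℤ B)]
  haveI : IsJacobsonRing B := @Groth.Agent.S9612.result B _ hBZ
  by_contra hne
  push_neg at hne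
  -- a maximal ideal missing `a₀` at which `x₀` does not vanish
  let K : Ideal B := LinearMap.ker (LinearMap.toSpanSingleton B B x₀)
  have haK : a₀ ∉ K.radical := fun hr => by
    obtain ⟨m, hm⟩ := hr
    exact hne m hm
  rw [Ideal.radical_eq_jacobson, Ideal.jacobson, Submodule.mem_sInf] at haK
  push_neg at haK
  obtain ⟨m, ⟨hKm, hmax⟩, ham⟩ := haK
  haveI := hmax
  obtain ⟨N, hN⟩ : ∃ N : ℕ, x₀ ∉ m ^ N := by
    by_contra hall
    push_neg at hall
    have hmem : x₀ ∈ ⨅ N : ℕ, m ^ N • (⊤ : Submodule B B) := by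
      rw [Submodule.mem_iInf]
      intro N
      rw [smul_eq_mul, Ideal.mul_top]
      exact hall N
    obtain ⟨⟨r, hr⟩, hrx⟩ := (Ideal.mem_iInf_smul_pow_eq_bot_iff m x₀).mp hmem
    have h1 : 1 - r ∈ K := by
      show (1 - r) * x₀ = 0
      rw [sub_mul, one_mul, sub_eq_zero]
      exact hrx.symm
    exact hmax.ne_top (Ideal.eq_top_iff_one _ |>.mpr (by simpa using add_mem (hKm h1) hr))
  haveI := @finite_quotient_maximal_pow B _ hBZ m hmax N
  let Q := B ⧸ m ^ N
  let n := Nat.card Qˣ
  have hn : 0 < n := Nat.card_pos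
  obtain ⟨k, hk⟩ := h n hn
  rw [← ha₀, ← hx₀] at hk
  let π : B →+* Q := Ideal.Quotient.mk _
  let u : P →* Qˣ := MonoidHom.toHomUnits (π.toMonoidHom.comp (MonoidAlgebra.of S₀ P))
  have hu : (powMonoidHom n : P →* P).range ≤ u.ker := by
    rintro _ ⟨p, rfl⟩
    rw [MonoidHom.mem_ker, powMonoidHom_apply, map_pow]
    exact pow_card_eq_one'
  let u' : P ⧸ (powMonoidHom n : P →* P).range →* Q :=
    (Units.coeHom Q).comp (QuotientGroup.lift _ u hu)
  let π' : MonoidAlgebra S₀ (P ⧸ (powMonoidHom n : P →* P).range) →+* Q :=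
    MonoidAlgebra.liftNCRingHom (π.comp MonoidAlgebra.singleOneRingHom) u' (fun _ _ => Commute.all _ _)
  have hπ : ∀ y : B, π' (modPow S₀ P n y) = π y := by
    intro y
    induction y using MonoidAlgebra.induction_linear with
    | zero => simp
    | add v w hv hw => simp only [map_add, hv, hw]
    | single p r =>
      rw [show modPow S₀ P n (MonoidAlgebra.single p r) = MonoidAlgebra.single (↑p : P ⧸ (powMonoidHom n : P →* P).range) r by simp [modPow],
        show π' (MonoidAlgebra.single (↑p : P ⧸ (powMonoidHom n : P →* P).range) r) =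
          π (MonoidAlgebra.single 1 r) * π (MonoidAlgebra.single p 1) by simp [π', u', u, MonoidAlgebra.liftNCRingHom]; rfl]
      rw [← map_mul, MonoidAlgebra.single_mul_single, one_mul, mul_one]
  have h0 : modPow S₀ P n (a₀ ^ k * x₀) = 0 := by
    rw [← map_pow, ← map_mul] at hk
    generalize a₀ ^ k * x₀ = y at hk
    apply (MonoidAlgebra.coeffLinearEquiv S₀).injective
    ext q : 1
    apply Subtype.coe_injective
    have hnat : ∀ y : B, ι (coeffAt S₀ q (modPow S₀ P n y)) = coeffAt S q (modPow S P n (Φ y)) := by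
      intro y
      induction y using MonoidAlgebra.induction_linear with
      | zero => simp
      | add v w hv hw => simp only [map_add, hv, hw]
      | single p r =>
        simp only [hΦ, modPow, MonoidAlgebra.mapDomainAlgHom_apply, MonoidAlgebra.mapDomain_single, coeffAt_single]
        split_ifs <;> simp
    show ι (coeffAt S₀ q (modPow S₀ P n y)) = ι (coeffAt S₀ q 0)
    rw [hnat, hk, map_zero, map_zero, map_zero]
  have h1 : π (a₀ ^ k * x₀) = 0 := by rw [← hπ, h0, map_zero]
  rw [Ideal.Quotient.eq_zero_iff_mem] at h1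
  exact hN ((fun h' => ham (hmax.isPrime.mem_of_pow_mem k h') : a₀ ^ k ∉ m) |> fun hk' => by
    obtain ⟨c, b, hb, hcb⟩ := hmax.exists_inv hk'
    have hone : (1 : B) ∈ Ideal.span {a₀ ^ k} ⊔ m ^ N := by
      rw [← Ideal.eq_top_iff_one]
      apply Ideal.sup_pow_eq_top
      rw [Ideal.eq_top_iff_one]
      exact hcb ▸ add_mem (Ideal.mul_mem_left _ c (Submodule.mem_sup_left (Ideal.mem_span_singleton_self _))) (Submodule.mem_sup_right hb)
    obtain ⟨v, hv, w, hw, hvw⟩ := Submodule.mem_sup.mp hone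
    obtain ⟨d, rfl⟩ := Ideal.mem_span_singleton'.mp hv
    have : x₀ = d * (a₀ ^ k * x₀) + w * x₀ := by rw [← mul_assoc, ← add_mul, hvw, one_mul]
    rw [this]
    exact add_mem (Ideal.mul_mem_left _ d h1) (Ideal.mul_mem_right _ _ hw))

/-- The torsion ideal dies in the group algebra of `P/Pⁿ`. -/
theorem modPow_torsion {R : Type u} [CommRing R] {A : Type u} [CommRing A] [HopfAlgebra R A] {S : Type u} [CommRing S]
    [Algebra R S] {P : Type u} [CommGroup P] (e : (S ⊗[R] A) →ₐc[S] MonoidAlgebra S P) (n : ℕ) {z : A}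
    (hz : z ∈ SGA3b.torsionIdeal R A n) : modPow S P n (e ((1 : S) ⊗ₜ[R] z)) = 0 := by
  rw [SGA3b.torsionIdeal, Ideal.map] at hz
  induction hz using Submodule.span_induction with
  | zero => simp
  | add a b _ _ ha hb => rw [TensorProduct.tmul_add, map_add, map_add, ha, hb, add_zero]
  | smul a b _ hb =>
    rw [smul_eq_mul, show ((1 : S) ⊗ₜ[R] (a * b)) = ((1 : S) ⊗ₜ[R] a) * ((1 : S) ⊗ₜ[R] b) by simp, map_mul, map_mul, hb, mul_zero]
  | mem a ha =>
    obtain ⟨c, hc, rfl⟩ := ha
    have hc' : CoalgebraStruct.counit (R := R) c = 0 := hc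
    rw [map_powConv, modPow_powMap, CoalgHomClass.counit_comp_apply, TensorProduct.counit_tmul, hc', zero_smul, map_zero]

/-- The schematic density of the torsion subgroups. -/
theorem iInf_torsionIdeal {R : Type u} [CommRing R] {A : Type u} [CommRing A] [HopfAlgebra R A]
    (hft : Algebra.FiniteType R A) (h : SGA3b.IsMultType R A) (a : A) :
    ⨅ n : {n : ℕ // 0 < n}, Ideal.map (algebraMap A (Localization.Away a)) (SGA3b.torsionIdeal R A n.1) = ⊥ := by
  rw [eq_bot_iff]
  intro z hz
  obtain ⟨x, ⟨_, k, rfl⟩, rfl⟩ := IsLocalization.exists_mk'_eq (Submonoid.powers a) z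
  rw [Submodule.mem_iInf] at hz
  have hmem : ∀ n : ℕ, 0 < n → ∃ m : ℕ, a ^ m * x ∈ SGA3b.torsionIdeal R A n := by
    intro n hn
    obtain ⟨_, ⟨m, rfl⟩, hm⟩ := (IsLocalization.mk'_mem_map_algebraMap_iff (Submonoid.powers a) _ _ x _).mp (hz ⟨n, hn⟩)
    exact ⟨m, hm⟩
  suffices hx : ∃ m : ℕ, a ^ m * x = 0 by
    obtain ⟨m, hm⟩ := hx
    exact (Submodule.mem_bot _).mpr ((IsLocalization.mk'_eq_zero_iff x _).mpr ⟨⟨a ^ m, m, rfl⟩, hm⟩)
  obtain ⟨s, hs, ht⟩ := exists_trivialisations h
  obtain ⟨t, hts, htop⟩ := (Ideal.span_eq_top_iff_finite s).mp hs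
  have hf : ∀ f ∈ t, ∃ m k' : ℕ, f ^ k' • (a ^ m * x) = 0 := by
    intro f hf
    obtain ⟨S, _, _, P, _, _, ⟨e⟩, hdet⟩ := ht f (hts hf)
    rcases subsingleton_or_nontrivial S with hS | hS
    · exact ⟨0, hdet A _ (by rw [Subsingleton.elim (1 : S) 0, TensorProduct.zero_tmul])⟩
    haveI : Group.FG P := fg_of_finiteType hft e
    let j : A → MonoidAlgebra S P := fun b => e ((1 : S) ⊗ₜ[R] b)
    obtain ⟨m, hm⟩ := exists_pow_mul_eq_zero (j a) (j x) fun n hn => by
      obtain ⟨m, hm⟩ := hmem n hn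
      refine ⟨m, ?_⟩
      have := modPow_torsion (e : (S ⊗[R] A) →ₐc[S] MonoidAlgebra S P) n hm
      simpa [j, ← map_pow, ← map_mul] using this
    refine ⟨m, hdet A _ (EquivLike.injective e ?_)⟩
    rw [map_zero, ← hm]
    simp [j, ← map_pow, ← map_mul]
  choose! m k' hk using hf
  refine ⟨t.sup m, eq_zero_of_forall_pow_smul htop fun f hf => ⟨k' f, ?_⟩⟩
  obtain ⟨c, hc⟩ := Nat.exists_eq_add_of_le (Finset.le_sup (f := m) hf)
  rw [hc, pow_add, mul_comm (a ^ m f) (a ^ c), mul_assoc, ← mul_smul_comm, hk f hf, mul_zero]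

end Groth.Agent.H83.MultType
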