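import Groth.Agent.H83.MultType.Quot

/-! The kernel of a power map of a group of multiplicative type. -/

set_option autoImplicit false

universe u

open TensorProduct

namespace Groth.Agent.H83.MultType

variable {R : Type u} [CommRing R] {A : Type u} [CommRing A] [HopfAlgebra R A]

/-- Any `n`-th power of a character dies in the kernel of the `n`-th power map. -/
theorem tmul_mk_pow_eq_one {S : Type u} [CommRing S] [Algebra R S] {P : Type u} [CommGroup P]
    (e : (S ⊗[R] A) ≃ₐc[S] MonoidAlgebra S P) (n : ℕ) (J : Ideal A) (hJ : SGA3b.torsionIdeal R A n ≤ J) (p : P) :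
    Algebra.TensorProduct.map (AlgHom.id S S) (Ideal.Quotient.mkₐ R J) (e.symm (MonoidAlgebra.single (p ^ n) 1)) = 1 := by
  let q : S ⊗[R] A →ₐ[S] S ⊗[R] (A ⧸ J) := Algebra.TensorProduct.map (AlgHom.id S S) (Ideal.Quotient.mkₐ R J)
  let ν : S ⊗[R] A →ₗ[S] S ⊗[R] A := (SGA3b.powConv R A n).toLinearMap.baseChange S
  have hν : ∀ z, e (ν z) = MonoidAlgebra.mapDomainAlgHom S S (powMonoidHom n : P →* P) (e z) := by
    intro z
    induction z using TensorProduct.induction_on with
    | zero => simp
    | add a b ha hb => simp only [map_add, ha, hb]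
    | tmul t a =>
      rw [show t ⊗ₜ[R] a = t • ((1 : S) ⊗ₜ[R] a) by rw [TensorProduct.smul_tmul', smul_eq_mul, mul_one]]
      rw [map_smul, map_smul, map_smul, map_smul]
      exact congrArg (t • ·) (map_powConv (e : (S ⊗[R] A) →ₐc[S] MonoidAlgebra S P) n a)
  have hker : ∀ z, q (ν z) = algebraMap S _ (CoalgebraStruct.counit (R := S) z) := by
    intro z
    induction z using TensorProduct.induction_on with
    | zero => simp
    | add a b ha hb => simp only [map_add, ha, hb]
    | tmul t a =>
      have h0 : a - algebraMap R A (CoalgebraStruct.counit (R := R) a) ∈ RingHom.ker (Bialgebra.counitAlgHom R A) := by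
        rw [RingHom.mem_ker, map_sub, AlgHom.commutes]; simp
      have h1 : Ideal.Quotient.mk J (SGA3b.powConv R A n a) = algebraMap R (A ⧸ J) (CoalgebraStruct.counit (R := R) a) := by
        have h2 := hJ (Ideal.mem_map_of_mem (SGA3b.powConv R A n) h0)
        rw [map_sub, AlgHom.commutes, ← Ideal.Quotient.eq] at h2
        rw [h2]; rfl
      simp only [q, ν, LinearMap.baseChange_tmul, Algebra.TensorProduct.map_tmul, AlgHom.id_apply, Ideal.Quotient.mkₐ_eq_mk,
        AlgHom.toLinearMap_apply, h1, TensorProduct.counit_tmul, Bialgebra.counit_one]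
      rw [Algebra.algebraMap_eq_smul_one (A := A ⧸ J), TensorProduct.tmul_smul, Algebra.TensorProduct.algebraMap_apply]
      simp [TensorProduct.smul_tmul']
  have h1 : e.symm (MonoidAlgebra.single (p ^ n) 1) = ν (e.symm (MonoidAlgebra.single p 1)) := by
    apply EquivLike.injective e
    rw [hν, show e (e.symm (MonoidAlgebra.single (p ^ n) 1)) = _ from e.apply_symm_apply _,
      show e (e.symm (MonoidAlgebra.single p 1)) = _ from e.apply_symm_apply _]
    simp
  show q _ = 1
  rw [h1, hker, CoalgHomClass.counit_comp_apply e.symm]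
  simp [Algebra.TensorProduct.one_def]

/-- Over a trivialising algebra the kernel of the power map is spanned by finitely many characters. -/
theorem finite_of_equiv (hft : Algebra.FiniteType R A) {S : Type u} [CommRing S] [Algebra R S] {P : Type u} [CommGroup P]
    (e : (S ⊗[R] A) ≃ₐc[S] MonoidAlgebra S P) (n : ℕ) (hn : 0 < n) (J : Ideal A) (hJ : SGA3b.torsionIdeal R A n ≤ J) :
    Module.Finite S (S ⊗[R] (A ⧸ J)) := by
  classical
  rcases subsingleton_or_nontrivial S with hS | hS
  · haveI := Module.subsingleton S (S ⊗[R] (A ⧸ J))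
    infer_instance
  let γ : P →* S ⊗[R] (A ⧸ J) :=
    (Algebra.TensorProduct.map (AlgHom.id S S) (Ideal.Quotient.mkₐ R J)).toMonoidHom.comp
      ((e.symm : MonoidAlgebra S P →ₐc[S] S ⊗[R] A).toAlgHom.toMonoidHom.comp (MonoidAlgebra.of S P))
  let N : Subgroup P := (powMonoidHom n : P →* P).range
  have hN : N ≤ MonoidHom.ker γ := by
    rintro _ ⟨p, rfl⟩
    exact tmul_mk_pow_eq_one e n J hJ p
  haveI := fg_of_finiteType hft e
  haveI : Group.FG (P ⧸ N) := Group.fg_of_surjective (QuotientGroup.mk'_surjective N)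
  have htor : Monoid.IsTorsion (P ⧸ N) := fun x => by
    induction x using QuotientGroup.induction_on with
    | H p => exact isOfFinOrder_iff_pow_eq_one.mpr ⟨n, hn, (QuotientGroup.eq_one_iff _).mpr ⟨p, rfl⟩⟩
  haveI : Finite (P ⧸ N) := CommGroup.finite_of_fg_torsion _ htor
  haveI := Fintype.ofFinite (P ⧸ N)
  refine ⟨⟨Finset.univ.image fun c : P ⧸ N => QuotientGroup.lift N γ hN c, top_le_iff.mp fun z _ => ?_⟩⟩
  obtain ⟨x, rfl⟩ : ∃ x : S ⊗[R] A, Algebra.TensorProduct.map (AlgHom.id S S) (Ideal.Quotient.mkₐ R J) x = z := by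
    induction z using TensorProduct.induction_on with
    | zero => exact ⟨0, map_zero _⟩
    | tmul t c =>
      obtain ⟨a, rfl⟩ := Ideal.Quotient.mk_surjective c
      exact ⟨t ⊗ₜ a, by simp⟩
    | add a b ha hb =>
      obtain ⟨x, rfl⟩ := ha (by trivial); obtain ⟨y, rfl⟩ := hb (by trivial)
      exact ⟨x + y, map_add _ x y⟩
  rw [← e.symm_apply_apply x]
  generalize e x = y
  induction y using MonoidAlgebra.induction_linear with
  | zero => simp
  | add a b ha hb => rw [map_add, map_add]; exact add_mem ha hb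
  | single p r =>
    rw [show MonoidAlgebra.single p r = r • MonoidAlgebra.single p (1 : S) by rw [MonoidAlgebra.smul_single, smul_eq_mul, mul_one],
      map_smul, map_smul]
    exact Submodule.smul_mem _ r (Submodule.subset_span (Finset.mem_coe.mpr (Finset.mem_image.mpr
      ⟨QuotientGroup.mk p, Finset.mem_univ _, rfl⟩)))

/-- The kernel of a power map is finite. -/
theorem finite_quotient (hft : Algebra.FiniteType R A) (h : SGA3b.IsMultType R A) (n : ℕ) (hn : 0 < n) (J : Ideal A)
    (hJ : SGA3b.torsionIdeal R A n ≤ J) : Module.Finite R (A ⧸ J) := by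
  obtain ⟨s, hs, hc⟩ := h
  refine Module.Finite.of_localizationSpan' (R := R) (M := A ⧸ J) s hs
    (Rₚ := fun f : s => Localization.Away f.1) (Mₚ := fun f : s => Localization.Away f.1 ⊗[R] (A ⧸ J))
    (fun f => TensorProduct.mk R (Localization.Away f.1) (A ⧸ J) 1) fun f => ?_
  obtain ⟨S, _, _, _, P, _, ⟨e⟩⟩ := hc f.1 f.2
  letI algRS : Algebra R S := Algebra.compHom S (algebraMap R (Localization.Away f.1))
  haveI : IsScalarTower R (Localization.Away f.1) S := IsScalarTower.of_algebraMap_eq fun _ => rfl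
  obtain ⟨T, -⟩ := exists_towerEquiv R (Localization.Away f.1) S A
  haveI := finite_of_equiv hft (T.trans e) n hn J hJ
  haveI : Module.Finite S (S ⊗[Localization.Away f.1] (Localization.Away f.1 ⊗[R] (A ⧸ J))) :=
    Module.Finite.equiv (TensorProduct.AlgebraTensorModule.cancelBaseChange R (Localization.Away f.1) S S (A ⧸ J)).symm
  exact Module.Finite.of_finite_tensorProduct_of_faithfullyFlat S

/-- The kernel of a power map is of multiplicative type. -/
theorem isMultType_quotient_torsion (h : SGA3b.IsMultType R A) (n : ℕ) (J : Ideal A) [J.IsHopfIdeal R]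
    (hJ : J = SGA3b.torsionIdeal R A n) : SGA3b.IsMultType R (A ⧸ J) := by
  classical
  obtain ⟨s, hs, hc⟩ := h
  refine ⟨s, hs, fun f hf => ?_⟩
  obtain ⟨S, _, _, hff, P, _, ⟨e₀⟩⟩ := hc f hf
  letI algRS : Algebra R S := Algebra.compHom S (algebraMap R (Localization.Away f))
  haveI : IsScalarTower R (Localization.Away f) S := IsScalarTower.of_algebraMap_eq fun _ => rfl
  obtain ⟨T₀, -⟩ := exists_towerEquiv R (Localization.Away f) S A
  obtain ⟨T, -⟩ := exists_towerEquiv R (Localization.Away f) S (A ⧸ J)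
  let e := T₀.trans e₀
  let N : Subgroup P := (powMonoidHom n : P →* P).range
  let qb : S ⊗[R] A →ₐc[S] S ⊗[R] (A ⧸ J) :=
    Bialgebra.TensorProduct.map (BialgHom.id S S) (Bialgebra.Quotient.mkBialgHom (R := R) J)
  have hqb : ∀ x, qb x = Algebra.TensorProduct.map (AlgHom.id S S) (Ideal.Quotient.mkₐ R J) x := fun x => by
    induction x using TensorProduct.induction_on with
    | zero => simp
    | tmul t a => simp [qb]
    | add a b ha hb => rw [map_add, map_add, ha, hb]
  let γ : P →* S ⊗[R] (A ⧸ J) :=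
    (qb : S ⊗[R] A →ₐ[S] S ⊗[R] (A ⧸ J)).toMonoidHom.comp
      ((e.symm : MonoidAlgebra S P →ₐc[S] S ⊗[R] A).toAlgHom.toMonoidHom.comp (MonoidAlgebra.of S P))
  have hN : N ≤ MonoidHom.ker γ := by
    rintro _ ⟨p, rfl⟩
    show qb (e.symm (MonoidAlgebra.single (p ^ n) 1)) = 1
    rw [hqb]
    exact tmul_mk_pow_eq_one e n J hJ.ge p
  let γ' : P ⧸ N →* S ⊗[R] (A ⧸ J) := QuotientGroup.lift N γ hN
  have hgl : ∀ c, IsGroupLikeElem S (γ' c) := by
    intro c
    induction c using QuotientGroup.induction_on with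
    | H p =>
      show IsGroupLikeElem S (qb (e.symm (MonoidAlgebra.single p 1)))
      have h1 : IsGroupLikeElem S (MonoidAlgebra.single p (1 : S)) := ⟨by simp, by simp⟩
      exact (h1.map e.symm).map qb
  let ψa : MonoidAlgebra S (P ⧸ N) →ₐ[S] S ⊗[R] (A ⧸ J) := MonoidAlgebra.lift S _ _ γ'
  let ψ : MonoidAlgebra S (P ⧸ N) →ₐc[S] S ⊗[R] (A ⧸ J) := BialgHom.ofAlgHom ψa
    (by
      ext q
      simp [ψa, (hgl q).counit_eq_one])
    (by
      ext q
      simp [ψa, (hgl q).comul_eq_tmul_self])
  let μ : MonoidAlgebra S P →ₐ[S] MonoidAlgebra S (P ⧸ N) := MonoidAlgebra.mapDomainAlgHom S S (QuotientGroup.mk' N)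
  have hμψ : ∀ x : S ⊗[R] A, ψ (μ (e x)) = qb x := by
    intro x
    conv_rhs => rw [← e.symm_apply_apply x]
    generalize e x = y
    induction y using MonoidAlgebra.induction_linear with
    | zero => simp
    | add a b ha hb => simp only [map_add, ha, hb]
    | single p r =>
      show ψa _ = _
      simp only [μ, ψa, MonoidAlgebra.mapDomainAlgHom_apply, MonoidAlgebra.mapDomain_single, MonoidAlgebra.lift_single]
      rw [show MonoidAlgebra.single p r = r • MonoidAlgebra.single p (1 : S) by rw [MonoidAlgebra.smul_single, smul_eq_mul, mul_one],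
        map_smul, map_smul]
      rfl
  let ξ : A →ₐ[R] MonoidAlgebra S (P ⧸ N) :=
    ((μ.comp (e : (S ⊗[R] A) →ₐc[S] MonoidAlgebra S P).toAlgHom).restrictScalars R).comp Algebra.TensorProduct.includeRight
  have hξ : ∀ a, ξ a = μ (e ((1 : S) ⊗ₜ[R] a)) := fun a => rfl
  have hJξ : ∀ a ∈ J, ξ a = 0 := by
    intro a ha
    rw [hJ] at ha
    refine (Ideal.map_le_iff_le_comap.mpr fun b hb => ?_ : SGA3b.torsionIdeal R A n ≤ RingHom.ker ξ) ha
    rw [Ideal.mem_comap, RingHom.mem_ker, hξ, show e ((1 : S) ⊗ₜ[R] SGA3b.powConv R A n b) = _ from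
      map_powConv (e : (S ⊗[R] A) →ₐc[S] MonoidAlgebra S P) n b]
    have hb0 : CoalgebraStruct.counit (R := S) (e ((1 : S) ⊗ₜ[R] b)) = 0 := by
      rw [CoalgHomClass.counit_comp_apply, TensorProduct.counit_tmul, show CoalgebraStruct.counit (R := R) b = 0 from hb, zero_smul]
    have key : ∀ y : MonoidAlgebra S P, μ (MonoidAlgebra.mapDomainAlgHom S S (powMonoidHom n : P →* P) y) =
        algebraMap S _ (CoalgebraStruct.counit (R := S) y) := by
      intro y
      induction y using MonoidAlgebra.induction_linear with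
      | zero => simp
      | add a b ha hb => simp only [map_add, ha, hb]
      | single p r =>
        have h1 : (QuotientGroup.mk (p ^ n) : P ⧸ N) = 1 := (QuotientGroup.eq_one_iff _).mpr ⟨p, rfl⟩
        simp [μ, h1]
    exact (key _).trans ((congrArg _ hb0).trans (map_zero _))
  let χ : S ⊗[R] (A ⧸ J) →ₐ[S] MonoidAlgebra S (P ⧸ N) :=
    Algebra.TensorProduct.lift (Algebra.ofId S _) (Ideal.Quotient.liftₐ J ξ hJξ) (fun _ _ => Commute.all _ _)
  have hsurj : Function.Surjective ψ := by
    intro z
    induction z using TensorProduct.induction_on with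
    | zero => exact ⟨0, map_zero _⟩
    | tmul t c =>
      obtain ⟨a, rfl⟩ := Ideal.Quotient.mk_surjective c
      exact ⟨μ (e (t ⊗ₜ a)), by rw [hμψ]; simp [qb]⟩
    | add a b ha hb =>
      obtain ⟨x, rfl⟩ := ha; obtain ⟨y, rfl⟩ := hb
      exact ⟨x + y, map_add ψ x y⟩
  have hleft : Function.LeftInverse χ ψ := by
    intro w
    induction w using MonoidAlgebra.induction_linear with
    | zero => simp
    | add a b ha hb => rw [map_add, map_add, ha, hb]
    | single c r =>
      induction c using QuotientGroup.induction_on with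
      | H p =>
        have h1 : ∀ x : S ⊗[R] A, χ (qb x) = μ (e x) := fun x => by
          induction x using TensorProduct.induction_on with
          | zero => simp
          | add a b ha hb => simp only [map_add, ha, hb]
          | tmul t a =>
            rw [show qb (t ⊗ₜ[R] a) = t ⊗ₜ[R] Ideal.Quotient.mk J a from rfl,
              show t ⊗ₜ[R] a = t • ((1 : S) ⊗ₜ[R] a) by rw [TensorProduct.smul_tmul', smul_eq_mul, mul_one],
              map_smul, map_smul, ← hξ]
            simp [χ, Algebra.smul_def]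
            first | done | congr 1
        rw [show MonoidAlgebra.single (QuotientGroup.mk p : P ⧸ N) r = μ (e (e.symm (MonoidAlgebra.single p r))) by
          rw [show e (e.symm (MonoidAlgebra.single p r)) = _ from e.apply_symm_apply _]; simp [μ],
          hμψ, h1]
  exact ⟨S, inferInstance, inferInstance, hff, P ⧸ N, inferInstance,
    ⟨T.symm.trans (BialgEquiv.ofBijective ψ ⟨hleft.injective, hsurj⟩).symm⟩⟩

end Groth.Agent.H83.MultType
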