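import Groth.Agent.H83.MultType.KerData

/-! The type of the kernel of a homomorphism out of a group of multiplicative type. -/

set_option autoImplicit false

universe u

open TensorProduct

namespace Groth.Agent.H83.MultType

variable {R : Type u} [CommRing R] {A : Type u} [CommRing A] [HopfAlgebra R A]

set_option synthInstance.maxHeartbeats 200000 in
set_option maxHeartbeats 800000 in
/-- If the type is constant on the components, the kernel is diagonalisable. -/
theorem KerData.diag {J : Ideal A} [J.IsHopfIdeal R] {S : Type u} [CommRing S] [Algebra R S] {P : Type u} [CommGroup P]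
    {e : (S ⊗[R] A) ≃ₐc[S] MonoidAlgebra S P} {ι : Type u} {m : ι → P} {ε : ι → S} (d : KerData J S P e ι m ε)
    {κ : Type u} [Fintype κ] {η : κ → S} (hη : CompleteOrthogonalIdempotents η) {N : Type u} [CommGroup N]
    (τ : κ → P →* N) (hτ : ∀ j, Function.Surjective (τ j))
    (hk : ∀ j k, η j * ε k = 0 ∨ (η j * ε k = η j ∧ τ j (m k) = 1))
    (hker : ∀ j, (τ j).ker ≤ Subgroup.closure (m '' {k | η j * ε k = η j})) :
    Nonempty ((S ⊗[R] (A ⧸ J)) ≃ₐc[S] MonoidAlgebra S N) := by
  classical
  let pfun : P → MonoidAlgebra S N := fun p => ∑ j, MonoidAlgebra.single (τ j p) (η j)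
  have hpfun : ∀ j p, η j • pfun p = MonoidAlgebra.single (τ j p) (η j) := by
    intro j p
    simp only [pfun, Finset.smul_sum, MonoidAlgebra.smul_single, smul_eq_mul]
    rw [Finset.sum_eq_single j (fun i _ hi => by rw [hη.ortho (Ne.symm hi), MonoidAlgebra.single_zero]) (by simp), hη.idem j]
  have hsum : ∀ (n : N) (f : κ → S), ∑ j, MonoidAlgebra.single n (f j) = MonoidAlgebra.single n (∑ j, f j) := fun n f =>
    (map_sum (MonoidAlgebra.lsingle (R := S) n) f Finset.univ).symm
  let π : P →* MonoidAlgebra S N :=
    { toFun := pfun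
      map_one' := by
        simp only [pfun, map_one]
        rw [hsum, hη.complete, MonoidAlgebra.one_def]
      map_mul' := fun p q => by
        show pfun (p * q) = pfun p * pfun q
        conv_rhs => arg 1; simp only [pfun]
        rw [Finset.sum_mul]
        refine Finset.sum_congr rfl fun j _ => ?_
        rw [map_mul, show MonoidAlgebra.single (τ j p) (η j) = MonoidAlgebra.single (τ j p) (1 : S) * MonoidAlgebra.single 1 (η j) by
          rw [MonoidAlgebra.single_mul_single, mul_one, one_mul], mul_assoc,
          show MonoidAlgebra.single (1 : N) (η j) * pfun q = η j • pfun q by simp [Algebra.smul_def],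
          hpfun, MonoidAlgebra.single_mul_single, one_mul] }
  have hπgl : ∀ p, IsGroupLikeElem S (π p) := fun p => by
    refine ⟨?_, ?_⟩
    · show CoalgebraStruct.counit (R := S) (pfun p) = 1
      simp only [pfun, map_sum, MonoidAlgebra.counit_single, CommSemiring.counit_apply]
      exact hη.complete
    · show CoalgebraStruct.comul (R := S) (pfun p) = pfun p ⊗ₜ[S] pfun p
      conv_rhs => arg 2; simp only [pfun]
      rw [map_sum, TensorProduct.sum_tmul]
      refine Finset.sum_congr rfl fun j _ => ?_
      rw [show MonoidAlgebra.single (τ j p) (η j) = η j • MonoidAlgebra.single (τ j p) (1 : S) by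
        rw [MonoidAlgebra.smul_single, smul_eq_mul, mul_one], map_smul, TensorProduct.smul_tmul, hpfun,
        show MonoidAlgebra.single (τ j p) (η j) = η j • MonoidAlgebra.single (τ j p) (1 : S) by
        rw [MonoidAlgebra.smul_single, smul_eq_mul, mul_one], TensorProduct.tmul_smul]
      simp
  let La : MonoidAlgebra S P →ₐ[S] MonoidAlgebra S N := MonoidAlgebra.lift S _ P π
  let L : MonoidAlgebra S P →ₐc[S] MonoidAlgebra S N := BialgHom.ofAlgHom La
    (by
      ext p
      simp [La, (hπgl p).counit_eq_one])
    (by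
      ext p
      simp [La, (hπgl p).comul_eq_tmul_self])
  have hLs : ∀ p r, L (MonoidAlgebra.single p r) = r • π p := fun p r => by
    show La _ = _
    simp [La]
  have hLj : ∀ j y, η j • L y = η j • MonoidAlgebra.mapDomainAlgHom S S (τ j) y := by
    intro j y
    induction y using MonoidAlgebra.induction_linear with
    | zero => simp
    | add a b ha hb => simp only [map_add, smul_add, ha, hb]
    | single p r =>
      rw [hLs, smul_comm, show η j • π p = _ from hpfun j p]
      simp [MonoidAlgebra.smul_single, mul_comm]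
  let θ : S ⊗[R] A →ₐc[S] MonoidAlgebra S N := L.comp (e : (S ⊗[R] A) →ₐc[S] MonoidAlgebra S P)
  have hLgen : ∀ y ∈ Ideal.span (Set.range fun k => MonoidAlgebra.single (m k) (ε k) - MonoidAlgebra.single 1 (ε k)),
      L y = 0 := by
    intro y hy
    refine (Ideal.span_le.mpr ?_ : _ ≤ RingHom.ker L) hy
    rintro _ ⟨k, rfl⟩
    show L _ = 0
    rw [map_sub, hLs, hLs, ← one_smul S (ε k • π (m k) - ε k • π 1), ← hη.complete, Finset.sum_smul]
    refine Finset.sum_eq_zero fun j _ => ?_
    rw [smul_sub, smul_smul, smul_smul]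
    rcases hk j k with h | ⟨h, hm⟩
    · rw [h, zero_smul, zero_smul, sub_zero]
    · rw [h, show η j • π (m k) = _ from hpfun j (m k), show η j • π 1 = _ from hpfun j 1, hm, map_one, sub_self]
  let ξ : A →ₐ[R] MonoidAlgebra S N :=
    ((θ : (S ⊗[R] A) →ₐ[S] MonoidAlgebra S N).restrictScalars R).comp Algebra.TensorProduct.includeRight
  have hξ : ∀ a ∈ J, ξ a = 0 := fun a ha => hLgen _ (d.gen a ha)
  let χ : S ⊗[R] (A ⧸ J) →ₐ[S] MonoidAlgebra S N :=
    Algebra.TensorProduct.lift (Algebra.ofId S _) (Ideal.Quotient.liftₐ J ξ hξ) (fun _ _ => Commute.all _ _)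
  let qb : S ⊗[R] A →ₐc[S] S ⊗[R] (A ⧸ J) :=
    Bialgebra.TensorProduct.map (BialgHom.id S S) (Bialgebra.Quotient.mkBialgHom (R := R) J)
  have hqb : ∀ x, qb x = projMap (R := R) S J x := fun x => by
    induction x using TensorProduct.induction_on with
    | zero => simp
    | tmul t a => simp [qb, projMap]
    | add a b ha hb => rw [map_add, map_add, ha, hb]
  have hqs : Function.Surjective qb := fun z => by
    obtain ⟨x, hx⟩ := projMap_surjective (R := R) S J z
    exact ⟨x, (hqb x).trans hx⟩
  have hχq : ∀ x, χ (qb x) = θ x := by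
    intro x
    induction x using TensorProduct.induction_on with
    | zero => simp
    | add a b ha hb => simp only [map_add, ha, hb]
    | tmul t a =>
      rw [show qb (t ⊗ₜ[R] a) = t ⊗ₜ[R] Ideal.Quotient.mk J a from rfl,
        show t ⊗ₜ[R] a = t • ((1 : S) ⊗ₜ[R] a) by rw [TensorProduct.smul_tmul', smul_eq_mul, mul_one], map_smul,
        Algebra.smul_def]
      rfl
  have hsurjL : Function.Surjective L := by
    intro w
    induction w using MonoidAlgebra.induction_linear with
    | zero => exact ⟨0, map_zero _⟩
    | add a b ha hb =>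
      obtain ⟨x, rfl⟩ := ha; obtain ⟨y, rfl⟩ := hb
      exact ⟨x + y, map_add L x y⟩
    | single n r =>
      choose σ hσ using fun j => hτ j n
      refine ⟨∑ j, MonoidAlgebra.single (σ j) (r * η j), ?_⟩
      rw [map_sum]
      have : ∀ j, L (MonoidAlgebra.single (σ j) (r * η j)) = MonoidAlgebra.single n (r * η j) := fun j => by
        rw [hLs, mul_smul, show η j • π (σ j) = _ from hpfun j (σ j), hσ, MonoidAlgebra.smul_single, smul_eq_mul]
      rw [Finset.sum_congr rfl fun j _ => this j, hsum, ← Finset.mul_sum, hη.complete, mul_one]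
  let Q : MonoidAlgebra S P →ₐ[S] S ⊗[R] (A ⧸ J) :=
    (projMap (R := R) S J).comp (e.symm : MonoidAlgebra S P →ₐc[S] S ⊗[R] A).toAlgHom
  have hQinj : ∀ y, L y = 0 → Q y = 0 := by
    intro y hy
    rw [← one_smul S (Q y), ← hη.complete, Finset.sum_smul]
    refine Finset.sum_eq_zero fun j _ => ?_
    let G : Subgroup P :=
      { carrier := {p | η j • Q (MonoidAlgebra.single p 1) = η j • 1}
        one_mem' := by show η j • Q (MonoidAlgebra.single 1 1) = _; rw [← MonoidAlgebra.one_def, map_one]
        mul_mem' := fun {p q} hp hq => by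
          show η j • Q (MonoidAlgebra.single (p * q) 1) = _
          rw [← mul_one (1 : S), ← MonoidAlgebra.single_mul_single, map_mul, ← smul_mul_assoc, show η j • Q _ = _ from hp,
            smul_mul_assoc, one_mul, show η j • Q _ = _ from hq]
        inv_mem' := fun {p} hp => by
          show η j • Q (MonoidAlgebra.single p⁻¹ 1) = _
          calc η j • Q (MonoidAlgebra.single p⁻¹ 1) = (η j • (1 : S ⊗[R] (A ⧸ J))) * Q (MonoidAlgebra.single p⁻¹ 1) := by
                rw [smul_mul_assoc, one_mul]
            _ = (η j • Q (MonoidAlgebra.single p 1)) * Q (MonoidAlgebra.single p⁻¹ 1) := by rw [show η j • Q _ = _ from hp]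
            _ = _ := by rw [smul_mul_assoc, ← map_mul, MonoidAlgebra.single_mul_single, mul_inv_cancel, mul_one,
                ← MonoidAlgebra.one_def, map_one] }
    have hG : (τ j).ker ≤ G := (hker j).trans <| (Subgroup.closure_le G).mpr <| by
      rintro _ ⟨k, hkj, rfl⟩
      show η j • Q (MonoidAlgebra.single (m k) 1) = _
      have h1 : Q (MonoidAlgebra.single (m k) (ε k) - MonoidAlgebra.single 1 (ε k)) = 0 := d.vanish k
      rw [show MonoidAlgebra.single (m k) (ε k) = ε k • MonoidAlgebra.single (m k) (1 : S) by simp [MonoidAlgebra.smul_single],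
        show MonoidAlgebra.single (1 : P) (ε k) = ε k • (1 : MonoidAlgebra S P) by simp [MonoidAlgebra.one_def, MonoidAlgebra.smul_single],
        map_sub, map_smul, map_smul, map_one, sub_eq_zero] at h1
      have h2 := congrArg (η j • ·) h1
      simp only [smul_smul, show η j * ε k = η j from hkj] at h2
      exact h2
    choose σ hσ using hτ j
    have hfac : ∀ z, η j • Q z = η j • Q (MonoidAlgebra.mapDomain σ (MonoidAlgebra.mapDomainAlgHom S S (τ j) z)) := by
      intro z
      induction z using MonoidAlgebra.induction_linear with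
      | zero => simp
      | add a b ha hb => simp only [map_add, MonoidAlgebra.mapDomain_add, smul_add, ha, hb]
      | single p r =>
        have hmem : p * (σ (τ j p))⁻¹ ∈ G := hG (by rw [MonoidHom.mem_ker, map_mul, map_inv, hσ, mul_inv_cancel])
        simp only [MonoidAlgebra.mapDomainAlgHom_apply, MonoidAlgebra.mapDomain_single]
        rw [show MonoidAlgebra.single p r = MonoidAlgebra.single (p * (σ (τ j p))⁻¹) (1 : S) * MonoidAlgebra.single (σ (τ j p)) r by
          rw [MonoidAlgebra.single_mul_single, inv_mul_cancel_right, one_mul], map_mul, ← smul_mul_assoc,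
          show η j • Q _ = _ from hmem, smul_mul_assoc, one_mul]
    have h0 : η j • MonoidAlgebra.mapDomainAlgHom S S (τ j) y = 0 := by rw [← hLj, hy, smul_zero]
    rw [hfac, ← map_smul, ← show MonoidAlgebra.mapDomain σ (η j • MonoidAlgebra.mapDomainAlgHom S S (τ j) y) =
      η j • MonoidAlgebra.mapDomain σ (MonoidAlgebra.mapDomainAlgHom S S (τ j) y) from MonoidAlgebra.mapDomain_smul _ _ _,
      h0, MonoidAlgebra.mapDomain_zero, map_zero]
  have hinj : Function.Injective χ := by
    rw [injective_iff_map_eq_zero]
    intro z hz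
    obtain ⟨x, rfl⟩ := hqs z
    rw [hχq] at hz
    have := hQinj (e x) hz
    rw [hqb]
    rw [← e.symm_apply_apply x]
    exact this
  have hχs : Function.Surjective χ := fun w => by
    obtain ⟨y, hy⟩ := hsurjL w
    refine ⟨qb (e.symm y), ?_⟩
    rw [hχq, ← hy]
    exact congrArg L (e.apply_symm_apply y)
  refine ⟨BialgEquiv.ofAlgEquiv (AlgEquiv.ofBijective χ ⟨hinj, hχs⟩) ?_ ?_⟩
  · refine AlgHom.ext fun z => ?_
    obtain ⟨x, rfl⟩ := hqs z
    show CoalgebraStruct.counit (R := S) (χ (qb x)) = CoalgebraStruct.counit (R := S) (qb x)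
    rw [hχq, CoalgHomClass.counit_comp_apply θ, CoalgHomClass.counit_comp_apply qb]
  · refine AlgHom.ext fun z => ?_
    obtain ⟨x, rfl⟩ := hqs z
    show Algebra.TensorProduct.map χ χ (CoalgebraStruct.comul (R := S) (qb x)) = CoalgebraStruct.comul (R := S) (χ (qb x))
    rw [hχq, ← CoalgHomClass.map_comp_comul_apply θ, ← CoalgHomClass.map_comp_comul_apply qb]
    generalize CoalgebraStruct.comul (R := S) x = w
    induction w using TensorProduct.induction_on with
    | zero => simp
    | add a b ha hb => simp only [map_add, ha, hb]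
    | tmul a b =>
      show χ (qb a) ⊗ₜ[S] χ (qb b) = θ a ⊗ₜ[S] θ b
      rw [hχq, hχq]

/-- Isomorphic group algebras over a field have isomorphic groups. -/
theorem nonempty_mulEquiv_of_bialgEquiv {L : Type u} [CommRing L] [IsDomain L] {N N' : Type u} [CommGroup N] [CommGroup N']
    (e : MonoidAlgebra L N ≃ₐc[L] MonoidAlgebra L N') : Nonempty (N ≃* N') := by
  let f := MonoidAlgebra.mapDomainOfBialgHom (e : MonoidAlgebra L N →ₐc[L] MonoidAlgebra L N')
  let g := MonoidAlgebra.mapDomainOfBialgHom (e.symm : MonoidAlgebra L N' →ₐc[L] MonoidAlgebra L N)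
  refine ⟨{ f with toFun := f, invFun := g, left_inv := fun x => ?_, right_inv := fun x => ?_ }⟩
  · apply MonoidAlgebra.single_left_injective (R := L) one_ne_zero
    simp only [f, g, MonoidAlgebra.single_mapDomainOfBialgHom]
    exact e.symm_apply_apply _
  · apply MonoidAlgebra.single_left_injective (R := L) one_ne_zero
    simp only [f, g, MonoidAlgebra.single_mapDomainOfBialgHom]
    exact e.apply_symm_apply _

end Groth.Agent.H83.MultType
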