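import Groth.Agent.H83.MultType.Lift

/-! Homomorphisms to a group of multiplicative type over a local ring are determined by the closed fibre. -/

set_option autoImplicit false

universe u

open TensorProduct

namespace Groth.Agent.H83.MultType

theorem exists_eq_algebraMap {R : Type u} [CommRing R] {S : Type u} [CommRing S] [Algebra R S]
    (hdet : ∀ (Q : Type u) [AddCommGroup Q] [Module R Q] (q : Q), (1 : S) ⊗ₜ[R] q = 0 → q = 0) {x : S}
    (hx : (1 : S) ⊗ₜ[R] x = x ⊗ₜ[R] (1 : S)) : ∃ r : R, algebraMap R S r = x := by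
  let W := LinearMap.range (Algebra.linearMap R S)
  have h1 : (1 : S) ⊗ₜ[R] (Submodule.Quotient.mk x : S ⧸ W) = 0 := by
    have h2 := congrArg (TensorProduct.map LinearMap.id W.mkQ) hx
    simp only [TensorProduct.map_tmul, LinearMap.id_apply, Submodule.mkQ_apply] at h2
    rw [h2, (Submodule.Quotient.mk_eq_zero W).mpr ⟨1, by simp⟩, TensorProduct.tmul_zero]
  exact (Submodule.Quotient.mk_eq_zero W).mp (hdet _ _ h1)

/-- Two maps into `S[P]` whose coefficients commute in the convolution ring. -/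
theorem convMul_mem {R : Type u} [CommRing R] {C : Type u} [CommRing C] [HopfAlgebra R C] {S : Type u} [CommRing S]
    [Algebra R S] (I J : Ideal S) {f g : WithConv (C →ₗ[R] S)} (hf : ∀ c, f.ofConv c ∈ I) (hg : ∀ c, g.ofConv c ∈ J)
    (c : C) : (f * g).ofConv c ∈ I * J := by
  rw [LinearMap.convMul_apply]
  generalize CoalgebraStruct.comul (R := R) c = z
  induction z using TensorProduct.induction_on with
  | zero => simp
  | tmul a b => simpa using Ideal.mul_mem_mul (hf a) (hg b)
  | add a b ha hb => rw [map_add, map_add]; exact add_mem ha hb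

/-- Rigidity. -/
theorem eq_of_sub_mem {R : Type u} [CommRing R] [IsLocalRing R] {A : Type u} [CommRing A] [HopfAlgebra R A]
    (h : SGA3b.IsMultType R A) {C : Type u} [CommRing C] [HopfAlgebra R C] (φ ψ : C →ₐc[R] A)
    (hcomm : ∀ (S : Type u) [CommRing S] [Algebra R S] (f : A →ₗ[R] S),
      Commute (WithConv.toConv (f ∘ₗ (φ : C →ₗ[R] A))) (WithConv.toConv (f ∘ₗ (ψ : C →ₗ[R] A))))
    (hfg : (Ideal.span (Set.range fun c => φ c - ψ c)).FG)
    (hs : ∀ c, φ c - ψ c ∈ Ideal.map (algebraMap R A) (IsLocalRing.maximalIdeal R)) : φ = ψ := by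
  classical
  obtain ⟨s, hs1, ht⟩ := exists_trivialisations h
  obtain ⟨f, hf, hfu⟩ : ∃ f ∈ s, IsUnit f := by
    by_contra hne
    push_neg at hne
    exact (IsLocalRing.maximalIdeal.isMaximal R).ne_top (top_le_iff.mp
      (hs1 ▸ Ideal.span_le.mpr fun f hf => (IsLocalRing.mem_maximalIdeal f).mpr (hne f hf)))
  obtain ⟨S, _, _, P, _, _, ⟨e⟩, hdet0⟩ := ht f hf
  have hdet : ∀ (Q : Type u) [AddCommGroup Q] [Module R Q] (q : Q), (1 : S) ⊗ₜ[R] q = 0 → q = 0 := fun Q _ _ q hq => by
    obtain ⟨n, hn⟩ := hdet0 Q q hq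
    exact (hfu.pow n).smul_eq_zero.mp hn
  let el : (S ⊗[R] A) →ₗ[S] MonoidAlgebra S P := (e : (S ⊗[R] A) →ₐc[S] MonoidAlgebra S P)
  let co : P → A →ₗ[R] S := fun p => (coeffAt S p ∘ₗ el).restrictScalars R ∘ₗ TensorProduct.mk R S A 1
  have hco : ∀ (p : P) (a : A), co p a = coeffAt S p (e ((1 : S) ⊗ₜ[R] a)) := fun p a => rfl
  let δ : C →ₗ[R] A := (φ : C →ₗ[R] A) - (ψ : C →ₗ[R] A)
  let X : C → MonoidAlgebra S P := fun c => e ((1 : S) ⊗ₜ[R] δ c)
  let E : Ideal S := Ideal.span (Set.range fun q : C × P => co q.2 (δ q.1))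
  have hXE : ∀ c, X c ∈ E • (⊤ : Submodule S (MonoidAlgebra S P)) := fun c =>
    mem_smul_of_coeffAt_mem fun p => Ideal.subset_span ⟨(c, p), rfl⟩
  have hEfg : E.FG := by
    obtain ⟨T, hT⟩ := hfg
    let U : Finset S := T.biUnion fun t => (e ((1 : S) ⊗ₜ[R] t)).coeff.support.image fun p => co p t
    refine ⟨U, le_antisymm (Ideal.span_le.mpr fun u hu => ?_) (Ideal.span_le.mpr ?_)⟩
    · obtain ⟨t, ht', hu⟩ := Finset.mem_biUnion.mp hu
      obtain ⟨p, -, rfl⟩ := Finset.mem_image.mp hu
      have h1 : t ∈ Ideal.span (Set.range fun c => φ c - ψ c) := hT ▸ Submodule.subset_span ht'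
      suffices h2 : e ((1 : S) ⊗ₜ[R] t) ∈ E • (⊤ : Submodule S (MonoidAlgebra S P)) from coeffAt_mem_of_mem_smul h2 p
      clear * - h1 hXE
      induction h1 using Submodule.span_induction with
      | zero => simp
      | add a b _ _ ha hb => rw [TensorProduct.tmul_add, map_add]; exact add_mem ha hb
      | smul a b _ hb =>
        rw [smul_eq_mul, show (1 : S) ⊗ₜ[R] (a * b) = ((1 : S) ⊗ₜ[R] a) * ((1 : S) ⊗ₜ[R] b) by simp, map_mul]
        exact map_mem_of_mem_smul (LinearMap.mulLeft S (e ((1 : S) ⊗ₜ[R] a))) hb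
      | mem a ha =>
        obtain ⟨c, rfl⟩ := ha
        exact hXE c
    · rintro _ ⟨⟨c, p⟩, rfl⟩
      have h1 : δ c ∈ Submodule.span A (T : Set A) := by
        show δ c ∈ Ideal.span (T : Set A)
        rw [show Ideal.span (T : Set A) = _ from hT]; exact Submodule.subset_span ⟨c, rfl⟩
      suffices h2 : e ((1 : S) ⊗ₜ[R] δ c) ∈ Ideal.span (U : Set S) • (⊤ : Submodule S (MonoidAlgebra S P)) from
        coeffAt_mem_of_mem_smul h2 p
      generalize δ c = t at h1
      induction h1 using Submodule.span_induction with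
      | zero => simp
      | add a b _ _ ha hb => rw [TensorProduct.tmul_add, map_add]; exact add_mem ha hb
      | smul a b _ hb =>
        rw [smul_eq_mul, show (1 : S) ⊗ₜ[R] (a * b) = ((1 : S) ⊗ₜ[R] a) * ((1 : S) ⊗ₜ[R] b) by simp, map_mul]
        exact map_mem_of_mem_smul (LinearMap.mulLeft S (e ((1 : S) ⊗ₜ[R] a))) hb
      | mem t ht' =>
        refine mem_smul_of_coeffAt_mem fun q => ?_
        by_cases hq : q ∈ (e ((1 : S) ⊗ₜ[R] t)).coeff.support
        · exact Ideal.subset_span (Finset.mem_biUnion.mpr ⟨t, ht', Finset.mem_image.mpr ⟨q, hq, rfl⟩⟩)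
        · have h0 : coeffAt S q (e ((1 : S) ⊗ₜ[R] t)) = 0 := by simpa [coeffAt] using hq
          rw [h0]; exact zero_mem _
  have hid : ∀ (χ : C →ₐc[R] A) (p : P), IsIdempotentElem (WithConv.toConv (co p ∘ₗ (χ : C →ₗ[R] A))) := by
    intro χ p
    apply WithConv.ofConv_injective
    ext c
    rw [LinearMap.convMul_apply]
    simp only [TensorProduct.map_comp, LinearMap.comp_apply]
    rw [show TensorProduct.map (χ : C →ₗ[R] A) (χ : C →ₗ[R] A) (CoalgebraStruct.comul (R := R) c) =
      CoalgebraStruct.comul (R := R) (χ c) from CoalgHomClass.map_comp_comul_apply χ c]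
    show LinearMap.mul' R S (TensorProduct.map (co p) (co p) (CoalgebraStruct.comul (R := R) (χ c))) = co p (χ c)
    generalize χ c = a
    have h1 := coeffAt_comul p p (e ((1 : S) ⊗ₜ[R] a))
    rw [if_pos rfl, ← CoalgHomClass.map_comp_comul_apply e, TensorProduct.comul_tmul, Bialgebra.comul_one] at h1
    refine Eq.trans ?_ h1
    generalize CoalgebraStruct.comul (R := R) a = z
    induction z using TensorProduct.induction_on with
    | zero => simp
    | tmul b b' => simp [co, el, Algebra.TensorProduct.one_def]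
    | add b b' hb hb' => simp only [TensorProduct.tmul_add, map_add, hb, hb']
  have hidem : IsIdempotentElem E := by
    refine le_antisymm Ideal.mul_le_left (Ideal.span_le.mpr ?_)
    rintro _ ⟨⟨c, p⟩, rfl⟩
    let F := WithConv.toConv (co p ∘ₗ (φ : C →ₗ[R] A))
    let G := WithConv.toConv (co p ∘ₗ (ψ : C →ₗ[R] A))
    have hF : F * F = F := hid φ p
    have hG : G * G = G := hid ψ p
    have hFG : F * G = G * F := hcomm S (co p)
    let D := F - G
    have hD : D * (D * D) = D := by
      have e1 : ∀ x, F * (F * x) = F * x := fun x => by rw [← mul_assoc, hF]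
      have e2 : ∀ x, G * (G * x) = G * x := fun x => by rw [← mul_assoc, hG]
      have e3 : ∀ x, G * (F * x) = F * (G * x) := fun x => by rw [← mul_assoc, ← hFG, mul_assoc]
      simp only [D, sub_mul, mul_sub, ← hFG, hF, hG, e1, e2, e3]
      abel
    have hDc : ∀ x, D.ofConv x = co p (δ x) := fun x => by simp [D, F, G, δ]
    have hmem : ∀ x, D.ofConv x ∈ E := fun x => by rw [hDc]; exact Ideal.subset_span ⟨(x, p), rfl⟩
    show co p (δ c) ∈ E * E
    rw [← hDc, ← hD]
    exact Ideal.mul_mono_right Ideal.mul_le_left (convMul_mem E (E * E) hmem (convMul_mem E E hmem hmem) c)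
  obtain ⟨u, hu, hEu⟩ := (Ideal.isIdempotentElem_iff_of_fg E hEfg).mp hidem
  have hsym : ((1 : S) ⊗ₜ[R] u) = u ⊗ₜ[R] (1 : S) := by
    let l : S →ₐ[R] S ⊗[R] S := Algebra.TensorProduct.includeLeft
    let r : S →ₐ[R] S ⊗[R] S := Algebra.TensorProduct.includeRight
    have key : ∀ (a b : S →ₐ[R] S ⊗[R] S) (c : C) (p : P), a (co p (δ c)) ∈ E.map b := by
      intro a b c p
      let lam : (S ⊗[R] S) ⊗[R] A →ₗ[S ⊗[R] S] S ⊗[R] S := (a.toLinearMap ∘ₗ co p).liftBaseChange (S ⊗[R] S)
      let nb : S ⊗[R] A →ₗ[R] (S ⊗[R] S) ⊗[R] A := TensorProduct.map b.toLinearMap LinearMap.id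
      have h0 : (1 : S) ⊗ₜ[R] δ c ∈ E • (⊤ : Submodule S (S ⊗[R] A)) := by
        have h := map_mem_of_mem_smul ((e.symm : MonoidAlgebra S P →ₐc[S] (S ⊗[R] A)) : MonoidAlgebra S P →ₗ[S] S ⊗[R] A) (hXE c)
        rwa [show ((e.symm : MonoidAlgebra S P →ₐc[S] (S ⊗[R] A)) : MonoidAlgebra S P →ₗ[S] S ⊗[R] A) (X c) = (1 : S) ⊗ₜ[R] δ c
          from e.symm_apply_apply _] at h
      have h1 : nb ((1 : S) ⊗ₜ[R] δ c) ∈ E.map b • (⊤ : Submodule (S ⊗[R] S) ((S ⊗[R] S) ⊗[R] A)) := by
        generalize (1 : S) ⊗ₜ[R] δ c = z at h0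
        induction h0 using Submodule.smul_induction_on' with
        | add y _ y' _ hy hy' => rw [map_add]; exact add_mem hy hy'
        | smul t ht' y _ =>
          have h2 : nb (t • y) = b t • nb y := by
            clear * -
            induction y using TensorProduct.induction_on with
            | zero => simp
            | tmul s a => simp [nb, TensorProduct.smul_tmul']
            | add y y' hy hy' => rw [smul_add, map_add, map_add, smul_add, hy, hy']
          rw [h2]
          exact Submodule.smul_mem_smul (Ideal.mem_map_of_mem b ht') Submodule.mem_top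
      have h3 := map_mem_of_mem_smul lam h1
      rw [smul_eq_mul, Ideal.mul_top] at h3
      simpa [lam, nb] using h3
    have key' : ∀ a b : S →ₐ[R] S ⊗[R] S, a u * b u = a u := by
      intro a b
      have h1 : E.map a ≤ E.map b := Ideal.map_le_iff_le_comap.mpr (Ideal.span_le.mpr (by
        rintro _ ⟨⟨c, p⟩, rfl⟩; exact key a b c p))
      have h2 : a u ∈ E.map b := h1 (Ideal.mem_map_of_mem a (hEu ▸ Ideal.mem_span_singleton_self u))
      rw [hEu, Ideal.submodule_span_eq, Ideal.map_span, Set.image_singleton, Ideal.mem_span_singleton'] at h2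
      obtain ⟨t, ht'⟩ := h2
      rw [← ht', mul_assoc, ← map_mul b, hu.eq]
    have h1 := key' r l
    have h2 := key' l r
    rw [mul_comm, h2] at h1
    exact h1.symm
  obtain ⟨r, hr⟩ := exists_eq_algebraMap hdet hsym
  have hinj : ∀ x : R, algebraMap R S x = 0 → x = 0 := fun x hx => hdet R x (by
    apply (TensorProduct.rid R S).injective
    rw [TensorProduct.rid_tmul, map_zero, ← hx, Algebra.smul_def, mul_one])
  have hrid : IsIdempotentElem r := by
    refine sub_eq_zero.mp (hinj _ ?_)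
    rw [map_sub, map_mul, hr, hu.eq, sub_self]
  have hum : u ∈ (IsLocalRing.maximalIdeal R).map (algebraMap R S) := by
    have hle : E ≤ (IsLocalRing.maximalIdeal R).map (algebraMap R S) := by
      refine Ideal.span_le.mpr ?_
      rintro _ ⟨⟨c, p⟩, rfl⟩
      have h1 : δ c ∈ IsLocalRing.maximalIdeal R • (⊤ : Submodule R A) := by
        rw [Ideal.smul_top_eq_map]; exact hs c
      have h2 := map_mem_smul (S := S) (co p) _ h1
      rw [smul_eq_mul, Ideal.mul_top] at h2
      exact h2
    exact hle (hEu ▸ Ideal.mem_span_singleton_self u)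
  have hr0 : r = 0 := by
    by_contra hr0
    have hr1 : r = 1 := by
      by_contra hr1
      rcases IsLocalRing.isUnit_or_isUnit_one_sub_self r with h1 | h1
      · exact hr1 (by
          have h2 : r * r = r * 1 := by rw [mul_one]; exact hrid.eq
          exact h1.mul_left_cancel h2)
      · exact hr0 (by
          have h2 : (1 - r) * r = (1 - r) * 0 := by rw [sub_mul, one_mul, hrid.eq, sub_self, mul_zero]
          exact h1.mul_left_cancel h2)
    rw [hr1, map_one] at hr
    rw [← hr] at hum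
    refine (IsLocalRing.maximalIdeal.isMaximal R).ne_top ((Ideal.eq_top_iff_one _).mpr ?_)
    let Q := R ⧸ IsLocalRing.maximalIdeal R
    have hQ : (1 : S) ⊗ₜ[R] (1 : Q) = 0 := by
      suffices hh : ∀ t ∈ (IsLocalRing.maximalIdeal R).map (algebraMap R S), t ⊗ₜ[R] (1 : Q) = 0 from hh _ hum
      intro t ht'
      induction ht' using Submodule.span_induction with
      | zero => exact TensorProduct.zero_tmul _ _
      | add a b _ _ ha hb => rw [TensorProduct.add_tmul, ha, hb, add_zero]
      | smul a b _ hb => rw [smul_eq_mul, ← smul_eq_mul, ← TensorProduct.smul_tmul', hb, smul_zero]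
      | mem a ha =>
        obtain ⟨m, hm, rfl⟩ := ha
        rw [Algebra.algebraMap_eq_smul_one, TensorProduct.smul_tmul, Algebra.smul_def, mul_one,
          show algebraMap R Q m = 0 from Ideal.Quotient.eq_zero_iff_mem.mpr hm, TensorProduct.tmul_zero]
    exact Ideal.Quotient.eq_zero_iff_mem.mp (hdet Q _ hQ)
  have hE0 : E = ⊥ := by rw [hEu, ← hr, hr0, map_zero]; simp
  refine BialgHom.ext fun c => sub_eq_zero.mp (hdet A (φ c - ψ c) ?_)
  apply EquivLike.injective e
  rw [map_zero]
  have h1 := hXE c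
  rw [hE0, Submodule.bot_smul, Submodule.mem_bot] at h1
  exact h1

end Groth.Agent.H83.MultType
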