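import Groth.Prelude.Def_SGA3b
import Mathlib

/-! Group-like elements of groups of multiplicative type. -/

set_option autoImplicit false

universe u

open TensorProduct

namespace Groth.Agent.H83.MultType

/-- The coefficient functional at `p` of a group algebra. -/
noncomputable def coeffAt (S : Type u) [CommRing S] {P : Type u} [CommGroup P] (p : P) :
    MonoidAlgebra S P →ₗ[S] S :=
  Finsupp.lapply p ∘ₗ (MonoidAlgebra.coeffLinearEquiv S).toLinearMap

theorem coeffAt_single {S : Type u} [CommRing S] {P : Type u} [CommGroup P] [DecidableEq P] (p g : P) (r : S) :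
    coeffAt S p (MonoidAlgebra.single g r) = if g = p then r else 0 := by
  simp [coeffAt, Finsupp.single_apply]

theorem coeffAt_comul {S : Type u} [CommRing S] {P : Type u} [CommGroup P] [DecidableEq P] (p q : P)
    (y : MonoidAlgebra S P) :
    LinearMap.mul' S S (TensorProduct.map (coeffAt S p) (coeffAt S q) (CoalgebraStruct.comul (R := S) y)) =
      if p = q then coeffAt S p y else 0 := by
  induction y using MonoidAlgebra.induction_linear with
  | zero => simp
  | add a b ha hb => rw [map_add, map_add, map_add, ha, hb]; split_ifs <;> simp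
  | single g r =>
    rw [MonoidAlgebra.comul_single]
    simp only [CommSemiring.comul_apply, TensorProduct.map_tmul, LinearMap.mul'_apply]
    simp only [coeffAt_single]
    split_ifs <;> simp_all [coeffAt_single]
    all_goals (intro h1 h2; exact absurd (h1.symm.trans (h2 ▸ h1) ) (fun h => by simp_all))

theorem groupLike_coeff_mul {S : Type u} [CommRing S] {P : Type u} [CommGroup P] {y : MonoidAlgebra S P}
    (hy : IsGroupLikeElem S y) (p q : P) [Decidable (p = q)] :
    coeffAt S p y * coeffAt S q y = if p = q then coeffAt S p y else 0 := by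
  classical
  have h := coeffAt_comul p q y
  rw [hy.comul_eq_tmul_self, TensorProduct.map_tmul, LinearMap.mul'_apply] at h
  rw [h]
  split_ifs <;> rfl

theorem groupLike_smul_coeff_one {S : Type u} [CommRing S] {P : Type u} [CommGroup P] {y : MonoidAlgebra S P}
    (hy : IsGroupLikeElem S y) : coeffAt S 1 y • (y - 1) = 0 := by
  classical
  apply (MonoidAlgebra.coeffLinearEquiv S).injective
  rw [map_zero]
  ext p
  show coeffAt S p (coeffAt S 1 y • (y - 1)) = 0
  rw [map_smul, map_sub, smul_eq_mul, mul_sub, MonoidAlgebra.one_def, coeffAt_single, groupLike_coeff_mul hy]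
  split_ifs <;> simp_all

/-- A group-like element stays group-like after extension of scalars. -/
theorem groupLike_baseChange {R : Type u} [CommRing R] {A : Type u} [CommRing A] [HopfAlgebra R A] (S : Type u)
    [CommRing S] [Algebra R S] {a : A} (ha : IsGroupLikeElem R a) : IsGroupLikeElem S ((1 : S) ⊗ₜ[R] a) where
  counit_eq_one := by rw [TensorProduct.counit_tmul, ha.counit_eq_one, Bialgebra.counit_one, one_smul]
  comul_eq_tmul_self := by
    rw [TensorProduct.comul_tmul, Bialgebra.comul_one, ha.comul_eq_tmul_self]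
    simp [Algebra.TensorProduct.one_def]

/-- Exactness of a flat extension of scalars, for the annihilator of an element. -/
theorem mem_map_ker_of_tmul_eq_zero {R : Type u} [CommRing R] (S : Type u) [CommRing S] [Algebra R S]
    [Module.Flat R S] {Q : Type u} [AddCommGroup Q] [Module R Q] {q : Q} {t : S} (ht : t ⊗ₜ[R] q = 0) :
    t ∈ Ideal.map (algebraMap R S) (LinearMap.ker (LinearMap.toSpanSingleton R Q q)) := by
  let K : Ideal R := LinearMap.ker (LinearMap.toSpanSingleton R Q q)
  have hex : Function.Exact K.subtype (LinearMap.toSpanSingleton R Q q) :=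
    LinearMap.exact_subtype_ker_map _
  obtain ⟨z, hz⟩ := ((Module.Flat.lTensor_exact S hex) (t ⊗ₜ 1)).mp (by simpa using ht)
  have key : ∀ z : S ⊗[R] K, TensorProduct.rid R S (LinearMap.lTensor S K.subtype z) ∈ K.map (algebraMap R S) := by
    intro z
    induction z using TensorProduct.induction_on with
    | zero => simp
    | tmul s k =>
      rw [LinearMap.lTensor_tmul, TensorProduct.rid_tmul, Algebra.smul_def]
      exact Ideal.mul_mem_right _ _ (Ideal.mem_map_of_mem _ k.2)
    | add a b ha hb => rw [map_add, map_add]; exact add_mem ha hb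
  have h := key z
  rw [hz, TensorProduct.rid_tmul, one_smul] at h
  exact h

/-- A trivialisation over a flat algebra detecting exactly the vanishing on `D(f)`. -/
structure Chart (R : Type u) [CommRing R] (A : Type u) [CommRing A] [HopfAlgebra R A] (f : R) where
  S : Type u
  [instRing : CommRing S]
  [instAlg : Algebra R S]
  P : Type u
  [instGrp : CommGroup P]
  j : A →+* MonoidAlgebra S P
  j_smul : ∀ (r : R) (a : A), j (r • a) = algebraMap R S r • j a
  groupLike : ∀ a : A, IsGroupLikeElem R a → IsGroupLikeElem S (j a)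
  killed : ∀ a : A, j a = 0 → ∃ n : ℕ, f ^ n • a = 0
  mem_of_mem_map : ∀ (I : Ideal R) (r : R), algebraMap R S r ∈ I.map (algebraMap R S) → ∃ n : ℕ, f ^ n * r ∈ I
  exact : ∀ (a : A) (t : S), t • j a = 0 →
    t ∈ Ideal.map (algebraMap R S) (LinearMap.ker (LinearMap.toSpanSingleton R A a))

attribute [instance] Chart.instRing Chart.instAlg Chart.instGrp

theorem exists_charts {R : Type u} [CommRing R] {A : Type u} [CommRing A] [HopfAlgebra R A]
    (h : SGA3b.IsMultType R A) : ∃ s : Finset R, Ideal.span (s : Set R) = ⊤ ∧ ∀ f ∈ s, Nonempty (Chart R A f) := by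
  obtain ⟨s₀, hs₀, hc⟩ := h
  obtain ⟨s, hsub, hs⟩ := (Ideal.span_eq_top_iff_finite s₀).mp hs₀
  refine ⟨s, hs, fun f hf => ?_⟩
  obtain ⟨S, _, _, _, P, _, ⟨e⟩⟩ := hc f (hsub hf)
  let L := Localization.Away f
  letI algRS : Algebra R S := Algebra.compHom S (algebraMap R L)
  haveI : IsScalarTower R L S := IsScalarTower.of_algebraMap_eq fun _ => rfl
  let j : A →+* MonoidAlgebra S P := (e : S ⊗[L] (L ⊗[R] A) →ₐc[S] MonoidAlgebra S P).toAlgHom.toRingHom.comp
    ((Algebra.TensorProduct.includeRight : L ⊗[R] A →ₐ[L] S ⊗[L] (L ⊗[R] A)).toRingHom.comp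
      (Algebra.TensorProduct.includeRight : A →ₐ[R] L ⊗[R] A).toRingHom)
  have hj : ∀ a : A, j a = e ((1 : S) ⊗ₜ[L] ((1 : L) ⊗ₜ[R] a)) := fun a => rfl
  refine ⟨{
    S := S, P := P, j := j
    j_smul := fun r a => ?_
    groupLike := fun a ha => ?_
    killed := fun a ha => ?_
    mem_of_mem_map := fun I r hr => ?_
    exact := fun a t ht => ?_ }⟩
  · rw [hj, hj, ← map_smul, TensorProduct.tmul_smul, ← algebraMap_smul L r, TensorProduct.tmul_smul,
      ← algebraMap_smul S (algebraMap R L r), ← IsScalarTower.algebraMap_apply]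
  · rw [hj]
    exact (groupLike_baseChange S (groupLike_baseChange L ha)).map e
  · rw [hj, map_eq_zero_iff _ (EquivLike.injective e), Module.FaithfullyFlat.one_tmul_eq_zero_iff] at ha
    obtain ⟨⟨_, n, rfl⟩, hn⟩ := (IsLocalizedModule.eq_zero_iff (Submonoid.powers f) (TensorProduct.mk R L A 1)).mp ha
    exact ⟨n, hn⟩
  · rw [IsScalarTower.algebraMap_eq R L S, ← Ideal.map_map, RingHom.comp_apply, ← Ideal.mem_comap,
      Ideal.comap_map_eq_self_of_faithfullyFlat, IsLocalization.algebraMap_mem_map_algebraMap_iff (Submonoid.powers f)] at hr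
    obtain ⟨_, ⟨n, rfl⟩, hn⟩ := hr
    exact ⟨n, hn⟩
  · rw [hj, ← map_smul, map_eq_zero_iff _ (EquivLike.injective e), TensorProduct.smul_tmul', smul_eq_mul, mul_one] at ht
    have h1 := mem_map_ker_of_tmul_eq_zero S ht
    rw [IsScalarTower.algebraMap_eq R L S, ← Ideal.map_map]
    refine Ideal.map_mono (fun l hl => ?_) h1
    refine mem_map_ker_of_tmul_eq_zero L ?_
    rw [LinearMap.mem_ker, LinearMap.toSpanSingleton_apply, TensorProduct.smul_tmul', smul_eq_mul, mul_one] at hl
    exact hl

theorem mem_of_forall_pow_mem {R : Type u} [CommRing R] {s : Set R} (hs : Ideal.span s = ⊤) (I : Ideal R) {r : R}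
    (h : ∀ f ∈ s, ∃ n : ℕ, f ^ n * r ∈ I) : r ∈ I := by
  let K : Ideal R := Submodule.comap (LinearMap.mulRight R r) I
  have hK : Ideal.span s ≤ K.radical := Ideal.span_le.mpr fun f hf => h f hf
  rw [hs, top_le_iff, Ideal.radical_eq_top] at hK
  have h1 : (1 : R) ∈ K := hK ▸ Submodule.mem_top
  simpa [K] using h1

theorem eq_zero_of_forall_pow_smul {R : Type u} [CommRing R] {s : Set R} (hs : Ideal.span s = ⊤) {Q : Type u}
    [AddCommGroup Q] [Module R Q] {q : Q} (h : ∀ f ∈ s, ∃ n : ℕ, f ^ n • q = 0) : q = 0 := by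
  let K : Ideal R := LinearMap.ker (LinearMap.toSpanSingleton R Q q)
  have hK : Ideal.span s ≤ K.radical := Ideal.span_le.mpr fun f hf => h f hf
  rw [hs, top_le_iff, Ideal.radical_eq_top] at hK
  have h1 : (1 : R) ∈ K := hK ▸ Submodule.mem_top
  simpa [K] using h1

/-- Over a connected base a group-like element `≠ 1` of a group of multiplicative type is nowhere `1`. -/
theorem coeff_one_eq_zero {R : Type u} [CommRing R] (hconn : ∀ e : R, IsIdempotentElem e → e = 0 ∨ e = 1)
    {A : Type u} [CommRing A] [HopfAlgebra R A] {s : Finset R} (hs : Ideal.span (s : Set R) = ⊤)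
    (C : ∀ f ∈ s, Chart R A f) {g : A} (hg : IsGroupLikeElem R g) (hg1 : g ≠ 1) :
    ∀ f (hf : f ∈ s), coeffAt (C f hf).S 1 ((C f hf).j g) = 0 := by
  classical
  let 𝔞 : Ideal R := LinearMap.ker (LinearMap.toSpanSingleton R A (g - 1))
  let a : ∀ f (hf : f ∈ s), (C f hf).S := fun f hf => coeffAt (C f hf).S 1 ((C f hf).j g)
  have ha : ∀ f (hf : f ∈ s), a f hf ∈ 𝔞.map (algebraMap R (C f hf).S) := fun f hf =>
    (C f hf).exact (g - 1) _ (by
      rw [map_sub, map_one]; exact groupLike_smul_coeff_one ((C f hf).groupLike g hg))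
  have ha' : ∀ f (hf : f ∈ s) (r : R), r ∈ 𝔞 → algebraMap R (C f hf).S r = algebraMap R (C f hf).S r * a f hf := by
    intro f hf r hr
    have h0 : r • (g - 1) = 0 := hr
    have h := congrArg (coeffAt (C f hf).S 1) ((C f hf).j_smul r (g - 1))
    rw [h0, map_zero, map_zero, map_smul, map_sub, map_sub, map_one, MonoidAlgebra.one_def, coeffAt_single,
      if_pos rfl, smul_eq_mul, mul_sub, mul_one] at h
    exact (sub_eq_zero.mp h.symm).symm
  have key : ∀ I : Ideal R, I ≤ 𝔞 → (∀ f (hf : f ∈ s), a f hf ∈ I.map (algebraMap R (C f hf).S)) → I = 𝔞 := by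
    intro I hI hmem
    refine le_antisymm hI fun r hr => mem_of_forall_pow_mem hs I fun f hf => (C f hf).mem_of_mem_map I r ?_
    rw [ha' f hf r hr]
    exact Ideal.mul_mem_left _ _ (hmem f hf)
  have hfg : 𝔞.FG := by
    have hex : ∀ f (hf : f ∈ s), ∃ T : Finset R, (T : Set R) ⊆ 𝔞 ∧
        a f hf ∈ (Ideal.span (T : Set R)).map (algebraMap R (C f hf).S) := by
      intro f hf
      have h := ha f hf
      rw [Ideal.map] at h
      obtain ⟨T, hT, h⟩ := Submodule.mem_span_finite_of_mem_span h
      obtain ⟨T', hT', rfl⟩ := Finset.subset_set_image_iff.mp hT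
      refine ⟨T', hT', ?_⟩
      rw [Ideal.map_span, ← Finset.coe_image]
      exact h
    choose T hT hmem using hex
    refine ⟨s.attach.biUnion fun f => T f.1 f.2, key _ ?_ fun f hf => ?_⟩
    · refine Ideal.span_le.mpr fun r hr => ?_
      obtain ⟨f, -, hf⟩ := Finset.mem_biUnion.mp hr
      exact hT f.1 f.2 hf
    · refine Ideal.map_mono (Ideal.span_mono ?_) (hmem f hf)
      exact fun r hr => Finset.mem_biUnion.mpr ⟨⟨f, hf⟩, Finset.mem_attach _ _, hr⟩
  have hidem : IsIdempotentElem 𝔞 := key (𝔞 * 𝔞) Ideal.mul_le_left fun f hf => by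
    have h := groupLike_coeff_mul ((C f hf).groupLike g hg) (1 : (C f hf).P) 1
    rw [if_pos rfl] at h
    rw [Ideal.map_mul, show a f hf = a f hf * a f hf from h.symm]
    exact Ideal.mul_mem_mul (ha f hf) (ha f hf)
  obtain ⟨e, he, h𝔞⟩ := (Ideal.isIdempotentElem_iff_of_fg 𝔞 hfg).mp hidem
  intro f hf
  rcases hconn e he with rfl | rfl
  · have h := ha f hf
    rw [h𝔞] at h
    simpa using h
  · exfalso
    apply hg1
    have h1 : (1 : R) ∈ 𝔞 := h𝔞 ▸ Submodule.mem_span_singleton_self 1
    exact sub_eq_zero.mp (by simpa [𝔞] using h1)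

end Groth.Agent.H83.MultType
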