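import Groth.Agent.H83.MultType.Functorial
import Groth.Agent.H83.MultType.Quot

/-! Kernels of homomorphisms out of diagonalisable groups. -/

set_option autoImplicit false

universe u

open TensorProduct

namespace Groth.Agent.H83.MultType

variable {R : Type u} [CommRing R] {A : Type u} [CommRing A] [HopfAlgebra R A]

/-- The projection to a closed subgroup after extension of scalars, as an algebra map. -/
noncomputable def projMap (S : Type u) [CommRing S] [Algebra R S] (J : Ideal A) : S ⊗[R] A →ₐ[S] S ⊗[R] (A ⧸ J) :=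
  Algebra.TensorProduct.map (AlgHom.id S S) (Ideal.Quotient.mkₐ R J)

theorem projMap_surjective (S : Type u) [CommRing S] [Algebra R S] (J : Ideal A) :
    Function.Surjective (projMap (R := R) S J) := by
  intro z
  induction z using TensorProduct.induction_on with
  | zero => exact ⟨0, map_zero _⟩
  | tmul t c =>
    obtain ⟨a, rfl⟩ := Ideal.Quotient.mk_surjective c
    exact ⟨t ⊗ₜ a, by simp [projMap]⟩
  | add a b ha hb =>
    obtain ⟨x, rfl⟩ := ha; obtain ⟨y, rfl⟩ := hb
    exact ⟨x + y, map_add _ x y⟩

/-- The equations of a subgroup which, in a trivialisation, is cut out by characters. -/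
structure KerData (J : Ideal A) (S : Type u) [CommRing S] [Algebra R S] (P : Type u) [CommGroup P]
    (e : (S ⊗[R] A) ≃ₐc[S] MonoidAlgebra S P) (ι : Type u) (m : ι → P) (ε : ι → S) : Prop where
  idem : ∀ k, IsIdempotentElem (ε k)
  vanish : ∀ k, projMap (R := R) S J (e.symm (MonoidAlgebra.single (m k) (ε k) - MonoidAlgebra.single 1 (ε k))) = 0
  gen : ∀ a ∈ J, e ((1 : S) ⊗ₜ[R] a) ∈
    Ideal.span (Set.range fun k => MonoidAlgebra.single (m k) (ε k) - MonoidAlgebra.single 1 (ε k))

/-- A bialgebra homomorphism from a finitely generated algebra into a group algebra has image cut out by characters. -/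
theorem exists_kerData {C : Type u} [CommRing C] [HopfAlgebra R C] (hC : Algebra.FiniteType R C) (φ : C →ₐc[R] A)
    (J : Ideal A) (hJ : J = Ideal.map φ (RingHom.ker (Bialgebra.counitAlgHom R C)))
    {S : Type u} [CommRing S] [Algebra R S] {P : Type u} [CommGroup P] (e : (S ⊗[R] A) ≃ₐc[S] MonoidAlgebra S P) :
    ∃ (ι : Type u) (_ : Fintype ι) (m : ι → P) (ε : ι → S), KerData J S P e ι m ε := by
  classical
  let ψ : S ⊗[R] C →ₐc[S] MonoidAlgebra S P :=
    (e : (S ⊗[R] A) →ₐc[S] MonoidAlgebra S P).comp (Bialgebra.TensorProduct.map (BialgHom.id S S) φ)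
  let ψa : S ⊗[R] C →ₐ[S] MonoidAlgebra S P := ψ
  obtain ⟨t, ht⟩ := hC.out
  let ι : Type u := Σ c : t, (ψ ((1 : S) ⊗ₜ[R] (c : C))).coeff.support
  let m : ι → P := fun k => k.2.1
  let r : ι → S := fun k => coeffAt S k.2.1 (ψ ((1 : S) ⊗ₜ[R] (k.1 : C)))
  let Φ : MvPolynomial ι S →ₐ[S] MonoidAlgebra S P := MvPolynomial.aeval fun k => MonoidAlgebra.single (m k) (r k)
  -- homogeneous components of the image lie in the image
  have hcomp : ∀ (z : S ⊗[R] C) (p : P), MonoidAlgebra.single p (coeffAt S p (ψ z)) ∈ ψa.range := by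
    intro z p
    let K : (MonoidAlgebra S P) ⊗[S] (MonoidAlgebra S P) →ₗ[S] MonoidAlgebra S P :=
      (TensorProduct.lid S _).toLinearMap ∘ₗ TensorProduct.map (coeffAt S p) LinearMap.id
    have h1 : ∀ y : MonoidAlgebra S P, K (CoalgebraStruct.comul (R := S) y) = MonoidAlgebra.single p (coeffAt S p y) := by
      intro y
      induction y using MonoidAlgebra.induction_linear with
      | zero => simp
      | add a b ha hb => simp only [map_add, ha, hb, MonoidAlgebra.single_add]
      | single g s =>
        simp only [MonoidAlgebra.comul_single, CommSemiring.comul_apply, TensorProduct.map_tmul, K, LinearMap.comp_apply,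
          LinearEquiv.coe_coe, LinearMap.id_apply, TensorProduct.lid_tmul, coeffAt_single, MonoidAlgebra.lsingle_apply]
        split_ifs with hg <;> simp [hg, MonoidAlgebra.smul_single]
    rw [← h1, ← CoalgHomClass.map_comp_comul_apply ψ]
    generalize CoalgebraStruct.comul (R := S) z = w
    induction w using TensorProduct.induction_on with
    | zero => rw [map_zero, map_zero]; exact zero_mem _
    | add a b ha hb => rw [map_add, map_add]; exact add_mem ha hb
    | tmul a b =>
      show coeffAt S p (ψ a) • ψ b ∈ _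
      exact ψa.range.smul_mem ⟨b, rfl⟩ _
  have hΦle : Φ.range ≤ ψa.range := by
    rw [← Algebra.map_top Φ, ← MvPolynomial.adjoin_range_X, AlgHom.map_adjoin]
    refine Algebra.adjoin_le ?_
    rintro _ ⟨_, ⟨k, rfl⟩, rfl⟩
    show Φ (MvPolynomial.X k) ∈ ψa.range
    rw [MvPolynomial.aeval_X]
    exact hcomp _ _
  have hle : ψa.range ≤ Φ.range := by
    have hgen : ∀ c : C, ψ ((1 : S) ⊗ₜ[R] c) ∈ Φ.range := by
      let g : C →ₐ[R] MonoidAlgebra S P := (ψa.restrictScalars R).comp Algebra.TensorProduct.includeRight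
      intro c
      have hc : c ∈ Algebra.adjoin R (t : Set C) := by rw [ht]; trivial
      induction hc using Algebra.adjoin_induction with
      | algebraMap a =>
        show g (algebraMap R C a) ∈ _
        rw [AlgHom.commutes, IsScalarTower.algebraMap_apply R S (MonoidAlgebra S P)]
        exact Φ.range.algebraMap_mem _
      | add x y _ _ hx hy => rw [TensorProduct.tmul_add, map_add]; exact add_mem hx hy
      | mul x y _ _ hx hy =>
        show g (x * y) ∈ _
        rw [map_mul]; exact mul_mem hx hy
      | mem x hx =>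
        rw [← (ψ ((1 : S) ⊗ₜ[R] x)).sum_coeff_single, Finsupp.sum, ← Finset.sum_coe_sort]
        refine sum_mem fun q _ => ⟨MvPolynomial.X ⟨⟨x, hx⟩, q⟩, ?_⟩
        show Φ (MvPolynomial.X _) = _
        rw [MvPolynomial.aeval_X]
        rfl
    rintro _ ⟨z, rfl⟩
    show ψ z ∈ _
    induction z using TensorProduct.induction_on with
    | zero => rw [map_zero]; exact zero_mem _
    | add a b ha hb => rw [map_add]; exact add_mem ha hb
    | tmul s c =>
      rw [show s ⊗ₜ[R] c = s • ((1 : S) ⊗ₜ[R] c) by rw [TensorProduct.smul_tmul', smul_eq_mul, mul_one], map_smul]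
      exact Φ.range.smul_mem (hgen c) s
  let I : P → Ideal S := fun p => LinearMap.range (coeffAt S p ∘ₗ ψa.toLinearMap)
  have hidem : ∀ p, IsIdempotentElem (I p) := by
    intro p
    refine le_antisymm Ideal.mul_le_left ?_
    rintro _ ⟨z, rfl⟩
    have h1 := coeffAt_comul p p (ψ z)
    rw [if_pos rfl, ← CoalgHomClass.map_comp_comul_apply ψ] at h1
    show coeffAt S p (ψ z) ∈ _
    rw [← h1]
    generalize CoalgebraStruct.comul (R := S) z = w
    induction w using TensorProduct.induction_on with
    | zero => simp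
    | add a b ha hb => rw [map_add, map_add, map_add]; exact add_mem ha hb
    | tmul a b => exact Ideal.mul_mem_mul ⟨a, rfl⟩ ⟨b, rfl⟩
  have hfg : ∀ p, (I p).FG := by
    intro p
    let E : Set (ι →₀ ℕ) := {α | α.prod (fun k n => m k ^ n) = p}
    let g : MvPolynomial ι ℤ →+* S := (MvPolynomial.aeval r : MvPolynomial ι ℤ →ₐ[ℤ] S).toRingHom
    have hsingle : ∀ (α : ι →₀ ℕ) (a : S), Φ (MvPolynomial.monomial α a) =
        MonoidAlgebra.single (α.prod fun k n => m k ^ n) (a * α.prod fun k n => r k ^ n) := by
      intro α a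
      rw [MvPolynomial.aeval_monomial]
      have h1 : (α.prod fun k n => MonoidAlgebra.single (m k) (r k) ^ n) =
          MonoidAlgebra.single (α.prod fun k n => m k ^ n) (α.prod fun k n => r k ^ n) := by
        simp only [Finsupp.prod, MonoidAlgebra.single_pow]
        induction α.support using Finset.induction_on with
        | empty => simp [MonoidAlgebra.one_def]
        | insert q T hq ih => rw [Finset.prod_insert hq, Finset.prod_insert hq, Finset.prod_insert hq, ih, MonoidAlgebra.single_mul_single]
      rw [h1, MonoidAlgebra.coe_algebraMap, Function.comp_apply, Algebra.algebraMap_self, RingHom.id_apply,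
        MonoidAlgebra.single_mul_single, one_mul]
    suffices hI : I p = (Ideal.span ((fun α => MvPolynomial.monomial α (1 : ℤ)) '' E)).map g by
      rw [hI]
      exact Ideal.FG.map (IsNoetherian.noetherian _) _
    have hg : ∀ α, g (MvPolynomial.monomial α 1) = α.prod fun k n => r k ^ n := fun α => by
      simp [g, MvPolynomial.aeval_monomial]
    rw [Ideal.map_span, Set.image_image]
    refine le_antisymm ?_ ?_
    · rintro _ ⟨z, rfl⟩
      show coeffAt S p (ψ z) ∈ _
      obtain ⟨q, hq⟩ := hle ⟨z, rfl⟩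
      show coeffAt S p (ψa.toRingHom z) ∈ _
      rw [← hq]
      show coeffAt S p (Φ q) ∈ _
      clear hq
      induction q using MvPolynomial.induction_on' with
      | monomial α a =>
        rw [hsingle, coeffAt_single]
        split_ifs with hα
        · exact Ideal.mul_mem_left _ a (Ideal.subset_span ⟨α, hα, hg α⟩)
        · exact zero_mem _
      | add a b ha hb => rw [map_add, map_add]; exact add_mem ha hb
    · refine Ideal.span_le.mpr ?_
      rintro _ ⟨α, hα, rfl⟩
      obtain ⟨z, hz⟩ := hΦle ⟨MvPolynomial.monomial α 1, rfl⟩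
      refine ⟨z, ?_⟩
      show coeffAt S p (ψa z) = g (MvPolynomial.monomial α 1)
      rw [show ψa z = ψa.toRingHom z from rfl, hz]
      show coeffAt S p (Φ _) = _
      rw [hsingle, coeffAt_single, hg, one_mul, if_pos (show (α.prod fun k n => m k ^ n) = p from hα)]
  choose ε hε hεI using fun k : ι => (Ideal.isIdempotentElem_iff_of_fg (I (m k)) (hfg _)).mp (hidem _)
  let K : Ideal (MonoidAlgebra S P) :=
    Ideal.span (Set.range fun k => MonoidAlgebra.single (m k) (ε k) - MonoidAlgebra.single 1 (ε k))
  have hq : ∀ z : S ⊗[R] C, projMap (R := R) S J (e.symm (ψ z)) = algebraMap S _ (CoalgebraStruct.counit (R := S) z) := by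
    intro z
    rw [show e.symm (ψ z) = Bialgebra.TensorProduct.map (BialgHom.id S S) φ z from e.symm_apply_apply _]
    induction z using TensorProduct.induction_on with
    | zero => simp
    | add a b ha hb => simp only [map_add, ha, hb]
    | tmul s c =>
      have h0 : c - algebraMap R C (CoalgebraStruct.counit (R := R) c) ∈ RingHom.ker (Bialgebra.counitAlgHom R C) := by
        rw [RingHom.mem_ker, map_sub, AlgHom.commutes]; simp
      have h1 := Ideal.mem_map_of_mem φ h0
      rw [← hJ, map_sub, AlgHomClass.commutes φ, ← Ideal.Quotient.eq] at h1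
      have h2 : Ideal.Quotient.mkₐ R J (φ c) = CoalgebraStruct.counit (R := R) c • (1 : A ⧸ J) := by
        rw [Ideal.Quotient.mkₐ_eq_mk, h1, ← Algebra.algebraMap_eq_smul_one]
        rfl
      rw [show Bialgebra.TensorProduct.map (BialgHom.id S S) φ (s ⊗ₜ[R] c) = s ⊗ₜ[R] φ c from rfl]
      simp only [projMap, Algebra.TensorProduct.map_tmul, AlgHom.id_apply, h2, TensorProduct.tmul_smul,
        TensorProduct.counit_tmul, CommSemiring.counit_apply, Algebra.TensorProduct.algebraMap_apply,
        Algebra.algebraMap_self, RingHom.id_apply, TensorProduct.smul_tmul']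
  refine ⟨ι, inferInstance, m, ε, ⟨hε, fun k => ?_, fun a ha => ?_⟩⟩
  · obtain ⟨z₀, hz₀⟩ : ε k ∈ I (m k) := by rw [hεI k]; exact Ideal.mem_span_singleton_self _
    obtain ⟨z, hz⟩ := hcomp z₀ (m k)
    have hz' : ψ z = MonoidAlgebra.single (m k) (ε k) := by
      rw [← hz₀]; exact hz
    have h1 := hq z
    rw [← CoalgHomClass.counit_comp_apply ψ z, hz', MonoidAlgebra.counit_single, CommSemiring.counit_apply] at h1
    rw [map_sub, map_sub, h1, show MonoidAlgebra.single (1 : P) (ε k) = algebraMap S (MonoidAlgebra S P) (ε k) by simp,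
      AlgHomClass.commutes e.symm, AlgHom.commutes, sub_self]
  · let π₁ : MonoidAlgebra S P →ₐ[S] MonoidAlgebra S P ⧸ K := Ideal.Quotient.mkₐ S K
    let π₂ : MonoidAlgebra S P →ₐ[S] MonoidAlgebra S P ⧸ K := (Algebra.ofId S _).comp (Bialgebra.counitAlgHom S _)
    have hΦK : π₁.comp Φ = π₂.comp Φ := by
      refine MvPolynomial.algHom_ext fun k => ?_
      simp only [AlgHom.comp_apply, Φ, MvPolynomial.aeval_X]
      show Ideal.Quotient.mk K _ = algebraMap S _ (Bialgebra.counitAlgHom S _ _)
      rw [Bialgebra.counitAlgHom_apply, MonoidAlgebra.counit_single, CommSemiring.counit_apply,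
        IsScalarTower.algebraMap_apply S (MonoidAlgebra S P) (MonoidAlgebra S P ⧸ K), Ideal.Quotient.algebraMap_eq,
        Ideal.Quotient.eq]
      obtain ⟨b, hb⟩ := Ideal.mem_span_singleton'.mp
        (show r k ∈ Ideal.span {ε k} from (hεI k).le ⟨_, rfl⟩)
      have : MonoidAlgebra.single (m k) (r k) - algebraMap S (MonoidAlgebra S P) (r k) =
          MonoidAlgebra.single 1 b * (MonoidAlgebra.single (m k) (ε k) - MonoidAlgebra.single 1 (ε k)) := by
        simp [mul_sub, MonoidAlgebra.single_mul_single, ← hb]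
      rw [this]
      exact Ideal.mul_mem_left _ _ (Ideal.subset_span ⟨k, rfl⟩)
    rw [hJ] at ha
    let η : A →+* MonoidAlgebra S P := ((e : (S ⊗[R] A) →ₐc[S] MonoidAlgebra S P).toAlgHom.toRingHom.comp
      (Algebra.TensorProduct.includeRight : A →ₐ[R] S ⊗[R] A).toRingHom)
    refine (Ideal.map_le_iff_le_comap.mpr fun c hc => ?_ : Ideal.map φ (RingHom.ker (Bialgebra.counitAlgHom R C)) ≤ Ideal.comap η K) ha
    show η (φ c) ∈ K
    have hη : η (φ c) = ψ ((1 : S) ⊗ₜ[R] c) := rfl
    obtain ⟨q, hq⟩ := hle ⟨(1 : S) ⊗ₜ[R] c, rfl⟩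
    have h2 := DFunLike.congr_fun hΦK q
    rw [hη, ← Ideal.Quotient.eq_zero_iff_mem]
    change π₁ (ψa.toRingHom _) = 0
    rw [← hq, show π₁ (Φ.toRingHom q) = π₁ (Φ q) from rfl]
    rw [AlgHom.comp_apply, AlgHom.comp_apply] at h2
    rw [h2, show Φ q = ψa ((1 : S) ⊗ₜ[R] c) from hq]
    show algebraMap S (MonoidAlgebra S P ⧸ K) (Bialgebra.counitAlgHom S (MonoidAlgebra S P) (ψ ((1 : S) ⊗ₜ[R] c))) = 0
    rw [Bialgebra.counitAlgHom_apply, CoalgHomClass.counit_comp_apply, TensorProduct.counit_tmul,
      show CoalgebraStruct.counit (R := R) c = 0 from hc, zero_smul, map_zero]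

theorem KerData.map {J : Ideal A} {S : Type u} [CommRing S] [Algebra R S] {P : Type u} [CommGroup P]
    {e : (S ⊗[R] A) ≃ₐc[S] MonoidAlgebra S P} {ι : Type u} {m : ι → P} {ε : ι → S} (d : KerData J S P e ι m ε)
    {T : Type u} [CommRing T] [Algebra R T] (f : S →ₐ[R] T) :
    ∃ e' : (T ⊗[R] A) ≃ₐc[T] MonoidAlgebra T P, KerData J T P e' ι m (f ∘ ε) := by
  obtain ⟨e', he'⟩ := exists_diag_map (A := A) f e
  refine ⟨e', ⟨fun k => (d.idem k).map f, fun k => ?_, fun a ha => ?_⟩⟩
  · let x := e.symm (MonoidAlgebra.single (m k) (ε k) - MonoidAlgebra.single 1 (ε k))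
    have h1 : e'.symm (MonoidAlgebra.single (m k) (f (ε k)) - MonoidAlgebra.single 1 (f (ε k))) = coeffMap f x := by
      apply EquivLike.injective e'
      rw [show e' (e'.symm _) = _ from e'.apply_symm_apply _, he', show e x = _ from e.apply_symm_apply _, map_sub,
        coeffGroup_single, coeffGroup_single]
    have h2 : ∀ y : S ⊗[R] A, projMap (R := R) T J (coeffMap f y) =
        Algebra.TensorProduct.map f (AlgHom.id R (A ⧸ J)) (projMap (R := R) S J y) := by
      intro y
      induction y using TensorProduct.induction_on with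
      | zero => simp
      | tmul s b => simp [projMap, coeffMap_tmul]
      | add p q hp hq => simp only [map_add, hp, hq]
    show projMap (R := R) T J (e'.symm _) = 0
    rw [show (f ∘ ε) k = f (ε k) from rfl, h1, h2, d.vanish k, map_zero]
  · have h1 : e' ((1 : T) ⊗ₜ[R] a) = coeffGroup f P (e ((1 : S) ⊗ₜ[R] a)) := by
      rw [← he', coeffMap_tmul, map_one]
    rw [h1]
    have h2 := Ideal.mem_map_of_mem (coeffGroup f P) (d.gen a ha)
    rw [Ideal.map_span, ← Set.range_comp] at h2
    convert! h2 using 3
    funext k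
    simp [coeffGroup_single]

end Groth.Agent.H83.MultType
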