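import Groth.Agent.H83.MultType.KerType

/-! Kernels of homomorphisms from groups of multiplicative type. -/

set_option autoImplicit false

universe u

open TensorProduct

namespace Groth.Agent.H83.MultType

variable {R : Type u} [CommRing R] {A : Type u} [CommRing A] [HopfAlgebra R A]

/-- The characters vanishing at a point of the trivialising scheme. -/
def typeSub {S : Type u} [CommRing S] {P : Type u} [CommGroup P] {ι : Type u} (m : ι → P) (ε : ι → S) (q : Ideal S) :
    Subgroup P :=
  Subgroup.closure (m '' {k | ε k ∉ q})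

set_option synthInstance.maxHeartbeats 200000 in
/-- Over a field the kernel is diagonalisable with the type of the point. -/
theorem KerData.fibre {J : Ideal A} [J.IsHopfIdeal R] {S : Type u} [CommRing S] [Algebra R S] {P : Type u} [CommGroup P]
    {e : (S ⊗[R] A) ≃ₐc[S] MonoidAlgebra S P} {ι : Type u} {m : ι → P} {ε : ι → S} (d : KerData J S P e ι m ε)
    (q : Ideal S) {L : Type u} [Field L] [Algebra R L] (f : S →ₐ[R] L) (hf : RingHom.ker f.toRingHom = q) :
    Nonempty ((L ⊗[R] (A ⧸ J)) ≃ₐc[L] MonoidAlgebra L (P ⧸ typeSub m ε q)) := by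
  obtain ⟨e', d'⟩ := d.map f
  have h01 : ∀ k, (ε k ∈ q ∧ f (ε k) = 0) ∨ (ε k ∉ q ∧ f (ε k) = 1) := fun k => by
    rcases IsIdempotentElem.iff_eq_zero_or_one.mp ((d.idem k).map f) with h | h
    · exact Or.inl ⟨by rw [← hf]; exact h, h⟩
    · refine Or.inr ⟨fun hk => ?_, h⟩
      rw [← hf, RingHom.mem_ker] at hk
      exact one_ne_zero (h.symm.trans hk)
  refine d'.diag (κ := PUnit.{u + 1}) (η := fun _ => 1) ⟨⟨fun _ => IsIdempotentElem.one, fun i j hij => absurd (Subsingleton.elim i j) hij⟩, by simp⟩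
    (fun _ => QuotientGroup.mk' (typeSub m ε q)) (fun _ => QuotientGroup.mk'_surjective _) (fun _ k => ?_) (fun _ => ?_)
  · rcases h01 k with ⟨-, h⟩ | ⟨hq, h⟩
    · exact Or.inl (by simp [h])
    · exact Or.inr ⟨by simp [h], (QuotientGroup.eq_one_iff _).mpr (Subgroup.subset_closure ⟨k, hq, rfl⟩)⟩
  · rw [QuotientGroup.ker_mk']
    refine Subgroup.closure_mono (Set.image_mono fun k hk => ?_)
    rcases h01 k with ⟨hq, -⟩ | ⟨-, h⟩
    · exact absurd hq hk
    · simp [h]

set_option synthInstance.maxHeartbeats 200000 in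
/-- The type only depends on the image of the point in a base. -/
theorem KerData.type_invariant {J : Ideal A} [J.IsHopfIdeal R] {B : Type u} [CommRing B] [Algebra R B]
    {S : Type u} [CommRing S] [Algebra R S] [Algebra B S] [IsScalarTower R B S] {P : Type u} [CommGroup P]
    {e : (S ⊗[R] A) ≃ₐc[S] MonoidAlgebra S P} {ι : Type u} {m : ι → P} {ε : ι → S} (d : KerData J S P e ι m ε)
    (q q' : PrimeSpectrum S)
    (h : PrimeSpectrum.comap (algebraMap B S) q = PrimeSpectrum.comap (algebraMap B S) q') :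
    Nonempty ((P ⧸ typeSub m ε q.asIdeal) ≃* (P ⧸ typeSub m ε q'.asIdeal)) := by
  let p : Ideal B := (PrimeSpectrum.comap (algebraMap B S) q).asIdeal
  let K₁ := q.asIdeal.ResidueField
  let K₂ := q'.asIdeal.ResidueField
  let i₁ : p.ResidueField →+* K₁ := Ideal.ResidueField.map p q.asIdeal (algebraMap B S) rfl
  let i₂ : p.ResidueField →+* K₂ := Ideal.ResidueField.map p q'.asIdeal (algebraMap B S)
    (congrArg PrimeSpectrum.asIdeal h)
  letI : Algebra p.ResidueField K₁ := i₁.toAlgebra
  letI : Algebra p.ResidueField K₂ := i₂.toAlgebra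
  haveI : Nontrivial (K₁ ⊗[p.ResidueField] K₂) :=
    TensorProduct.nontrivial_of_linearMap_injective_of_flat_left p.ResidueField K₁ K₂ (Algebra.linearMap _ K₂) i₂.injective
  obtain ⟨M, hM⟩ := Ideal.exists_maximal (K₁ ⊗[p.ResidueField] K₂)
  let L := (K₁ ⊗[p.ResidueField] K₂) ⧸ M
  letI : Field L := Ideal.Quotient.field M
  let π : K₁ ⊗[p.ResidueField] K₂ →+* L := Ideal.Quotient.mk M
  let j₁ : K₁ →+* L := π.comp (Algebra.TensorProduct.includeLeftRingHom)
  let j₂ : K₂ →+* L := π.comp (Algebra.TensorProduct.includeRight : K₂ →ₐ[p.ResidueField] K₁ ⊗[p.ResidueField] K₂).toRingHom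
  let f₁ : S →+* L := j₁.comp (algebraMap S K₁)
  let f₂ : S →+* L := j₂.comp (algebraMap S K₂)
  have hB : f₁.comp (algebraMap B S) = f₂.comp (algebraMap B S) := by
    ext b
    simp only [RingHom.comp_apply, f₁, f₂]
    rw [show algebraMap S K₁ (algebraMap B S b) = i₁ (algebraMap B p.ResidueField b) from (Ideal.ResidueField.map_algebraMap p q.asIdeal (algebraMap B S) rfl b).symm,
      show algebraMap S K₂ (algebraMap B S b) = i₂ (algebraMap B p.ResidueField b) from (Ideal.ResidueField.map_algebraMap p q'.asIdeal (algebraMap B S) (congrArg PrimeSpectrum.asIdeal h) b).symm]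
    have hc := (Algebra.TensorProduct.includeRight : K₂ →ₐ[p.ResidueField] K₁ ⊗[p.ResidueField] K₂).commutes (algebraMap B p.ResidueField b)
    show π (Algebra.TensorProduct.includeLeftRingHom (i₁ _)) = π (_ : K₁ ⊗[p.ResidueField] K₂)
    exact congrArg π hc.symm
  letI : Algebra R L := ((f₁.comp (algebraMap B S)).comp (algebraMap R B)).toAlgebra
  let F₁ : S →ₐ[R] L :=
    { f₁ with
      commutes' := fun r => by
        show f₁ (algebraMap R S r) = f₁ (algebraMap B S (algebraMap R B r))
        rw [← IsScalarTower.algebraMap_apply] }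
  let F₂ : S →ₐ[R] L :=
    { f₂ with
      commutes' := fun r => by
        show f₂ (algebraMap R S r) = f₁ (algebraMap B S (algebraMap R B r))
        rw [IsScalarTower.algebraMap_apply R B S]
        exact (RingHom.congr_fun hB _).symm }
  have hk₁ : RingHom.ker F₁.toRingHom = q.asIdeal := by
    show RingHom.ker (j₁.comp (algebraMap S K₁)) = _
    rw [← RingHom.comap_ker, (RingHom.injective_iff_ker_eq_bot j₁).mp j₁.injective, ← RingHom.ker_eq_comap_bot,
      Ideal.ker_algebraMap_residueField]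
  have hk₂ : RingHom.ker F₂.toRingHom = q'.asIdeal := by
    show RingHom.ker (j₂.comp (algebraMap S K₂)) = _
    rw [← RingHom.comap_ker, (RingHom.injective_iff_ker_eq_bot j₂).mp j₂.injective, ← RingHom.ker_eq_comap_bot,
      Ideal.ker_algebraMap_residueField]
  obtain ⟨e₁⟩ := d.fibre q.asIdeal F₁ hk₁
  obtain ⟨e₂⟩ := d.fibre q'.asIdeal F₂ hk₂
  exact nonempty_mulEquiv_of_bialgEquiv (e₁.symm.trans e₂)

/-- Idempotent products indexed by subsets. -/
theorem completeOrthogonalIdempotents_subsets {S : Type u} [CommRing S] {ι : Type u} [Fintype ι] [DecidableEq ι] (ε : ι → S)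
    (hε : ∀ k, IsIdempotentElem (ε k)) :
    CompleteOrthogonalIdempotents fun D : Finset ι => (∏ k ∈ D, ε k) * ∏ k ∈ Finset.univ \ D, (1 - ε k) := by
  have hprod : ∀ (T : Finset ι) (g : ι → S), (∀ k, IsIdempotentElem (g k)) → IsIdempotentElem (∏ k ∈ T, g k) := fun T g hg =>
    show _ * _ = _ by rw [← Finset.prod_mul_distrib]; exact Finset.prod_congr rfl fun k _ => hg k
  refine ⟨⟨fun D => (hprod _ _ hε).mul (hprod _ _ fun k => (hε k).one_sub), fun D D' hne => ?_⟩, ?_⟩
  · obtain ⟨k, hk⟩ : ∃ k, ¬ (k ∈ D ↔ k ∈ D') := by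
      by_contra hall
      push Not at hall
      exact hne (Finset.ext hall)
    have h0 : ε k * (1 - ε k) = 0 := by rw [mul_sub, mul_one, hε k, sub_self]
    by_cases hD : k ∈ D
    · have hD' : k ∈ Finset.univ \ D' := by simp; tauto
      obtain ⟨a, ha⟩ := Finset.dvd_prod_of_mem ε hD
      obtain ⟨b, hb⟩ := Finset.dvd_prod_of_mem (fun k => 1 - ε k) hD'
      show (_ * _) * (_ * _) = (0 : S)
      rw [ha, hb]
      linear_combination (a * (∏ k ∈ Finset.univ \ D, (1 - ε k)) * (∏ k ∈ D', ε k) * b) * h0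
    · have hD' : k ∈ D' := by tauto
      obtain ⟨a, ha⟩ := Finset.dvd_prod_of_mem ε hD'
      obtain ⟨b, hb⟩ := Finset.dvd_prod_of_mem (fun k => 1 - ε k) (show k ∈ Finset.univ \ D by simp [hD])
      show (_ * _) * (_ * _) = (0 : S)
      rw [ha, hb]
      linear_combination (a * (∏ k ∈ Finset.univ \ D', (1 - ε k)) * (∏ k ∈ D, ε k) * b) * h0
  · have := Finset.prod_add ε (fun k => 1 - ε k) Finset.univ
    simp only [add_sub_cancel, Finset.prod_const_one, Finset.powerset_univ] at this
    exact this.symm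

theorem mem_component_iff {S : Type u} [CommRing S] {ι : Type u} [Fintype ι] [DecidableEq ι] (ε : ι → S)
    (hε : ∀ k, IsIdempotentElem (ε k)) (q : Ideal S) [q.IsPrime] (D : Finset ι) :
    (∏ k ∈ D, ε k) * (∏ k ∈ Finset.univ \ D, (1 - ε k)) ∉ q ↔ ∀ k, ε k ∉ q ↔ k ∈ D := by
  have h0 : ∀ k, ε k ∈ q ∨ 1 - ε k ∈ q := fun k => ‹q.IsPrime›.mem_or_mem (by
    rw [mul_sub, mul_one, hε k, sub_self]; exact zero_mem _)
  constructor
  · intro h k
    refine ⟨fun hk => ?_, fun hk hkq => h (Ideal.mul_mem_right _ _ (Ideal.mem_of_dvd _ (Finset.dvd_prod_of_mem ε hk) hkq))⟩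
    by_contra hD
    exact h (Ideal.mul_mem_left _ _ (Ideal.mem_of_dvd _ (Finset.dvd_prod_of_mem (fun k => 1 - ε k) (show k ∈ Finset.univ \ D by simp [hD]))
      ((h0 k).resolve_left hk)))
  · intro h hmem
    rcases ‹q.IsPrime›.mem_or_mem hmem with h1 | h1
    · obtain ⟨k, hk, hkq⟩ := (‹q.IsPrime›.prod_mem_iff).mp h1
      exact (h k).mpr hk hkq
    · obtain ⟨k, hk, hkq⟩ := (‹q.IsPrime›.prod_mem_iff).mp h1
      have hkD : k ∉ D := (Finset.mem_sdiff.mp hk).2
      have hεq : ε k ∈ q := by
        by_contra hn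
        exact hkD ((h k).mp hn)
      exact ‹q.IsPrime›.ne_top ((Ideal.eq_top_iff_one q).mpr (by simpa using add_mem hεq hkq))

set_option synthInstance.maxHeartbeats 200000 in
set_option maxHeartbeats 1600000 in
/-- The kernel of a homomorphism from a group of multiplicative type to a group of finite type is of multiplicative type. -/
theorem isMultType_kernel {C : Type u} [CommRing C] [HopfAlgebra R C] (hA : SGA3b.IsMultType R A)
    (hC : Algebra.FiniteType R C) (φ : C →ₐc[R] A) (J : Ideal A) [J.IsHopfIdeal R]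
    (hJ : J = Ideal.map φ (RingHom.ker (Bialgebra.counitAlgHom R C))) : SGA3b.IsMultType R (A ⧸ J) := by
  classical
  refine ⟨{g | SGA3b.IsMultTypeConst (Localization.Away g) (Localization.Away g ⊗[R] (A ⧸ J))}, ?_, fun g hg => hg⟩
  by_contra hne
  obtain ⟨pm, hpm, hle⟩ := Ideal.exists_le_maximal _ hne
  haveI := hpm.isPrime
  obtain ⟨s, hs, hsf⟩ := hA
  obtain ⟨f, hf, hfp⟩ : ∃ f ∈ s, f ∉ pm := by
    by_contra hall
    push Not at hall
    exact hpm.ne_top (top_le_iff.mp (hs.ge.trans (Ideal.span_le.mpr hall)))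
  obtain ⟨S, _, _, hSff, P, _, ⟨e₀⟩⟩ := hsf f hf
  let B := Localization.Away f
  haveI : Module.FaithfullyFlat B S := hSff
  letI : Algebra R S := ((algebraMap B S).comp (algebraMap R B)).toAlgebra
  haveI : IsScalarTower R B S := IsScalarTower.of_algebraMap_eq fun _ => rfl
  haveI : Module.Flat R S := Module.Flat.trans R B S
  obtain ⟨T, -⟩ := exists_towerEquiv R B S A
  obtain ⟨ι, _, m, ε, d⟩ := exists_kerData hC φ J hJ (T.trans e₀)
  have hsurj : Function.Surjective (PrimeSpectrum.comap (algebraMap B S)) :=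
    PrimeSpectrum.comap_surjective_of_faithfullyFlat
  obtain ⟨P₀, hP₀⟩ : ∃ P₀ : PrimeSpectrum B, PrimeSpectrum.comap (algebraMap R B) P₀ = ⟨pm, hpm.isPrime⟩ := by
    have : (⟨pm, hpm.isPrime⟩ : PrimeSpectrum R) ∈ Set.range (PrimeSpectrum.comap (algebraMap R B)) := by
      rw [PrimeSpectrum.localization_away_comap_range B f]
      exact hfp
    exact this
  obtain ⟨q₀, hq₀⟩ := hsurj P₀
  let N := P ⧸ typeSub m ε q₀.asIdeal
  let W : Set (PrimeSpectrum B) :=
    PrimeSpectrum.comap (algebraMap B S) '' {q | Nonempty ((P ⧸ typeSub m ε q.asIdeal) ≃* N)}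
  have hpre : PrimeSpectrum.comap (algebraMap B S) ⁻¹' W = {q | Nonempty ((P ⧸ typeSub m ε q.asIdeal) ≃* N)} := by
    refine Set.Subset.antisymm ?_ (Set.subset_preimage_image _ _)
    rintro q ⟨q', ⟨ψ⟩, hq'⟩
    obtain ⟨θ⟩ := d.type_invariant q q' hq'.symm
    exact ⟨θ.trans ψ⟩
  let η : Finset ι → S := fun D => (∏ k ∈ D, ε k) * ∏ k ∈ Finset.univ \ D, (1 - ε k)
  have hη : CompleteOrthogonalIdempotents η := completeOrthogonalIdempotents_subsets ε d.idem
  have htype : ∀ (q : PrimeSpectrum S) (D : Finset ι), η D ∉ q.asIdeal →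
      typeSub m ε q.asIdeal = Subgroup.closure (m '' (D : Set ι)) := by
    intro q D hD
    have := (mem_component_iff ε d.idem q.asIdeal D).mp hD
    exact congrArg (fun X => Subgroup.closure (m '' X)) (Set.ext fun k => this k)
  have hpart : ∀ q : PrimeSpectrum S, ∃ D : Finset ι, η D ∉ q.asIdeal := fun q =>
    ⟨Finset.univ.filter fun k => ε k ∉ q.asIdeal, (mem_component_iff ε d.idem q.asIdeal _).mpr fun k => by simp⟩
  have hclopen : IsClopen ({q | Nonempty ((P ⧸ typeSub m ε q.asIdeal) ≃* N)} : Set (PrimeSpectrum S)) := by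
    have heq : ({q | Nonempty ((P ⧸ typeSub m ε q.asIdeal) ≃* N)} : Set (PrimeSpectrum S)) =
        ⋃ D : {D : Finset ι // Nonempty ((P ⧸ Subgroup.closure (m '' (D : Set ι))) ≃* N)},
          ↑(PrimeSpectrum.basicOpen (η D.1)) := by
      ext q
      simp only [Set.mem_setOf_eq, Set.mem_iUnion, PrimeSpectrum.basicOpen_eq_zeroLocus_compl, Set.mem_compl_iff,
        PrimeSpectrum.mem_zeroLocus, Set.singleton_subset_iff, SetLike.mem_coe]
      constructor
      · intro h
        obtain ⟨D, hD⟩ := hpart q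
        exact ⟨⟨D, by rwa [htype q D hD] at h⟩, hD⟩
      · rintro ⟨⟨D, hN⟩, hD⟩
        rwa [htype q D hD]
    rw [heq]
    exact isClopen_iUnion_of_finite fun D => PrimeSpectrum.isClopen_iff.mpr ⟨η D.1, hη.idem _, rfl⟩
  have hquot : Topology.IsQuotientMap (PrimeSpectrum.comap (algebraMap B S)) :=
    PrimeSpectrum.isQuotientMap_of_generalizingMap hsurj
      (Algebra.HasGoingDown.iff_generalizingMap_primeSpectrumComap.mp inferInstance)
  have hW : IsClopen W := hquot.isClopen_preimage.mp (by rw [hpre]; exact hclopen)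
  obtain ⟨b, -, hWb⟩ := PrimeSpectrum.isClopen_iff.mp hW
  obtain ⟨a, ⟨_, n, rfl⟩, rfl⟩ := IsLocalization.exists_mk'_eq (Submonoid.powers f) b
  have hmemW : ∀ Q : PrimeSpectrum B, Q ∈ W ↔ algebraMap R B a ∉ Q.asIdeal := by
    intro Q
    rw [hWb]
    show IsLocalization.mk' B a _ ∉ Q.asIdeal ↔ _
    rw [not_iff_not, IsLocalization.mk'_mem_iff]
  have hP₀W : P₀ ∈ W := ⟨q₀, ⟨MulEquiv.refl _⟩, hq₀⟩
  refine (show a * f ∉ pm from fun hmem => ?_) (hle (Ideal.subset_span ?_))
  · rcases hpm.isPrime.mem_or_mem hmem with h | h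
    · refine (hmemW P₀).mp hP₀W ?_
      show a ∈ (PrimeSpectrum.comap (algebraMap R B) P₀).asIdeal
      rw [hP₀]; exact h
    · exact hfp h
  show SGA3b.IsMultTypeConst _ _
  let g := a * f
  let S' := Localization.Away (algebraMap R S g)
  let Rg := Localization.Away g
  have hu : IsUnit (algebraMap R S' g) := by
    rw [IsScalarTower.algebraMap_apply R S S']
    exact IsLocalization.Away.algebraMap_isUnit (algebraMap R S g)
  letI : Algebra Rg S' := (IsLocalization.Away.lift g (g := algebraMap R S') hu).toAlgebra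
  haveI : IsScalarTower R Rg S' := IsScalarTower.of_algebraMap_eq fun r =>
    (IsLocalization.Away.lift_eq g hu r).symm
  haveI : Module.Flat S S' := IsLocalization.flat S' (Submonoid.powers (algebraMap R S g))
  haveI : Module.Flat R S' := Module.Flat.trans R S S'
  haveI : Module.Flat Rg S' := (Module.flat_iff_of_isLocalization Rg (Submonoid.powers g) S').mpr ‹Module.Flat R S'›
  have hff : Module.FaithfullyFlat Rg S' := by
    refine Module.FaithfullyFlat.of_comap_surjective fun Q => ?_
    let p' := PrimeSpectrum.comap (algebraMap R Rg) Q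
    have hgp : g ∉ p'.asIdeal := fun h =>
      Q.2.ne_top (Ideal.eq_top_of_isUnit_mem _ h (IsLocalization.Away.algebraMap_isUnit g))
    obtain ⟨Q', hQ'⟩ : p' ∈ Set.range (PrimeSpectrum.comap (algebraMap R B)) := by
      rw [PrimeSpectrum.localization_away_comap_range B f]
      exact fun h => hgp (Ideal.mul_mem_left _ a h)
    obtain ⟨q, hq⟩ := hsurj Q'
    have hqg : algebraMap R S g ∉ q.asIdeal := by
      intro h
      refine hgp ?_
      rw [← hQ', ← hq]
      exact h
    obtain ⟨q', hq'⟩ : q ∈ Set.range (PrimeSpectrum.comap (algebraMap S S')) := by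
      rw [PrimeSpectrum.localization_away_comap_range S' (algebraMap R S g)]
      exact hqg
    refine ⟨q', PrimeSpectrum.localization_comap_injective Rg (Submonoid.powers g) ?_⟩
    rw [← PrimeSpectrum.comap_comp_apply, ← IsScalarTower.algebraMap_eq, IsScalarTower.algebraMap_eq R S S',
      PrimeSpectrum.comap_comp_apply, hq', IsScalarTower.algebraMap_eq R B S, PrimeSpectrum.comap_comp_apply, hq, hQ']
  obtain ⟨e', d'⟩ := d.map (IsScalarTower.toAlgHom R S S')
  let η' : Finset ι → S' := fun D => algebraMap S S' (η D)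
  let κ := {D : Finset ι // η' D ≠ 0}
  have hgood : ∀ D : κ, Nonempty ((P ⧸ Subgroup.closure (m '' (D.1 : Set ι))) ≃* N) := by
    intro D
    have hnn : ¬ IsNilpotent (η' D.1) := fun hn => D.2 (((hη.idem D.1).map _).eq_zero_of_isNilpotent hn)
    rw [← mem_nilradical, nilradical_eq_sInf, Submodule.mem_sInf] at hnn
    push Not at hnn
    obtain ⟨P', hP', hηP⟩ := hnn
    haveI : Ideal.IsPrime P' := hP'
    let q : PrimeSpectrum S := PrimeSpectrum.comap (algebraMap S S') ⟨P', hP'⟩
    have hq : η D.1 ∉ q.asIdeal := hηP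
    have hqW : PrimeSpectrum.comap (algebraMap B S) q ∈ W := by
      rw [hmemW]
      intro h
      have h3 : IsUnit (algebraMap R S' a * algebraMap R S' f) :=
        Eq.mp (congrArg IsUnit (map_mul (algebraMap R S') a f)) hu
      have h2 : algebraMap R S' a * algebraMap R S' f ∈ P' := by
        refine Ideal.mul_mem_right _ _ ?_
        rw [IsScalarTower.algebraMap_apply R S S']
        exact (congrArg (fun z => algebraMap S S' z ∈ P') (IsScalarTower.algebraMap_apply R B S a)).mpr h
      exact hP'.ne_top (Ideal.eq_top_of_isUnit_mem _ h2 h3)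
    have h1 : q ∈ PrimeSpectrum.comap (algebraMap B S) ⁻¹' W := hqW
    rw [hpre, Set.mem_setOf_eq, htype q D.1 hq] at h1
    exact h1
  let ψ := fun D : κ => (hgood D).some
  have hη' : CompleteOrthogonalIdempotents fun D : κ => η' D.1 := by
    refine ⟨⟨fun D => (hη.idem D.1).map _, fun D D' hne => ?_⟩, ?_⟩
    · show η' D.1 * η' D'.1 = 0
      rw [← map_mul, hη.ortho (fun h => hne (Subtype.ext h)), map_zero]
    · rw [← Finset.sum_subtype (Finset.univ.filter fun D => η' D ≠ 0) (by simp) η', Finset.sum_filter_ne_zero,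
        ← map_sum, hη.complete, map_one]
  obtain ⟨e''⟩ := d'.diag (κ := κ) hη' (N := N) (fun D => (ψ D).toMonoidHom.comp (QuotientGroup.mk' _))
    (fun D => (ψ D).surjective.comp (QuotientGroup.mk'_surjective _))
    (fun D k => by
      by_cases hk : k ∈ D.1
      · refine Or.inr ⟨?_, ?_⟩
        · show algebraMap S S' (η D.1) * algebraMap S S' (ε k) = algebraMap S S' (η D.1)
          rw [← map_mul]
          congr 1
          show ((∏ k ∈ D.1, ε k) * _) * ε k = _
          rw [mul_right_comm]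
          congr 1
          rw [← Finset.prod_erase_mul _ _ hk, mul_assoc, d.idem k]
        · show ψ D (QuotientGroup.mk (m k)) = 1
          rw [(QuotientGroup.eq_one_iff (m k)).mpr (show m k ∈ Subgroup.closure (m '' (D.1 : Set ι)) from
            Subgroup.subset_closure ⟨k, hk, rfl⟩), map_one]
      · refine Or.inl ?_
        show algebraMap S S' (η D.1) * algebraMap S S' (ε k) = 0
        rw [← map_mul]
        have hk' : k ∈ Finset.univ \ D.1 := by simp [hk]
        obtain ⟨b, hb⟩ := Finset.dvd_prod_of_mem (fun k => 1 - ε k) hk'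
        show algebraMap S S' ((_ * ∏ k ∈ Finset.univ \ D.1, (1 - ε k)) * ε k) = 0
        rw [hb, show ((∏ k ∈ D.1, ε k) * ((1 - ε k) * b)) * ε k = (∏ k ∈ D.1, ε k) * b * ((1 - ε k) * ε k) by ring,
          sub_mul, one_mul, d.idem k, sub_self, mul_zero, map_zero])
    (fun D => by
      rw [show ((ψ D).toMonoidHom.comp (QuotientGroup.mk' _)).ker = Subgroup.closure (m '' (D.1 : Set ι)) by
        ext x
        simp]
      refine Subgroup.closure_mono (Set.image_mono fun k hk => ?_)
      show algebraMap S S' (η D.1) * algebraMap S S' (ε k) = algebraMap S S' (η D.1)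
      rw [← map_mul]
      congr 1
      show ((∏ k ∈ D.1, ε k) * _) * ε k = _
      rw [mul_right_comm]
      congr 1
      rw [← Finset.prod_erase_mul _ _ (Finset.mem_coe.mp hk), mul_assoc, d.idem k])
  obtain ⟨T', -⟩ := exists_towerEquiv R Rg S' (A ⧸ J)
  exact ⟨S', inferInstance, inferInstance, hff, N, inferInstance, ⟨T'.symm.trans e''⟩⟩

end Groth.Agent.H83.MultType
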