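import Groth.Agent.H83.MultType.Primitive
import Groth.Agent.H83.MultType.GroupLike

/-! Group-like elements of groups of multiplicative type lift uniquely modulo a nil ideal. -/

set_option autoImplicit false

universe u

open TensorProduct

namespace Groth.Agent.H83.MultType

/-- The defect of being group-like. -/
noncomputable def glDefect {R : Type u} [CommRing R] {A : Type u} [CommRing A] [HopfAlgebra R A] (x : A) : A ⊗[R] A :=
  CoalgebraStruct.comul (R := R) x - x ⊗ₜ[R] x

/-- The linearisation of the defect at `x`. -/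
noncomputable def lin {R : Type u} [CommRing R] {A : Type u} [CommRing A] [HopfAlgebra R A] (x : A) :
    A →ₗ[R] A ⊗[R] A :=
  CoalgebraStruct.comul (R := R) (A := A) - (TensorProduct.mk R A A).flip x - TensorProduct.mk R A A x

theorem glDefect_add {R : Type u} [CommRing R] {A : Type u} [CommRing A] [HopfAlgebra R A] (x u : A) :
    glDefect (R := R) (x + u) = glDefect x + lin x u - u ⊗ₜ[R] u := by
  simp only [glDefect, lin, map_add, TensorProduct.add_tmul, TensorProduct.tmul_add, LinearMap.sub_apply,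
    LinearMap.flip_apply, TensorProduct.mk_apply]
  abel

theorem smul_top_tmul {R : Type u} [CommRing R] {M N : Type u} [AddCommGroup M] [Module R M] [AddCommGroup N]
    [Module R N] (I J : Ideal R) {a : M} {b : N} (ha : a ∈ I • (⊤ : Submodule R M))
    (hb : b ∈ J • (⊤ : Submodule R N)) : a ⊗ₜ[R] b ∈ (I * J) • (⊤ : Submodule R (M ⊗[R] N)) := by
  induction ha using Submodule.smul_induction_on' with
  | add p _ q _ hp hq => rw [TensorProduct.add_tmul]; exact add_mem hp hq
  | smul r hr v _ =>
    induction hb using Submodule.smul_induction_on' with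
    | add p _ q _ hp hq => rw [TensorProduct.tmul_add]; exact add_mem hp hq
    | smul s hs w _ =>
      rw [TensorProduct.tmul_smul, ← TensorProduct.smul_tmul', smul_smul, mul_comm s r]
      exact Submodule.smul_mem_smul (Ideal.mul_mem_mul hr hs) Submodule.mem_top

theorem map_mem_of_mem_smul {R : Type u} [CommRing R] {M N : Type u} [AddCommGroup M] [Module R M]
    [AddCommGroup N] [Module R N] (f : M →ₗ[R] N) {J : Ideal R} {x : M}
    (hx : x ∈ J • (⊤ : Submodule R M)) : f x ∈ J • (⊤ : Submodule R N) := by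
  have := Submodule.mem_map_of_mem (f := f) hx
  rw [Submodule.map_smul''] at this
  exact Submodule.smul_mono le_rfl le_top this

theorem coeffAt_mem_of_mem_smul {S : Type u} [CommRing S] {P : Type u} [CommGroup P] {J : Ideal S}
    {y : MonoidAlgebra S P} (hy : y ∈ J • (⊤ : Submodule S (MonoidAlgebra S P))) (p : P) : coeffAt S p y ∈ J := by
  induction hy using Submodule.smul_induction_on' with
  | add a _ b _ ha hb => rw [map_add]; exact add_mem ha hb
  | smul r hr v _ => rw [map_smul, smul_eq_mul]; exact Ideal.mul_mem_right _ _ hr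

theorem mem_smul_of_coeffAt_mem {S : Type u} [CommRing S] {P : Type u} [CommGroup P] {J : Ideal S}
    {y : MonoidAlgebra S P} (h : ∀ p, coeffAt S p y ∈ J) : y ∈ J • (⊤ : Submodule S (MonoidAlgebra S P)) := by
  rw [← y.sum_coeff_single]
  refine Submodule.sum_mem _ fun m _ => ?_
  have hsingle : ∀ r : S, MonoidAlgebra.single m r = r • MonoidAlgebra.single m (1 : S) := fun r => by
    rw [MonoidAlgebra.smul_single, smul_eq_mul, mul_one]
  rw [hsingle]
  exact Submodule.smul_mem_smul (h m) Submodule.mem_top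

theorem counit_eq_sum {S : Type u} [CommRing S] {P : Type u} [CommGroup P] (y : MonoidAlgebra S P) :
    CoalgebraStruct.counit (R := S) y = ∑ p ∈ y.coeff.support, coeffAt S p y := by
  conv_lhs => rw [← y.sum_coeff_single, Finsupp.sum, map_sum]
  refine Finset.sum_congr rfl fun p _ => ?_
  simp [coeffAt]

/-- In a group algebra, an almost group-like element is congruent to a group-like element. -/
theorem exists_groupLike_of_defect_mem {S : Type u} [CommRing S] {P : Type u} [CommGroup P] (J : Ideal S)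
    (hJ : ∀ x ∈ J, IsNilpotent x) {y : MonoidAlgebra S P}
    (hy : glDefect (R := S) y ∈ J • (⊤ : Submodule S (MonoidAlgebra S P ⊗[S] MonoidAlgebra S P)))
    (hc : CoalgebraStruct.counit (R := S) y - 1 ∈ J) :
    ∃ z : MonoidAlgebra S P, IsGroupLikeElem S z ∧ z - y ∈ J • (⊤ : Submodule S (MonoidAlgebra S P)) := by
  classical
  have hmul : ∀ p q : P, (if p = q then coeffAt S p y else 0) - coeffAt S p y * coeffAt S q y ∈ J := by
    intro p q
    have h := map_mem_of_mem_smul (LinearMap.mul' S S ∘ₗ TensorProduct.map (coeffAt S p) (coeffAt S q)) hy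
    rw [smul_eq_mul, Ideal.mul_top, LinearMap.comp_apply, glDefect, map_sub, map_sub, coeffAt_comul,
      TensorProduct.map_tmul, LinearMap.mul'_apply] at h
    exact h
  let T : Finset P := y.coeff.support
  let π : S →+* S ⧸ J := Ideal.Quotient.mk J
  have he : CompleteOrthogonalIdempotents (fun p : T => π (coeffAt S (p : P) y)) := by
    refine ⟨⟨fun p => ?_, fun p q hpq => ?_⟩, ?_⟩
    · have h := hmul p.1 p.1
      rw [if_pos rfl, ← Ideal.Quotient.eq_zero_iff_mem, map_sub, map_mul, sub_eq_zero] at h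
      exact h.symm
    · have h := hmul p.1 q.1
      rw [if_neg (fun h => hpq (Subtype.ext h)), zero_sub, neg_mem_iff, ← Ideal.Quotient.eq_zero_iff_mem, map_mul] at h
      exact h
    · rw [Finset.sum_coe_sort T (fun p => π (coeffAt S p y)), ← map_sum, ← map_one π, Ideal.Quotient.eq, ← counit_eq_sum]
      exact hc
  obtain ⟨e, he', hee⟩ := CompleteOrthogonalIdempotents.lift_of_isNilpotent_ker π (fun x hx => hJ x (Ideal.Quotient.eq_zero_iff_mem.mp hx)) he
    (fun p => ⟨coeffAt S (p : P) y, rfl⟩)
  let E : P → S := fun p => if h : p ∈ T then e ⟨p, h⟩ else 0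
  have hE : ∀ p : T, E p.1 = e p := fun p => dif_pos p.2
  let z : MonoidAlgebra S P := ∑ p : T, MonoidAlgebra.single (p : P) (e p)
  have hz : ∀ q : P, coeffAt S q z = E q := by
    intro q
    simp only [z, map_sum, coeffAt_single]
    by_cases hq : q ∈ T
    · rw [Finset.sum_eq_single ⟨q, hq⟩ (fun p _ hp => if_neg fun h => hp (Subtype.ext h)) (by simp), if_pos rfl]
      simp [E, hq]
    · rw [Finset.sum_eq_zero fun (p : T) _ => if_neg fun h : (p : P) = q => hq (h ▸ p.2)]
      simp [E, hq]
  have hsingle : ∀ (p : P) (r : S), MonoidAlgebra.single p r = r • MonoidAlgebra.single p (1 : S) := fun p r => by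
    rw [MonoidAlgebra.smul_single, smul_eq_mul, mul_one]
  refine ⟨z, ⟨?_, ?_⟩, mem_smul_of_coeffAt_mem fun q => ?_⟩
  · rw [map_sum, ← he'.complete]
    exact Finset.sum_congr rfl fun p _ => by simp
  · rw [map_sum, TensorProduct.sum_tmul]
    refine Finset.sum_congr rfl fun p _ => ?_
    rw [TensorProduct.tmul_sum, Finset.sum_eq_single p (fun q _ hq => ?_) (by simp)]
    · rw [hsingle (p : P) (e p), map_smul, TensorProduct.tmul_smul, ← TensorProduct.smul_tmul', smul_smul, he'.idem p]
      simp
    · rw [hsingle (p : P) (e p), hsingle (q : P) (e q), TensorProduct.tmul_smul, ← TensorProduct.smul_tmul', smul_smul,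
        he'.ortho hq, zero_smul]
  · rw [map_sub, hz, ← Ideal.Quotient.eq_zero_iff_mem, map_sub, sub_eq_zero]
    by_cases hq : q ∈ T
    · simp only [E, dif_pos hq]
      exact congrFun hee ⟨q, hq⟩
    · simp only [E, dif_neg hq, map_zero]
      have h0 : coeffAt S q y = 0 := by simpa [coeffAt, T] using hq
      rw [h0, map_zero]

theorem counit_sub_one_mem {R : Type u} [CommRing R] {A : Type u} [CommRing A] [HopfAlgebra R A] {x : A}
    (J K : Ideal R) (hK : ∀ r ∈ K, IsNilpotent r)
    (hx : glDefect (R := R) x ∈ J • (⊤ : Submodule R (A ⊗[R] A)))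
    (hc : CoalgebraStruct.counit (R := R) x - 1 ∈ K) : CoalgebraStruct.counit (R := R) x - 1 ∈ J := by
  set ε := CoalgebraStruct.counit (R := R) (A := A)
  have h := map_mem_of_mem_smul (LinearMap.mul' R R ∘ₗ TensorProduct.map ε ε) hx
  have h1 : LinearMap.mul' R R (TensorProduct.map ε ε (CoalgebraStruct.comul (R := R) x)) = ε x := by
    rw [show TensorProduct.map ε ε = TensorProduct.map LinearMap.id ε ∘ₗ TensorProduct.map ε LinearMap.id by
      rw [← TensorProduct.map_comp, LinearMap.id_comp, LinearMap.comp_id], LinearMap.comp_apply,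
      ← LinearMap.rTensor_def, Coalgebra.rTensor_counit_comul]
    simp
  rw [smul_eq_mul, Ideal.mul_top, LinearMap.comp_apply, glDefect, map_sub, map_sub, h1, TensorProduct.map_tmul,
    LinearMap.mul'_apply, show ε x - ε x * ε x = -(ε x * (ε x - 1)) by ring, neg_mem_iff] at h
  have hu : IsUnit (ε x) := by
    have := IsNilpotent.isUnit_one_add (hK _ hc)
    rwa [add_sub_cancel] at this
  exact (Ideal.unit_mul_mem_iff_mem J hu).mp h

/-- Over a trivialising algebra, the linearised obstruction vanishes. -/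
theorem tmul_defect_eq_zero {R : Type u} [CommRing R] {A : Type u} [CommRing A] [HopfAlgebra R A] {S : Type u}
    [CommRing S] [Algebra R S] {P : Type u} [CommGroup P] (e : (S ⊗[R] A) ≃ₐc[S] MonoidAlgebra S P) (J : Ideal R)
    (hJ : ∀ r ∈ J, IsNilpotent r) {x : A} (hx : glDefect (R := R) x ∈ J • (⊤ : Submodule R (A ⊗[R] A)))
    (hc : CoalgebraStruct.counit (R := R) x - 1 ∈ J) {Q : Type u} [AddCommGroup Q] [Module R Q] (q : A ⊗[R] A →ₗ[R] Q)
    (hq₁ : ∀ u ∈ J • (⊤ : Submodule R A), q (lin x u) = 0)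
    (hq₂ : ∀ z ∈ (J * J) • (⊤ : Submodule R (A ⊗[R] A)), q z = 0) :
    (1 : S) ⊗ₜ[R] q (glDefect x) = 0 := by
  let i : A →ₗ[R] S ⊗[R] A := TensorProduct.mk R S A 1
  let θ₀ : (S ⊗[R] A) ⊗[S] (S ⊗[R] A) →ₗ[S] S ⊗[R] Q :=
    q.baseChange S ∘ₗ (TensorProduct.AlgebraTensorModule.assoc R R S S A A).toLinearMap ∘ₗ
      (TensorProduct.AlgebraTensorModule.cancelBaseChange R S S (S ⊗[R] A) A).toLinearMap
  have hθ : ∀ (s t : S) (a b : A), θ₀ ((s ⊗ₜ[R] a) ⊗ₜ[S] (t ⊗ₜ[R] b)) = (t * s) ⊗ₜ[R] q (a ⊗ₜ[R] b) := fun s t a b => by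
    simp [θ₀, TensorProduct.smul_tmul']
  have hθc : ∀ a : A, θ₀ (CoalgebraStruct.comul (R := S) ((1 : S) ⊗ₜ[R] a)) = (1 : S) ⊗ₜ[R] q (CoalgebraStruct.comul (R := R) a) := by
    intro a
    rw [TensorProduct.comul_tmul, Bialgebra.comul_one]
    generalize CoalgebraStruct.comul (R := R) a = z
    induction z using TensorProduct.induction_on with
    | zero => simp
    | tmul b c => simp [hθ, Algebra.TensorProduct.one_def]
    | add b c hb hc => simp only [TensorProduct.tmul_add, map_add, hb, hc]
  let y : S ⊗[R] A := (1 : S) ⊗ₜ[R] x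
  have hJ' : ∀ r ∈ J.map (algebraMap R S), IsNilpotent r := fun r hr =>
    mem_nilradical.mp ((Ideal.map_le_iff_le_comap.mpr fun a ha => mem_nilradical.mpr ((hJ a ha).map _) :
      J.map (algebraMap R S) ≤ nilradical S) hr)
  have hy : glDefect (R := S) y ∈ J.map (algebraMap R S) • (⊤ : Submodule S ((S ⊗[R] A) ⊗[S] (S ⊗[R] A))) := by
    let ν : A ⊗[R] A →ₗ[R] (S ⊗[R] A) ⊗[S] (S ⊗[R] A) :=
      TensorProduct.lift (LinearMap.mk₂ R (fun a b => (i a) ⊗ₜ[S] (i b))
        (fun a a' b => by simp only [map_add, TensorProduct.add_tmul])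
        (fun r a b => by simp only [map_smul, TensorProduct.smul_tmul'])
        (fun a b b' => by simp only [map_add, TensorProduct.tmul_add])
        (fun r a b => by simp only [map_smul, ← algebraMap_smul S r, TensorProduct.tmul_smul]))
    have hν : glDefect (R := S) y = ν (glDefect x) := by
      rw [glDefect, glDefect, map_sub]
      congr 1
      simp only [y]
      rw [TensorProduct.comul_tmul, Bialgebra.comul_one]
      generalize CoalgebraStruct.comul (R := R) x = z
      induction z using TensorProduct.induction_on with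
      | zero => simp
      | tmul a b => simp [ν, i, Algebra.TensorProduct.one_def]
      | add a b ha hb => simp only [TensorProduct.tmul_add, map_add, ha, hb]
    rw [hν]
    exact map_mem_smul ν J hx
  let el : S ⊗[R] A →ₗ[S] MonoidAlgebra S P := (e : (S ⊗[R] A) →ₐc[S] MonoidAlgebra S P)
  have hey : glDefect (R := S) (el y) = TensorProduct.map el el (glDefect y) := by
    rw [glDefect, glDefect, map_sub, TensorProduct.map_tmul]
    exact congrArg (· - _) (CoalgHomClass.map_comp_comul_apply e y).symm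
  have hcy : CoalgebraStruct.counit (R := S) (el y) - 1 ∈ J.map (algebraMap R S) := by
    rw [show CoalgebraStruct.counit (R := S) (el y) = CoalgebraStruct.counit (R := S) y from CoalgHomClass.counit_comp_apply e y,
      TensorProduct.counit_tmul, Bialgebra.counit_one, ← algebraMap_smul S (CoalgebraStruct.counit (R := R) x), smul_eq_mul, mul_one,
      ← map_one (algebraMap R S), ← map_sub]
    exact Ideal.mem_map_of_mem _ hc
  obtain ⟨z, hz, hzy⟩ := exists_groupLike_of_defect_mem _ hJ' (y := el y) (by rw [hey]; exact map_mem_of_mem_smul _ hy) hcy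
  let z' : S ⊗[R] A := e.symm z
  have hz' : IsGroupLikeElem S z' := hz.map e.symm
  let v : S ⊗[R] A := z' - y
  have hv : v ∈ J.map (algebraMap R S) • (⊤ : Submodule S (S ⊗[R] A)) := by
    have h := map_mem_of_mem_smul ((e.symm : MonoidAlgebra S P →ₐc[S] (S ⊗[R] A)) : MonoidAlgebra S P →ₗ[S] S ⊗[R] A) hzy
    rw [map_sub] at h
    have h' : ((e.symm : MonoidAlgebra S P →ₐc[S] (S ⊗[R] A)) : MonoidAlgebra S P →ₗ[S] S ⊗[R] A) (el y) = y :=
      e.symm_apply_apply y
    rw [h'] at h
    exact h
  have h0 : glDefect (R := S) y + lin y v - v ⊗ₜ[S] v = 0 := by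
    rw [← glDefect_add, add_sub_cancel, glDefect, hz'.comul_eq_tmul_self, sub_self]
  have h1 := congrArg θ₀ h0
  have hlin : θ₀ (lin y v) = 0 := by
    change (θ₀ ∘ₗ lin y) v = 0
    refine LinearMap.mem_ker.mp ((Submodule.smul_le.mpr ?_) hv)
    intro r hr w hw
    clear hw
    rw [LinearMap.mem_ker, map_smul]
    induction hr using Submodule.span_induction with
    | zero => rw [zero_smul]
    | add a b _ _ ha hb => rw [add_smul, ha, hb, add_zero]
    | smul a b _ hb => rw [smul_eq_mul, mul_smul, hb, smul_zero]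
    | mem a ha =>
      obtain ⟨r, hr, rfl⟩ := ha
      induction w using TensorProduct.induction_on with
      | zero => simp
      | add b c hb hc => rw [map_add, smul_add, hb, hc, add_zero]
      | tmul s b =>
        have hs : s ⊗ₜ[R] b = s • ((1 : S) ⊗ₜ[R] b) := by rw [TensorProduct.smul_tmul', smul_eq_mul, mul_one]
        have hl : θ₀ (lin y ((1 : S) ⊗ₜ[R] b)) = (1 : S) ⊗ₜ[R] q (lin x b) := by
          simp only [lin, LinearMap.sub_apply, LinearMap.flip_apply, TensorProduct.mk_apply, map_sub, TensorProduct.tmul_sub, hθc, y, hθ, mul_one]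
        rw [hs, map_smul, LinearMap.comp_apply, hl, smul_comm, algebraMap_smul, ← TensorProduct.tmul_smul, ← map_smul,
          ← map_smul, hq₁ _ (Submodule.smul_mem_smul hr Submodule.mem_top), TensorProduct.tmul_zero, smul_zero]
  have hquad : θ₀ (v ⊗ₜ[S] v) = 0 := by
    refine LinearMap.mem_ker.mp ((Submodule.smul_le.mpr ?_) (smul_top_tmul _ _ hv hv))
    intro r hr w hw
    clear hw
    rw [LinearMap.mem_ker, map_smul]
    rw [← Ideal.map_mul] at hr
    induction hr using Submodule.span_induction with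
    | zero => rw [zero_smul]
    | add a b _ _ ha hb => rw [add_smul, ha, hb, add_zero]
    | smul a b _ hb => rw [smul_eq_mul, mul_smul, hb, smul_zero]
    | mem a ha =>
      obtain ⟨r, hr, rfl⟩ := ha
      induction w using TensorProduct.induction_on with
      | zero => simp
      | add b c hb hc => rw [map_add, smul_add, hb, hc, add_zero]
      | tmul b c =>
        induction b using TensorProduct.induction_on with
        | zero => simp
        | add b b' hb hb' => rw [TensorProduct.add_tmul, map_add, smul_add, hb, hb', add_zero]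
        | tmul s b =>
          induction c using TensorProduct.induction_on with
          | zero => simp
          | add c c' hc hc' => rw [TensorProduct.tmul_add, map_add, smul_add, hc, hc', add_zero]
          | tmul t c =>
            rw [hθ, algebraMap_smul, ← TensorProduct.tmul_smul, ← map_smul,
              hq₂ _ (Submodule.smul_mem_smul hr Submodule.mem_top), TensorProduct.tmul_zero]
  rw [map_sub, map_add, hlin, hquad, map_zero, add_zero, sub_zero, glDefect, map_sub, hθc, hθ, mul_one,
    ← TensorProduct.tmul_sub, ← map_sub] at h1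
  exact h1

set_option synthInstance.maxHeartbeats 200000 in
set_option maxHeartbeats 800000 in
/-- Diagonalisability after a flat base change, in one step. -/
theorem exists_trivialisations {R : Type u} [CommRing R] {A : Type u} [CommRing A] [HopfAlgebra R A]
    (h : SGA3b.IsMultType R A) :
    ∃ s : Set R, Ideal.span s = ⊤ ∧ ∀ f ∈ s, ∃ (S : Type u) (_ : CommRing S) (_ : Algebra R S) (P : Type u) (_ : CommGroup P),
      Module.Flat R S ∧ Nonempty ((S ⊗[R] A) ≃ₐc[S] MonoidAlgebra S P) ∧
        ∀ (Q : Type u) [AddCommGroup Q] [Module R Q] (q : Q), (1 : S) ⊗ₜ[R] q = 0 → ∃ n : ℕ, f ^ n • q = 0 := by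
  obtain ⟨s, hs, hc⟩ := h
  refine ⟨s, hs, fun f hf => ?_⟩
  obtain ⟨S, _, _, _, P, _, ⟨e⟩⟩ := hc f hf
  let L := Localization.Away f
  letI algRS : Algebra R S := Algebra.compHom S (algebraMap R L)
  haveI : IsScalarTower R L S := IsScalarTower.of_algebraMap_eq fun _ => rfl
  haveI : Module.Flat R S := Module.Flat.trans R L S
  let T : S ⊗[L] (L ⊗[R] A) ≃ₐ[S] S ⊗[R] A := Algebra.TensorProduct.cancelBaseChange R L S S A
  have hT : ∀ (s : S) (a : A), T.symm (s ⊗ₜ[R] a) = s ⊗ₜ[L] ((1 : L) ⊗ₜ[R] a) := fun s a => by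
    rw [AlgEquiv.symm_apply_eq]
    simp [T]
  let T' : S ⊗[R] A ≃ₐc[S] S ⊗[L] (L ⊗[R] A) := BialgEquiv.ofAlgEquiv
    (R := S) (A := S ⊗[R] A) (B := S ⊗[L] (L ⊗[R] A)) T.symm
    (by
      ext a
      simp [hT, TensorProduct.counit_tmul, Algebra.algebraMap_eq_smul_one])
    (by
      ext a
      simp only [AlgHom.comp_apply, AlgHom.coe_restrictScalars', Algebra.TensorProduct.includeRight_apply]
      show Algebra.TensorProduct.map T.symm.toAlgHom T.symm.toAlgHom (CoalgebraStruct.comul (R := S) ((1 : S) ⊗ₜ[R] a)) =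
        CoalgebraStruct.comul (R := S) (T.symm ((1 : S) ⊗ₜ[R] a))
      rw [hT, TensorProduct.comul_tmul, TensorProduct.comul_tmul, TensorProduct.comul_tmul, Bialgebra.comul_one, Bialgebra.comul_one]
      generalize CoalgebraStruct.comul (R := R) a = z
      induction z using TensorProduct.induction_on with
      | zero => simp
      | tmul b c => simp [hT, Algebra.TensorProduct.one_def, Algebra.TensorProduct.map_tmul]
      | add b c hb hc => simp only [TensorProduct.tmul_add, map_add, hb, hc])
  refine ⟨S, inferInstance, algRS, P, inferInstance, inferInstance, ⟨T'.trans e⟩, fun Q _ _ q hq => ?_⟩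
  have h1 : (1 : S) ⊗ₜ[L] ((1 : L) ⊗ₜ[R] q) = 0 := by
    have := congrArg (TensorProduct.AlgebraTensorModule.cancelBaseChange R L S S Q).symm hq
    simpa using this
  rw [Module.FaithfullyFlat.one_tmul_eq_zero_iff] at h1
  obtain ⟨⟨_, n, rfl⟩, hn⟩ := (IsLocalizedModule.eq_zero_iff (Submonoid.powers f) (TensorProduct.mk R L Q 1)).mp h1
  exact ⟨n, hn⟩

/-- One step of the lifting. -/
theorem exists_step {R : Type u} [CommRing R] {A : Type u} [CommRing A] [HopfAlgebra R A]
    (h : SGA3b.IsMultType R A) (K : Ideal R) (hK : ∀ r ∈ K, IsNilpotent r) (n : ℕ) (hn : 1 ≤ n) {x : A}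
    (hx : glDefect (R := R) x ∈ K ^ n • (⊤ : Submodule R (A ⊗[R] A)))
    (hc : CoalgebraStruct.counit (R := R) x - 1 ∈ K) :
    ∃ u ∈ K ^ n • (⊤ : Submodule R A), glDefect (R := R) (x + u) ∈ K ^ (n + 1) • (⊤ : Submodule R (A ⊗[R] A)) := by
  have hle : K ^ n * K ^ n ≤ K ^ (n + 1) := by rw [← pow_add]; exact Ideal.pow_le_pow_right (by omega)
  let W : Submodule R (A ⊗[R] A) := (K ^ n • (⊤ : Submodule R A)).map (lin x) ⊔ (K ^ (n + 1) • ⊤)
  suffices hW : glDefect (R := R) x ∈ W by
    obtain ⟨_, ⟨u, hu, rfl⟩, w, hw, hsum⟩ := Submodule.mem_sup.mp hW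
    refine ⟨-u, neg_mem hu, ?_⟩
    rw [glDefect_add, map_neg, ← hsum, show lin x u + w + -lin x u = w by abel]
    exact sub_mem hw (Submodule.smul_mono hle le_rfl (smul_top_tmul _ _ (neg_mem hu) (neg_mem hu)))
  have hpow : K ^ n ≤ K := Ideal.pow_le_self (by omega)
  obtain ⟨s, hs, ht⟩ := exists_trivialisations h
  rw [← Submodule.Quotient.mk_eq_zero]
  refine eq_zero_of_forall_pow_smul hs fun f hf => ?_
  obtain ⟨S, _, _, P, _, _, ⟨e⟩, hdet⟩ := ht f hf
  refine hdet _ _ ?_
  exact tmul_defect_eq_zero e (K ^ n) (fun r hr => hK r (hpow hr)) hx (counit_sub_one_mem _ K hK hx hc) W.mkQ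
    (fun u hu => (Submodule.Quotient.mk_eq_zero W).mpr (Submodule.mem_sup_left ⟨u, hu, rfl⟩))
    (fun z hz => (Submodule.Quotient.mk_eq_zero W).mpr (Submodule.mem_sup_right (Submodule.smul_mono hle le_rfl hz)))

/-- An almost group-like element is congruent to a group-like one. -/
theorem exists_groupLike {R : Type u} [CommRing R] {A : Type u} [CommRing A] [HopfAlgebra R A]
    (h : SGA3b.IsMultType R A) (I : Ideal R) (hI : ∀ r ∈ I, IsNilpotent r) {x : A}
    (hx : glDefect (R := R) x ∈ I • (⊤ : Submodule R (A ⊗[R] A)))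
    (hc : CoalgebraStruct.counit (R := R) x - 1 ∈ I) :
    ∃ g : A, IsGroupLikeElem R g ∧ g - x ∈ I • (⊤ : Submodule R A) := by
  obtain ⟨c, hcI, hsum⟩ : ∃ K : Ideal R, (K.FG ∧ K ≤ I) ∧
      glDefect (R := R) x ∈ K • (⊤ : Submodule R (A ⊗[R] A)) := by
    generalize glDefect (R := R) x = d at hx
    induction hx using Submodule.smul_induction_on' with
    | smul r hr m _ =>
      exact ⟨Ideal.span {r}, ⟨⟨{r}, by simp⟩, by rwa [Ideal.span_singleton_le_iff_mem]⟩,
        Submodule.smul_mem_smul (Ideal.mem_span_singleton_self r) Submodule.mem_top⟩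
    | add a _ b _ ha hb =>
      obtain ⟨K, ⟨hK, hKI⟩, haK⟩ := ha
      obtain ⟨K', ⟨hK', hKI'⟩, hbK⟩ := hb
      exact ⟨K ⊔ K', ⟨Submodule.FG.sup hK hK', sup_le hKI hKI'⟩,
        add_mem (Submodule.smul_mono le_sup_left le_rfl haK) (Submodule.smul_mono le_sup_right le_rfl hbK)⟩
  let K : Ideal R := c ⊔ Ideal.span {CoalgebraStruct.counit (R := R) x - 1}
  have hKI : K ≤ I := sup_le hcI.2 (by rwa [Ideal.span_singleton_le_iff_mem])
  have hKfg : K.FG := Submodule.FG.sup hcI.1 ⟨{CoalgebraStruct.counit (R := R) x - 1}, by simp⟩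
  have hKn : ∀ r ∈ K, IsNilpotent r := fun r hr => hI r (hKI hr)
  obtain ⟨N, hN⟩ := hKfg.isNilpotent_iff_le_nilradical.mpr fun r hr => mem_nilradical.mpr (hKn r hr)
  have hcK : CoalgebraStruct.counit (R := R) x - 1 ∈ K :=
    Submodule.mem_sup_right (Ideal.mem_span_singleton_self _)
  have hstep : ∀ n : ℕ, ∃ v ∈ K • (⊤ : Submodule R A),
      glDefect (R := R) (x + v) ∈ K ^ (n + 1) • (⊤ : Submodule R (A ⊗[R] A)) := by
    intro n
    induction n with
    | zero => exact ⟨0, zero_mem _, by rw [add_zero, pow_one]; exact Submodule.smul_mono le_sup_left le_rfl hsum⟩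
    | succ n ih =>
      obtain ⟨v, hv, hvd⟩ := ih
      have hcv : CoalgebraStruct.counit (R := R) (x + v) - 1 ∈ K := by
        rw [map_add, add_sub_right_comm]
        refine add_mem hcK ?_
        have := map_mem_of_mem_smul (CoalgebraStruct.counit (R := R) (A := A)) hv
        rwa [smul_eq_mul, Ideal.mul_top] at this
      obtain ⟨u, hu, hud⟩ := exists_step h K hKn (n + 1) (Nat.le_add_left 1 n) hvd hcv
      refine ⟨v + u, add_mem hv (Submodule.smul_mono (Ideal.pow_le_self (Nat.succ_ne_zero n)) le_rfl hu), ?_⟩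
      rw [← add_assoc]; exact hud
  obtain ⟨v, hv, hvd⟩ := hstep N
  rw [pow_succ, hN, zero_mul, show (0 : Ideal R) = ⊥ from rfl, Submodule.bot_smul, Submodule.mem_bot] at hvd
  refine ⟨x + v, ⟨?_, sub_eq_zero.mp hvd⟩, by rw [add_sub_cancel_left]; exact Submodule.smul_mono hKI le_rfl hv⟩
  have hcv : CoalgebraStruct.counit (R := R) (x + v) - 1 ∈ K := by
    rw [map_add, add_sub_right_comm]
    refine add_mem hcK ?_
    have := map_mem_of_mem_smul (CoalgebraStruct.counit (R := R) (A := A)) hv
    rwa [smul_eq_mul, Ideal.mul_top] at this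
  have := counit_sub_one_mem (⊥ : Ideal R) K hKn (by rw [hvd]; exact zero_mem _) hcv
  exact sub_eq_zero.mp this

/-- Group-like elements congruent modulo a nil ideal are equal. -/
theorem groupLike_eq_of_sub_mem {R : Type u} [CommRing R] {A : Type u} [CommRing A] [HopfAlgebra R A]
    (h : SGA3b.IsMultType R A) (I : Ideal R) (hI : ∀ r ∈ I, IsNilpotent r) {g g' : A}
    (hg : IsGroupLikeElem R g) (hg' : IsGroupLikeElem R g') (hsub : g - g' ∈ I • (⊤ : Submodule R A)) : g = g' := by
  classical
  obtain ⟨s, hs, ht⟩ := exists_trivialisations h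
  rw [← sub_eq_zero]
  refine eq_zero_of_forall_pow_smul hs fun f hf => ?_
  obtain ⟨S, _, _, P, _, _, ⟨e⟩, hdet⟩ := ht f hf
  refine hdet _ _ ?_
  apply EquivLike.injective e
  rw [TensorProduct.tmul_sub, map_sub, map_zero, sub_eq_zero]
  have hJ : ∀ r ∈ I.map (algebraMap R S), IsNilpotent r := fun r hr =>
    mem_nilradical.mp ((Ideal.map_le_iff_le_comap.mpr fun a ha => mem_nilradical.mpr ((hI a ha).map _) :
      I.map (algebraMap R S) ≤ nilradical S) hr)
  have hG := (groupLike_baseChange S hg).map e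
  have hG' := (groupLike_baseChange S hg').map e
  have hmem := map_mem_of_mem_smul ((e : (S ⊗[R] A) →ₐc[S] MonoidAlgebra S P) : (S ⊗[R] A) →ₗ[S] MonoidAlgebra S P)
    (map_mem_smul (S := S) (TensorProduct.mk R S A 1) I hsub)
  apply (MonoidAlgebra.coeffLinearEquiv S).injective
  ext p
  show coeffAt S p _ = coeffAt S p _
  refine eq_of_isNilpotent_sub_of_isIdempotentElem ?_ ?_ (hJ _ ?_)
  · have := groupLike_coeff_mul hG p p; rwa [if_pos rfl] at this
  · have := groupLike_coeff_mul hG' p p; rwa [if_pos rfl] at this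
  · have h1 := coeffAt_mem_of_mem_smul hmem p
    rw [map_sub, map_sub, map_sub] at h1
    exact h1

end Groth.Agent.H83.MultType
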